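import Mathlib

/-!
Arithmetic of the numbers `q - 1`, `q + 1`, `q - r + 1`, `q + r + 1`.
-/

set_option autoImplicit false

namespace CfsgLib.Ree

/-- The numerical hypotheses on `q = 3 ^ (2 m + 1)` and `r = 3 ^ (m + 1)`. -/
structure Params (q r : ℕ) : Prop where
  sq : r * r = 3 * q
  le : 27 ≤ q
  mod8 : q % 8 = 3
  mod3 : q % 3 = 0
  rle : 3 * r ≤ q
  rmod : r % 6 = 3

theorem params {m : ℕ} (hm : 1 ≤ m) : Params (3 ^ (2 * m + 1)) (3 ^ (m + 1)) where
  sq := by rw [← pow_add, ← pow_succ']; congr 1; omega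
  le := le_trans (by norm_num) (Nat.pow_le_pow_right (n := 3) (by norm_num)
    (show 3 ≤ 2 * m + 1 by omega))
  mod8 := by rw [pow_succ, pow_mul, Nat.mul_mod, Nat.pow_mod]; norm_num
  mod3 := by rw [pow_succ, Nat.mul_mod_left]
  rle := by rw [← pow_succ']; exact Nat.pow_le_pow_right (by norm_num) (by omega)
  rmod := by
    have h : ∀ k, 3 ^ (k + 1) % 6 = 3 := fun k => by
      induction k with
      | zero => rfl
      | succ k ih => rw [pow_succ, Nat.mul_mod, ih]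
    exact h m

variable {q r : ℕ} (h : Params q r)
include h

theorem Params.eight : (q + 1) % 8 = 4 := by have := h.mod8; omega

theorem Params.prod_eq : (q + 1 - r) * (q + r + 1) = q ^ 2 - q + 1 := by
  have h1 := h.sq
  have h2 := h.rle
  obtain ⟨a, ha⟩ : ∃ a, q + 1 = a + r := ⟨q + 1 - r, by omega⟩
  have h4 : q ≤ q ^ 2 := Nat.le_self_pow (by norm_num) q
  have h5 : q ^ 2 - q + q = q ^ 2 := Nat.sub_add_cancel h4
  rw [show q + 1 - r = a by omega, show q + r + 1 = a + r + r by omega]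
  nlinarith

/-- A prime at least five divides at most one of the four numbers. -/
theorem Params.disjoint {p : ℕ} (hp : p.Prime) (h5 : 5 ≤ p) :
    ¬ (p ∣ q - 1 ∧ p ∣ q + 1) ∧ ¬ (p ∣ q - 1 ∧ p ∣ q + 1 - r) ∧ ¬ (p ∣ q - 1 ∧ p ∣ q + r + 1) ∧
      ¬ (p ∣ q + 1 ∧ p ∣ q + 1 - r) ∧ ¬ (p ∣ q + 1 ∧ p ∣ q + r + 1) ∧
      ¬ (p ∣ q + 1 - r ∧ p ∣ q + r + 1) := by
  have hsm : ∀ k, p ∣ k → k ≤ 4 → k = 0 := fun k hk hk4 =>
    Nat.eq_zero_of_dvd_of_lt hk (by omega)
  have hr := h.rle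
  have hq := h.le
  obtain ⟨n, hn⟩ : ∃ n, q = n + 2 := ⟨q - 2, by omega⟩
  have e1 : q ^ 2 - q + 1 = (n + 2) * (q - 1) + 1 := by
    rw [hn, show (n + 2) ^ 2 = (n + 2) * (n + 1) + (n + 2) by ring, Nat.add_sub_cancel,
      show n + 2 - 1 = n + 1 from rfl]
  have e2 : q ^ 2 - q + 1 = n * (q + 1) + 3 := by
    rw [hn, show (n + 2) ^ 2 = n * (n + 2 + 1) + 2 + (n + 2) by ring, Nat.add_sub_cancel]
  have hm1 : p ∣ q - 1 → ¬ p ∣ q ^ 2 - q + 1 := fun h1 h2 => by
    rw [e1, Nat.dvd_add_right (dvd_mul_of_dvd_right h1 _)] at h2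
    have := hsm 1 h2 (by norm_num)
    omega
  have hp1 : p ∣ q + 1 → ¬ p ∣ q ^ 2 - q + 1 := fun h1 h2 => by
    rw [e2, Nat.dvd_add_right (dvd_mul_of_dvd_right h1 _)] at h2
    have := hsm 3 h2 (by norm_num)
    omega
  have ha : p ∣ q + 1 - r → p ∣ q ^ 2 - q + 1 := fun h1 => h.prod_eq ▸ dvd_mul_of_dvd_left h1 _
  have hb : p ∣ q + r + 1 → p ∣ q ^ 2 - q + 1 := fun h1 => h.prod_eq ▸ dvd_mul_of_dvd_right h1 _
  refine ⟨fun ⟨h1, h2⟩ => ?_, fun ⟨h1, h2⟩ => hm1 h1 (ha h2), fun ⟨h1, h2⟩ => hm1 h1 (hb h2),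
    fun ⟨h1, h2⟩ => hp1 h1 (ha h2), fun ⟨h1, h2⟩ => hp1 h1 (hb h2), fun ⟨h1, h2⟩ => ?_⟩
  · have := hsm 2 (by
      have := Nat.dvd_sub h2 h1
      rwa [show q + 1 - (q - 1) = 2 by omega] at this) (by norm_num)
    omega
  · have h3 : p ∣ 2 * r := by
      have := Nat.dvd_sub h2 h1
      rwa [show q + r + 1 - (q + 1 - r) = 2 * r by omega] at this
    have hpr : p ∣ r := by
      rcases hp.dvd_mul.mp h3 with h4 | h4
      · have := hsm 2 h4 (by norm_num); omega
      · exact h4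
    have hpq : p ∣ 3 * q := h.sq ▸ dvd_mul_of_dvd_left hpr r
    rcases hp.dvd_mul.mp hpq with h4 | h4
    · have := hsm 3 h4 (by norm_num); omega
    · have h6 : p ∣ q + 1 := by
        have := Nat.dvd_add h1 hpr
        rwa [show q + 1 - r + r = q + 1 by omega] at this
      have := hsm 1 ((Nat.dvd_add_right h4).mp h6) (by norm_num)
      omega

theorem Params.odd_a : Odd (q + 1 - r) := by
  have := h.rle; have := h.mod8; have := h.rmod
  rw [Nat.odd_iff]; omega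

theorem Params.odd_b : Odd (q + r + 1) := by
  have := h.mod8; have := h.rmod
  rw [Nat.odd_iff]; omega

theorem Params.coprime_six_a : Nat.Coprime 6 (q + 1 - r) := by
  have := h.rle; have := h.mod8; have := h.rmod; have := h.mod3
  exact Nat.Coprime.mul_left (k := q + 1 - r) (m := 2) (n := 3)
    ((Nat.prime_two.coprime_iff_not_dvd).mpr (by omega))
    ((Nat.prime_three.coprime_iff_not_dvd).mpr (by omega))

theorem Params.coprime_six_b : Nat.Coprime 6 (q + r + 1) := by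
  have := h.mod8; have := h.rmod; have := h.mod3
  exact Nat.Coprime.mul_left (k := q + r + 1) (m := 2) (n := 3)
    ((Nat.prime_two.coprime_iff_not_dvd).mpr (by omega))
    ((Nat.prime_three.coprime_iff_not_dvd).mpr (by omega))

theorem Params.coprime_six_quarter : Nat.Coprime 6 ((q + 1) / 4) := by
  have := h.mod8; have := h.mod3
  exact Nat.Coprime.mul_left (k := (q + 1) / 4) (m := 2) (n := 3)
    ((Nat.prime_two.coprime_iff_not_dvd).mpr (by omega))
    ((Nat.prime_three.coprime_iff_not_dvd).mpr (by omega))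

theorem Params.coprime_six_half : Nat.Coprime 6 ((q - 1) / 2) := by
  have := h.mod8; have := h.mod3; have := h.le
  exact Nat.Coprime.mul_left (k := (q - 1) / 2) (m := 2) (n := 3)
    ((Nat.prime_two.coprime_iff_not_dvd).mpr (by omega))
    ((Nat.prime_three.coprime_iff_not_dvd).mpr (by omega))

omit h in
theorem exists_prime_ge_five {k : ℕ} (hk : Nat.Coprime 6 k) (h1 : 1 < k) :
    ∃ p, p.Prime ∧ 5 ≤ p ∧ p ∣ k := by
  obtain ⟨p, hp, hpk⟩ := Nat.exists_prime_and_dvd (show k ≠ 1 by omega)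
  refine ⟨p, hp, ?_, hpk⟩
  have h2 := hp.two_le
  by_contra hcon
  have hp' : p ∣ 6 := by
    rcases (show p = 2 ∨ p = 3 ∨ p = 4 by omega) with rfl | rfl | rfl
    · norm_num
    · norm_num
    · norm_num at hp
  exact hp.one_lt.ne' (Nat.dvd_one.mp (hk ▸ Nat.dvd_gcd hp' hpk))

end CfsgLib.Ree
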