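import Cfsg.Agent.Ree.Tori

/-!
The census of the elements: one class of tori for each of the four orders.
-/

set_option autoImplicit false

namespace CfsgLib.Ree

open Cfsg.Lie CfsgLib.Chevalley

section General

theorem natCard_or {α : Type*} [Finite α] (P Q : α → Prop) (h : ∀ x, P x → ¬ Q x) :
    Nat.card {x // P x ∨ Q x} = Nat.card {x // P x} + Nat.card {x // Q x} := by
  classical
  haveI := Fintype.ofFinite α
  simp only [Nat.card_eq_fintype_card]
  exact Fintype.card_subtype_or_disjoint P Q (by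
    rw [Pi.disjoint_iff]
    exact fun x => Prop.disjoint_iff.mpr (not_and.mpr (h x)))

theorem natCard_add_compl {α : Type*} [Finite α] (P : α → Prop) :
    Nat.card {x // P x} + Nat.card {x // ¬ P x} = Nat.card α := by
  classical
  rw [← natCard_or P (fun x => ¬ P x) fun x h => not_not.mpr h]
  exact Nat.card_congr (Equiv.subtypeUnivEquiv fun x => em (P x))

end General

variable {K : Type*} [Field K] [CharP K 3] {m : ℕ} [Fintype K]

local notation "G¹" => twistedG2 K (3 ^ m)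
local notation "q₀" => 3 ^ (2 * m + 1)
local notation "r₀" => 3 ^ (m + 1)

/-- The two centralisers are conjugate. -/
def SameTorus (x y : ↥G¹) : Prop :=
  ∃ c : ↥G¹, ∀ z, z ∈ Subgroup.centralizer {y} ↔ c * z * c⁻¹ ∈ Subgroup.centralizer {x}

/-- The four orders. -/
def torusNum (m : ℕ) : Fin 4 → ℕ :=
  ![3 ^ (2 * m + 1) - 1, 3 ^ (2 * m + 1) + 1, 3 ^ (2 * m + 1) + 1 - 3 ^ (m + 1),
    3 ^ (2 * m + 1) + 3 ^ (m + 1) + 1]

/-- The four small factors. -/
def torusSmall : Fin 4 → ℕ := ![2, 4, 1, 1]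

theorem torusNum_disjoint {hm : 1 ≤ m} {p : ℕ} (hp : p.Prime) (h5 : 5 ≤ p) {i j : Fin 4}
    (hi : p ∣ torusNum m i) (hj : p ∣ torusNum m j) : i = j := by
  obtain ⟨h1, h2, h3, h4, h5', h6⟩ := (params hm).disjoint hp h5
  fin_cases i <;> fin_cases j <;> simp [torusNum] at hi hj ⊢ <;> tauto

/-- Conjugate centralisers have the same index in their normalisers. -/
theorem SameTorus.relIndex_eq {x y : ↥G¹} (h : SameTorus x y) :
    (Subgroup.centralizer {y}).relIndex
        (Subgroup.normalizer (Subgroup.centralizer {y} : Set ↥G¹)) =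
      (Subgroup.centralizer {x}).relIndex
        (Subgroup.normalizer (Subgroup.centralizer {x} : Set ↥G¹)) := by
  obtain ⟨c, hc⟩ := h
  have e : (Subgroup.centralizer {y}).map (MulAut.conj c).toMonoidHom = Subgroup.centralizer {x} := by
    ext z
    simp only [Subgroup.mem_map, MulEquiv.coe_toMonoidHom, MulAut.conj_apply]
    constructor
    · rintro ⟨w, hw, rfl⟩; exact (hc w).1 hw
    · intro hz
      refine ⟨c⁻¹ * z * c, (hc _).2 ?_, by group⟩
      rwa [show c * (c⁻¹ * z * c) * c⁻¹ = z by group]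
  rw [← e, ← Subgroup.map_equiv_normalizer_eq, Subgroup.relIndex_map_map_of_injective _ _
    (show Function.Injective (MulAut.conj c).toMonoidHom from (MulAut.conj c).injective)]

variable (hK : Fintype.card K = 3 ^ (2 * m + 1)) (hm : 1 ≤ m)
include hK hm

theorem torus_data {x : ↥G¹} {p : ℕ} (hp : p.Prime) (h5 : 5 ≤ p) (ho : orderOf x = p) :
    ∃ i d, Nat.card ↥(Subgroup.centralizer {x}) = torusSmall i * d ∧ Nat.Coprime 6 d ∧ 5 ≤ d ∧
      p ∣ torusNum m i ∧ d ∣ torusNum m i / torusSmall i ∧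
      (i = 0 → d = (q₀ - 1) / 2) := by
  obtain ⟨s, d, hc, hco, hpd, h⟩ := torus_cases hK hm hp h5 ho
  have hd5 : 5 ≤ d := by
    rcases Nat.eq_zero_or_pos d with rfl | hd0
    · norm_num at hco
    · exact h5.trans (Nat.le_of_dvd hd0 hpd)
  rcases h with ⟨rfl, hd, hpN⟩ | ⟨rfl, hd, hpN⟩ | ⟨rfl, hd, hpN⟩ | ⟨rfl, hd, hpN⟩
  · exact ⟨0, d, hc, hco, hd5, hpN, hd ▸ dvd_rfl, fun _ => hd⟩
  · exact ⟨1, d, hc, hco, hd5, hpN, hd, fun h => absurd h (by decide)⟩
  · exact ⟨2, d, hc, hco, hd5, hpN, by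
      simpa [torusNum, torusSmall] using hd, fun h => absurd h (by decide)⟩
  · exact ⟨3, d, hc, hco, hd5, hpN, by
      simpa [torusNum, torusSmall] using hd, fun h => absurd h (by decide)⟩

omit hm in
theorem sameTorus_of_inClass {x y g : ↥G¹} {p l : ℕ} (hp : p.Prime) (hp5 : 5 ≤ p)
    (hox : orderOf x = p) (hl : l.Prime) (hl5 : 5 ≤ l) (hoy : orderOf y = l)
    (hx : InClass x g) (hy : InClass y g) : SameTorus x y := by
  obtain ⟨a, ha, hg⟩ := hx
  obtain ⟨b, hb, -⟩ := hy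
  obtain ⟨z, t, ht, ht5, hot, hzg, -⟩ := exists_root hg
  have hmem : ∀ {w : ↥G¹} {c : ↥G¹}, c * g * c⁻¹ ∈ Subgroup.centralizer {w} →
      c * z * c⁻¹ ∈ Subgroup.centralizer {w} := fun {w c} h => by
    obtain ⟨n, rfl⟩ := Subgroup.mem_zpowers_iff.mp hzg
    rw [← conj_zpow]
    exact zpow_mem h n
  have e1 := cent_eq hK hp hp5 hox ht ht5 (by rw [orderOf_conj_eq, hot]) (hmem ha)
  have e2 := cent_eq hK hl hl5 hoy ht ht5 (by rw [orderOf_conj_eq, hot]) (hmem hb)
  refine ⟨a * b⁻¹, fun w => ?_⟩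
  rw [← e1, ← e2, Subgroup.mem_centralizer_singleton_iff, Subgroup.mem_centralizer_singleton_iff,
    show a * b⁻¹ * w * (a * b⁻¹)⁻¹ * (a * z * a⁻¹) = a * b⁻¹ * (w * (b * z * b⁻¹)) * b * a⁻¹ by group,
    show a * z * a⁻¹ * (a * b⁻¹ * w * (a * b⁻¹)⁻¹) = a * b⁻¹ * ((b * z * b⁻¹) * w) * b * a⁻¹ by
      group, mul_left_inj, mul_left_inj, mul_right_inj]

omit hK hm in
theorem SameTorus.inClass {x y g : ↥G¹} (h : SameTorus x y) (hg : InClass y g) : InClass x g := by
  obtain ⟨c, hc⟩ := h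
  obtain ⟨a, ha, hb⟩ := hg
  refine ⟨c * a, ?_, hb⟩
  have := (hc _).1 ha
  rwa [show c * a * g * (c * a)⁻¹ = c * (a * g * a⁻¹) * c⁻¹ by group]

omit hK hm in
theorem SameTorus.card_eq {x y : ↥G¹} (h : SameTorus x y) :
    Nat.card ↥(Subgroup.centralizer {y}) = Nat.card ↥(Subgroup.centralizer {x}) := by
  obtain ⟨c, hc⟩ := h
  exact Nat.card_congr (Equiv.subtypeEquiv (MulAut.conj c).toEquiv hc)

theorem sameTorus_split {x y : ↥G¹} {p l : ℕ} (hp : p.Prime) (hp5 : 5 ≤ p) (hox : orderOf x = p)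
    (hl : l.Prime) (hl5 : 5 ≤ l) (hoy : orderOf y = l) (hpd : p ∣ q₀ - 1) (hld : l ∣ q₀ - 1) :
    SameTorus x y := by
  obtain ⟨a, -, ha⟩ := split_case hK hm hp hp5 hox hpd
  obtain ⟨b, -, hb⟩ := split_case hK hm hl hl5 hoy hld
  refine ⟨a⁻¹ * b, fun w => ?_⟩
  have key : ∀ (c z u : ↥G¹), u ∈ Subgroup.centralizer {z} ↔
      c * u * c⁻¹ ∈ Subgroup.centralizer {c * z * c⁻¹} := by
    intro c z u
    rw [Subgroup.mem_centralizer_singleton_iff, Subgroup.mem_centralizer_singleton_iff,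
      show c * u * c⁻¹ * (c * z * c⁻¹) = c * (u * z) * c⁻¹ by group,
      show c * z * c⁻¹ * (c * u * c⁻¹) = c * (z * u) * c⁻¹ by group, mul_left_inj, mul_right_inj]
  rw [key b y, hb, key a x, ha,
    show a * (a⁻¹ * b * w * (a⁻¹ * b)⁻¹) * a⁻¹ = b * w * b⁻¹ by group]

/-- The equation for the size of a class of big elements. -/
theorem card_inClass_eq {x : ↥G¹} {p : ℕ} (hp : p.Prime) (h5 : 5 ≤ p) (ho : orderOf x = p)
    {s d : ℕ} (hs : s = 1 ∨ s = 2 ∨ s = 4)
    (hcard : Nat.card ↥(Subgroup.centralizer {x}) = s * d) (hco : Nat.Coprime 6 d) :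
    (Subgroup.centralizer {x}).relIndex
        (Subgroup.normalizer (Subgroup.centralizer {x} : Set ↥G¹)) * d *
      Nat.card {g : ↥G¹ // InClass x g} = Nat.card ↥G¹ * (d - 1) := by
  set C := Subgroup.centralizer {x}
  set N := Subgroup.normalizer (C : Set ↥G¹)
  rw [card_inClass hK hp h5 ho, card_big_in_torus hK hp h5 ho hs hcard hco, ← C.card_mul_index,
    ← Subgroup.relIndex_mul_index (Subgroup.le_normalizer : C ≤ N), hcard]
  rw [show s * d - s = s * (d - 1) by rw [Nat.mul_sub, mul_one]]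
  ring

/-- Numbers of elements of the small orders. -/
theorem card_small :
    Nat.card {g : ↥G¹ // ¬ IsBig g} = 1 + q₀ ^ 2 * (q₀ ^ 2 - q₀ + 1) + (q₀ ^ 2 - 1) * (q₀ ^ 3 + 1) +
      q₀ ^ 2 * (q₀ - 1) * (q₀ ^ 3 + 1) + q₀ ^ 2 * (q₀ - 1) * (q₀ ^ 3 + 1) := by
  have hiff : ∀ g : ↥G¹, ¬ IsBig g ↔
      (((orderOf g = 1 ∨ orderOf g = 2) ∨ orderOf g = 3) ∨ orderOf g = 6) ∨ orderOf g = 9 := by
    intro g
    constructor
    · intro h
      rcases orderOf_two_three hK (g := g) (fun p hp hd => by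
        by_contra h3
        refine h ⟨p, hp, ?_, hd⟩
        have h4 : p ≠ 4 := fun e => by subst e; norm_num at hp
        omega) with e | e | e | e | e <;> simp [e]
    · rintro h ⟨p, hp, h5, hd⟩
      have h9 : orderOf g ∣ 18 := by
        rcases h with (((e | e) | e) | e) | e <;> rw [e] <;> norm_num
      have : p ∣ 2 * 9 := hd.trans h9
      rcases hp.dvd_mul.mp this with h' | h'
      · have := Nat.le_of_dvd (by norm_num) h'; omega
      · have := Nat.le_of_dvd (by norm_num) (hp.dvd_of_dvd_pow (show p ∣ 3 ^ 2 from h'))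
        omega
  rw [Nat.card_congr (Equiv.subtypeEquivRight hiff),
    natCard_or _ _ (fun g h e => by omega), natCard_or _ _ (fun g h e => by omega),
    natCard_or _ _ (fun g h e => by omega), natCard_or _ _ (fun g h e => by omega),
    card_involutions hK, card_order_three hK, card_order_six hK, card_order_nine hK]
  have h1 : Nat.card {g : ↥G¹ // orderOf g = 1} = 1 :=
    (Nat.card_congr (Equiv.subtypeEquivRight fun g => orderOf_eq_one_iff)).trans Nat.card_unique
  rw [h1]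

/-- The result of the census. -/
theorem census :
    (∀ {x : ↥G¹} {p : ℕ}, p.Prime → 5 ≤ p → orderOf x = p → ∀ i, p ∣ torusNum m i →
      Nat.card ↥(Subgroup.centralizer {x}) = torusNum m i ∧
      (Subgroup.centralizer {x}).relIndex (Subgroup.normalizer (Subgroup.centralizer {x} : Set ↥G¹)) =
        if i = 0 then 2 else 6) ∧
    (∀ {x y : ↥G¹} {p l : ℕ}, p.Prime → 5 ≤ p → orderOf x = p → l.Prime → 5 ≤ l → orderOf y = l →
      ∀ i, p ∣ torusNum m i → l ∣ torusNum m i → SameTorus x y) := by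
  have hP := params hm
  have hnum : ∀ i : Fin 4, ∃ p, p.Prime ∧ 5 ≤ p ∧ p ∣ torusNum m i ∧ p ∣ Nat.card ↥G¹ := by
    have hG : ∀ N, N ∣ (q₀ - 1) * (q₀ ^ 3 + 1) → N ∣ Nat.card ↥G¹ := fun N h => by
      rw [card_twisted hK, mul_assoc]; exact dvd_mul_of_dvd_right h _
    have h3 : q₀ ^ 3 + 1 = (q₀ + 1) * (q₀ ^ 2 - q₀ + 1) := by
      obtain ⟨n, hn⟩ : ∃ n, q₀ = n + 1 := ⟨q₀ - 1, by have := hP.le; omega⟩
      rw [hn, show (n + 1) ^ 2 - (n + 1) + 1 = n ^ 2 + n + 1 by
        rw [show (n + 1) ^ 2 = n ^ 2 + n + (n + 1) by ring, Nat.add_sub_cancel]]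
      ring
    have hle := hP.le
    have hr := hP.rle
    have h8 := hP.mod8
    intro i
    fin_cases i
    · obtain ⟨p, hp, h5, hd⟩ := exists_prime_ge_five hP.coprime_six_half (by omega)
      have hd' : p ∣ q₀ - 1 := hd.trans (Nat.div_dvd_of_dvd (by omega))
      exact ⟨p, hp, h5, hd', hG _ (dvd_mul_of_dvd_left hd' _)⟩
    · obtain ⟨p, hp, h5, hd⟩ := exists_prime_ge_five hP.coprime_six_quarter (by omega)
      have hd' : p ∣ q₀ + 1 := hd.trans (Nat.div_dvd_of_dvd (by omega))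
      exact ⟨p, hp, h5, hd', hG _ (dvd_mul_of_dvd_right (h3 ▸ dvd_mul_of_dvd_left hd' _) _)⟩
    · obtain ⟨p, hp, h5, hd⟩ := exists_prime_ge_five hP.coprime_six_a (by omega)
      refine ⟨p, hp, h5, hd, hG _ (dvd_mul_of_dvd_right (h3 ▸ dvd_mul_of_dvd_right ?_ _) _)⟩
      exact hP.prod_eq ▸ dvd_mul_of_dvd_left hd _
    · obtain ⟨p, hp, h5, hd⟩ := exists_prime_ge_five hP.coprime_six_b (by omega)
      refine ⟨p, hp, h5, hd, hG _ (dvd_mul_of_dvd_right (h3 ▸ dvd_mul_of_dvd_right ?_ _) _)⟩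
      exact hP.prod_eq ▸ dvd_mul_of_dvd_right hd _
  choose pr hpr hpr5 hprd hprG using hnum
  have hx : ∀ i, ∃ x : ↥G¹, orderOf x = pr i := fun i =>
    haveI := Fact.mk (hpr i)
    exists_prime_orderOf_dvd_card' (pr i) (hprG i)
  choose X hX using hx
  -- the type of every element of large prime order
  have htype : ∀ {x : ↥G¹} {p : ℕ}, p.Prime → 5 ≤ p → orderOf x = p → ∀ i, p ∣ torusNum m i →
      ∃ d, Nat.card ↥(Subgroup.centralizer {x}) = torusSmall i * d ∧ Nat.Coprime 6 d ∧ 5 ≤ d ∧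
        d ∣ torusNum m i / torusSmall i ∧ (i = 0 → d = (q₀ - 1) / 2) := by
    intro x p hp h5 ho i hi
    obtain ⟨j, d, a, b, c, e, f, g⟩ := torus_data hK hm hp h5 ho
    obtain rfl := torusNum_disjoint (hm := hm) hp h5 hi e
    exact ⟨d, a, b, c, f, g⟩
  choose D hDc hDco hD5 hDdvd hD0 using fun i => htype (hpr i) (hpr5 i) (hX i) i (hprd i)
  have hs : ∀ i : Fin 4, torusSmall i = 1 ∨ torusSmall i = 2 ∨ torusSmall i = 4 := by decide
  have hdiv4 : ∀ i, torusSmall i * (torusNum m i / torusSmall i) = torusNum m i := by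
    have h8 := hP.mod8
    intro i
    fin_cases i <;> simp [torusNum, torusSmall] <;> omega
  -- the sizes of the classes
  let U : ↥G¹ → ℕ := fun x => Nat.card {g : ↥G¹ // InClass x g}
  let n : ↥G¹ → ℕ := fun x => (Subgroup.centralizer {x}).relIndex
    (Subgroup.normalizer (Subgroup.centralizer {x} : Set ↥G¹))
  have hU : ∀ {x : ↥G¹} {p : ℕ}, p.Prime → 5 ≤ p → orderOf x = p →
      (∀ k, n x ≤ k → ∃ d, 5 ≤ d ∧ Nat.card ↥G¹ * (d - 1) ≤ k * d * U x) := by
    intro x p hp h5 ho k hk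
    obtain ⟨i, d, a, b, c, -⟩ := torus_data hK hm hp h5 ho
    exact ⟨d, c, by rw [← card_inClass_eq hK hm hp h5 ho (hs i) a b]; gcongr⟩
  have hbound : ∀ {x : ↥G¹} {p : ℕ}, p.Prime → 5 ≤ p → orderOf x = p → ∀ k, n x ≤ k →
      4 * Nat.card ↥G¹ ≤ 5 * k * U x := by
    intro x p hp h5 ho k hk
    obtain ⟨d, hd, hle⟩ := hU hp h5 ho k hk
    obtain ⟨e, rfl⟩ : ∃ e, d = e + 5 := ⟨d - 5, by omega⟩
    refine Nat.le_of_mul_le_mul_right ?_ (show 0 < e + 5 by omega)
    rw [show e + 5 - 1 = e + 4 by omega] at hle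
    nlinarith
  have hn6 : ∀ {x : ↥G¹} {p : ℕ}, p.Prime → 5 ≤ p → orderOf x = p → n x ∣ 6 := fun hp h5 ho =>
    index_normalizer_dvd hK hp h5 ho
  -- disjointness
  have hdis : ∀ i j, i ≠ j → ∀ g, InClass (X i) g → ¬ InClass (X j) g := by
    intro i j hij g hi hj
    have hsame := sameTorus_of_inClass hK (hpr i) (hpr5 i) (hX i) (hpr j) (hpr5 j) (hX j) hi hj
    have hpd : pr i ∣ Nat.card ↥(Subgroup.centralizer {X j}) := by
      rw [hsame.card_eq]
      exact hX i ▸ Subgroup.orderOf_dvd_natCard _ (Subgroup.mem_centralizer_singleton_iff.mpr rfl)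
    refine hij (torusNum_disjoint (hm := hm) (hpr i) (hpr5 i) (hprd i) (hpd.trans ?_))
    rw [hDc j, ← hdiv4 j]
    exact mul_dvd_mul_left _ (hDdvd j)
  -- the split class
  have hn0 : n (X 0) = 2 := by
    obtain ⟨c, hc1, hc2⟩ := split_case hK hm (hpr 0) (hpr5 0) (hX 0) (hprd 0)
    have e := relIndex_splitT hK (hpr 0) (hpr5 0) (by rw [orderOf_conj_eq, hX 0]) hc1
    rw [← hc2] at e
    show (Subgroup.centralizer {X 0}).relIndex _ = 2
    rw [← e]
    refine SameTorus.relIndex_eq ⟨c, fun z => ?_⟩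
    rw [Subgroup.mem_centralizer_singleton_iff, Subgroup.mem_centralizer_singleton_iff,
      show c * z * c⁻¹ * (c * X 0 * c⁻¹) = c * (z * X 0) * c⁻¹ by group,
      show c * X 0 * c⁻¹ * (c * z * c⁻¹) = c * (X 0 * z) * c⁻¹ by group, mul_left_inj, mul_right_inj]
  have hU0 : 2 * (q₀ - 1) * U (X 0) = Nat.card ↥G¹ * (q₀ - 3) := by
    have e := card_inClass_eq hK hm (hpr 0) (hpr5 0) (hX 0) (hs 0) (hDc 0) (hDco 0)
    have h8 := hP.mod8
    have hd0 : 2 * D 0 = q₀ - 1 := by rw [hD0 0 rfl]; omega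
    have hd1 : 2 * (D 0 - 1) = q₀ - 3 := by omega
    calc 2 * (q₀ - 1) * U (X 0) = 2 * (n (X 0) * D 0 * U (X 0)) := by rw [hn0, ← hd0]; ring
      _ = 2 * (Nat.card ↥G¹ * (D 0 - 1)) := by rw [e]
      _ = _ := by rw [← hd1]; ring
  -- the partition
  let S := Nat.card {g : ↥G¹ // ¬ IsBig g}
  let O := Nat.card {g : ↥G¹ // IsBig g ∧ ∀ i, ¬ InClass (X i) g}
  have htotal : S + (U (X 0) + U (X 1) + U (X 2) + U (X 3) + O) = Nat.card ↥G¹ := by
    have hbig : ∀ g : ↥G¹, IsBig g ↔ (((InClass (X 0) g ∨ InClass (X 1) g) ∨ InClass (X 2) g) ∨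
        InClass (X 3) g) ∨ (IsBig g ∧ ∀ i, ¬ InClass (X i) g) := by
      intro g
      constructor
      · intro hg
        by_cases h : ∀ i, ¬ InClass (X i) g
        · exact Or.inr ⟨hg, h⟩
        · push Not at h
          obtain ⟨i, hi⟩ := h
          fin_cases i <;> simp_all
      · rintro ((((⟨c, -, hb⟩ | ⟨c, -, hb⟩) | ⟨c, -, hb⟩) | ⟨c, -, hb⟩) | ⟨hb, -⟩) <;> exact hb
    rw [← natCard_add_compl (fun g : ↥G¹ => IsBig g), add_comm S]
    congr 1
    rw [Nat.card_congr (Equiv.subtypeEquivRight hbig),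
      natCard_or _ _ (fun g h h' => by
        rcases h with ((a | a) | a) | a <;> exact h'.2 _ a),
      natCard_or _ _ (fun g h h' => by
        rcases h with (a | a) | a
        · exact hdis 0 3 (by decide) g a h'
        · exact hdis 1 3 (by decide) g a h'
        · exact hdis 2 3 (by decide) g a h'),
      natCard_or _ _ (fun g h h' => by
        rcases h with a | a
        · exact hdis 0 2 (by decide) g a h'
        · exact hdis 1 2 (by decide) g a h'),
      natCard_or _ _ (fun g a h' => hdis 0 1 (by decide) g a h')]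
  have hGc := card_twisted hK
  have hS : S = 1 + q₀ ^ 2 * (q₀ ^ 2 - q₀ + 1) + (q₀ ^ 2 - 1) * (q₀ ^ 3 + 1) +
      q₀ ^ 2 * (q₀ - 1) * (q₀ ^ 3 + 1) + q₀ ^ 2 * (q₀ - 1) * (q₀ ^ 3 + 1) := card_small hK hm
  have hhalf : Nat.card ↥G¹ ≤ 2 * (S + U (X 0)) := by
    obtain ⟨e, he⟩ : ∃ e, q₀ = e + 3 := ⟨q₀ - 3, by have := hP.le; omega⟩
    rw [he] at hS hGc hU0
    rw [show e + 3 - 1 = e + 2 from rfl, show e + 3 - 3 = e from rfl] at hU0
    rw [show e + 3 - 1 = e + 2 from rfl] at hS hGc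
    refine Nat.le_of_mul_le_mul_left ?_ (show 0 < e + 2 by omega)
    have hS' : 2 * ((e + 3) ^ 2 * (e + 2) * ((e + 3) ^ 3 + 1)) ≤ S := by omega
    nlinarith [Nat.zero_le e]
  have hpos : 0 < Nat.card ↥G¹ := Nat.card_pos
  have hb1 := hbound (hpr 1) (hpr5 1) (hX 1)
  have hb2 := hbound (hpr 2) (hpr5 2) (hX 2)
  have hb3 := hbound (hpr 3) (hpr5 3) (hX 3)
  have hle6 : ∀ {x : ↥G¹} {p : ℕ}, p.Prime → 5 ≤ p → orderOf x = p → n x ≤ 6 := fun hp h5 ho =>
    Nat.le_of_dvd (by norm_num) (hn6 hp h5 ho)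
  have g1 := hb1 6 (hle6 (hpr 1) (hpr5 1) (hX 1))
  have g2 := hb2 6 (hle6 (hpr 2) (hpr5 2) (hX 2))
  have g3 := hb3 6 (hle6 (hpr 3) (hpr5 3) (hX 3))
  have hsix : ∀ {x : ↥G¹} {p : ℕ}, p.Prime → 5 ≤ p → orderOf x = p → ¬ n x ≤ 3 → n x = 6 := by
    intro x p hp h5 ho h
    have := hn6 hp h5 ho
    have := hle6 hp h5 ho
    interval_cases hh : n x <;> omega
  have hn1 : n (X 1) = 6 := hsix (hpr 1) (hpr5 1) (hX 1) fun h => by have := hb1 3 h; omega
  have hn2 : n (X 2) = 6 := hsix (hpr 2) (hpr5 2) (hX 2) fun h => by have := hb2 3 h; omega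
  have hn3 : n (X 3) = 6 := hsix (hpr 3) (hpr5 3) (hX 3) fun h => by have := hb3 3 h; omega
  have hO : O = 0 := by
    by_contra hO
    obtain ⟨g, hg, hno⟩ : ∃ g : ↥G¹, IsBig g ∧ ∀ i, ¬ InClass (X i) g := by
      obtain ⟨⟨g, hg⟩⟩ := (Nat.card_pos_iff.mp (Nat.pos_of_ne_zero hO)).1
      exact ⟨g, hg⟩
    obtain ⟨z, l, hl, hl5, hoz, -, hgz⟩ := exists_root hg
    have hge : U z ≤ O := by
      refine Nat.card_le_card_of_injective (fun h : {h : ↥G¹ // InClass z h} =>
        (⟨h.1, h.2.choose_spec.2, fun i hi => hno i ?_⟩ :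
          {g : ↥G¹ // IsBig g ∧ ∀ i, ¬ InClass (X i) g})) fun a b h => Subtype.ext (congrArg Subtype.val h :)
      exact (sameTorus_of_inClass hK (hpr i) (hpr5 i) (hX i) hl hl5 hoz hi h.2).inClass
        ⟨1, by simpa using hgz, hg⟩
    have := hbound hl hl5 hoz 6 (hle6 hl hl5 hoz)
    omega
  have hcover : ∀ g : ↥G¹, IsBig g → ∃ i, InClass (X i) g := fun g hg => by
    by_contra hcon
    push Not at hcon
    have : 0 < O := Nat.card_pos_iff.mpr ⟨⟨⟨g, hg, hcon⟩⟩, inferInstance⟩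
    omega
  -- exactness
  have hexact : ∀ i, Nat.card ↥(Subgroup.centralizer {X i}) = torusNum m i := by
    have hDle : ∀ i, D i ≤ torusNum m i / torusSmall i := by
      have h8 := hP.mod8; have hr := hP.rle; have hle := hP.le
      intro i
      refine Nat.le_of_dvd ?_ (hDdvd i)
      fin_cases i <;> simp [torusNum, torusSmall] <;> omega
    have hDeq : D 1 = (q₀ + 1) / 4 ∧ D 2 = q₀ + 1 - r₀ ∧ D 3 = q₀ + r₀ + 1 := by
      have e1 := card_inClass_eq hK hm (hpr 1) (hpr5 1) (hX 1) (hs 1) (hDc 1) (hDco 1)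
      have e2 := card_inClass_eq hK hm (hpr 2) (hpr5 2) (hX 2) (hs 2) (hDc 2) (hDco 2)
      have e3 := card_inClass_eq hK hm (hpr 3) (hpr5 3) (hX 3) (hs 3) (hDc 3) (hDco 3)
      have l1 : D 1 ≤ (q₀ + 1) / 4 := by simpa [torusNum, torusSmall] using hDle 1
      have l2 : D 2 ≤ q₀ + 1 - r₀ := by simpa [torusNum, torusSmall] using hDle 2
      have l3 : D 3 ≤ q₀ + r₀ + 1 := by simpa [torusNum, torusSmall] using hDle 3
      replace e1 : 6 * D 1 * U (X 1) = Nat.card ↥G¹ * (D 1 - 1) := hn1 ▸ e1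
      replace e2 : 6 * D 2 * U (X 2) = Nat.card ↥G¹ * (D 2 - 1) := hn2 ▸ e2
      replace e3 : 6 * D 3 * U (X 3) = Nat.card ↥G¹ * (D 3 - 1) := hn3 ▸ e3
      obtain ⟨d1, hd1⟩ : ∃ k, D 1 = k + 1 := ⟨D 1 - 1, by have := hD5 1; omega⟩
      obtain ⟨d2, hd2⟩ : ∃ k, D 2 = k + 1 := ⟨D 2 - 1, by have := hD5 2; omega⟩
      obtain ⟨d3, hd3⟩ : ∃ k, D 3 = k + 1 := ⟨D 3 - 1, by have := hD5 3; omega⟩
      obtain ⟨k, hk⟩ : ∃ k, (q₀ + 1) / 4 = k := ⟨_, rfl⟩
      obtain ⟨a, ha⟩ : ∃ a, q₀ + 1 - r₀ = a := ⟨_, rfl⟩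
      have h8 := hP.mod8; have hr := hP.rle; have hsq := hP.sq; have hle := hP.le
      have hk4 : 4 * k = q₀ + 1 := by omega
      have ha' : a + r₀ = q₀ + 1 := by omega
      have hq1 : q₀ ≤ q₀ ^ 2 := Nat.le_self_pow (by norm_num) _
      rw [hd1, Nat.add_sub_cancel] at e1
      rw [hd2, Nat.add_sub_cancel] at e2
      rw [hd3, Nat.add_sub_cancel] at e3
      rw [hk] at l1
      rw [ha] at l2
      generalize hq : q₀ = Q at *
      generalize hr' : r₀ = R at *
      generalize hg : Nat.card ↥G¹ = G at *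
      generalize U (X 0) = u0 at *
      generalize U (X 1) = u1 at *
      generalize U (X 2) = u2 at *
      generalize U (X 3) = u3 at *
      generalize S = s' at *
      generalize D 1 = D1 at *
      generalize D 2 = D2 at *
      generalize D 3 = D3 at *
      rw [hO] at htotal
      obtain ⟨e, rfl⟩ : ∃ e, Q = e + 3 := ⟨Q - 3, by omega⟩
      rw [show (e + 3) ^ 2 - (e + 3) + 1 = (e + 3) * (e + 2) + 1 by
          rw [show (e + 3) ^ 2 = (e + 3) * (e + 2) + (e + 3) by ring, Nat.add_sub_cancel],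
        show (e + 3) ^ 2 - 1 = (e + 2) * (e + 4) by
          rw [show (e + 3) ^ 2 = (e + 2) * (e + 4) + 1 by ring, Nat.add_sub_cancel],
        show e + 3 - 1 = e + 2 from rfl] at hS
      rw [show e + 3 - 1 = e + 2 from rfl, show e + 3 - 3 = e from rfl] at hU0
      rw [show e + 3 - 1 = e + 2 from rfl] at hGc
      have hD1 : (0 : ℚ) < D1 := by exact_mod_cast (show 0 < D1 by omega)
      have hD2 : (0 : ℚ) < D2 := by exact_mod_cast (show 0 < D2 by omega)
      have hD3 : (0 : ℚ) < D3 := by exact_mod_cast (show 0 < D3 by omega)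
      have hk0 : (0 : ℚ) < k := by exact_mod_cast (show 0 < k by omega)
      have ha0 : (0 : ℚ) < a := by exact_mod_cast (show 0 < a by omega)
      have hQ0 : (0 : ℚ) < e + 2 := by positivity
      have hG0 : (0 : ℚ) < G := by exact_mod_cast hpos
      have q1 : (u1 : ℚ) = G * (1 - 1 / D1) / 6 := by
        have h' := congrArg (Nat.cast (R := ℚ)) e1
        have hd' : (D1 : ℚ) = d1 + 1 := by exact_mod_cast hd1
        push_cast at h'
        rw [hd'] at hD1 ⊢
        field_simp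
        linear_combination h'
      have q2 : (u2 : ℚ) = G * (1 - 1 / D2) / 6 := by
        have h' := congrArg (Nat.cast (R := ℚ)) e2
        have hd' : (D2 : ℚ) = d2 + 1 := by exact_mod_cast hd2
        push_cast at h'
        rw [hd'] at hD2 ⊢
        field_simp
        linear_combination h'
      have q3 : (u3 : ℚ) = G * (1 - 1 / D3) / 6 := by
        have h' := congrArg (Nat.cast (R := ℚ)) e3
        have hd' : (D3 : ℚ) = d3 + 1 := by exact_mod_cast hd3
        push_cast at h'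
        rw [hd'] at hD3 ⊢
        field_simp
        linear_combination h'
      have q0 : (u0 : ℚ) = G * e / (2 * (e + 2)) := by
        have h' := congrArg (Nat.cast (R := ℚ)) hU0
        push_cast at h'
        field_simp
        linear_combination h'
      have hGq := congrArg (Nat.cast (R := ℚ)) hGc
      have hSq := congrArg (Nat.cast (R := ℚ)) hS
      have hTq := congrArg (Nat.cast (R := ℚ)) htotal
      have hk' : 4 * (k : ℚ) = e + 4 := by exact_mod_cast hk4
      have ha'' : (a : ℚ) + R = e + 4 := by exact_mod_cast ha'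
      have hsq' : (R : ℚ) * R = 3 * (e + 3) := by exact_mod_cast hsq
      push_cast at hGq hSq hTq
      set b : ℚ := (e : ℚ) + 4 + R with hb
      have hb0 : (0 : ℚ) < b := by positivity
      have hab : (a : ℚ) * b = (e + 3) * (e + 2) + 1 := by
        rw [show (a : ℚ) = e + 4 - R by linear_combination ha'', hb]
        linear_combination (-1 : ℚ) * hsq'
      have key : 1 / (D1 : ℚ) + 1 / D2 + 1 / D3 = 1 / k + 1 / a + 1 / b := by
        have e4 : (k : ℚ) = (e + 4) / 4 := by linear_combination hk' / 4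
        have e5 : 1 / (a : ℚ) + 1 / b = 2 * (e + 4) / ((e + 3) * (e + 2) + 1) := by
          rw [← hab]
          field_simp
          rw [hb]
          linear_combination ha''
        rw [add_assoc (1 / (k : ℚ)), e5, e4]
        have e6 : (G : ℚ) * (1 / (D1 : ℚ) + 1 / D2 + 1 / D3) =
            (G : ℚ) * (1 / (((e : ℚ) + 4) / 4) + 2 * (e + 4) / ((e + 3) * (e + 2) + 1)) := by
          have : (G : ℚ) * (1 / (D1 : ℚ) + 1 / D2 + 1 / D3) = 3 * G - 6 * (u1 + u2 + u3) := by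
            rw [q1, q2, q3]; ring
          rw [this, show (u1 : ℚ) + u2 + u3 = G - s' - u0 by linear_combination hTq, q0, hSq, hGq]
          have h1 : ((e : ℚ) + 3) * (e + 2) + 1 ≠ 0 := by positivity
          have h2 : (e : ℚ) + 4 ≠ 0 := by positivity
          field_simp
          ring
        exact mul_left_cancel₀ hG0.ne' e6
      have m1 : 1 / (k : ℚ) ≤ 1 / D1 := one_div_le_one_div_of_le hD1 (by exact_mod_cast l1)
      have m2 : 1 / (a : ℚ) ≤ 1 / D2 := one_div_le_one_div_of_le hD2 (by exact_mod_cast l2)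
      have hbn : b = ((e + 3 + R + 1 : ℕ) : ℚ) := by rw [hb]; push_cast; ring
      have m3 : 1 / b ≤ 1 / D3 := one_div_le_one_div_of_le hD3 (by rw [hbn]; exact_mod_cast l3)
      refine ⟨?_, ?_, ?_⟩
      · have h := le_antisymm m1 (by linarith)
        rw [one_div, one_div, inv_inj] at h
        rw [hk]
        exact_mod_cast h.symm
      · have h := le_antisymm m2 (by linarith)
        rw [one_div, one_div, inv_inj] at h
        rw [ha]
        exact_mod_cast h.symm
      · have h := le_antisymm m3 (by linarith)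
        rw [one_div, one_div, inv_inj, hbn] at h
        exact_mod_cast h.symm
    intro i
    rw [hDc i, ← hdiv4 i]
    congr 1
    fin_cases i
    · exact hD0 0 rfl
    · exact hDeq.1
    · simpa [torusNum, torusSmall] using hDeq.2.1
    · simpa [torusNum, torusSmall] using hDeq.2.2
  have hloc : ∀ {x : ↥G¹} {p : ℕ}, p.Prime → 5 ≤ p → orderOf x = p → ∀ i, p ∣ torusNum m i →
      SameTorus (X i) x := by
    intro x p hp h5 ho i hi
    have hself : InClass x x := ⟨1, by simp [Subgroup.mem_centralizer_singleton_iff],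
      isBig_of_prime hp h5 ho⟩
    obtain ⟨j, hj⟩ := hcover x (isBig_of_prime hp h5 ho)
    have hsame := sameTorus_of_inClass hK (hpr j) (hpr5 j) (hX j) hp h5 ho hj hself
    have hpd : p ∣ torusNum m j := by
      rw [← hexact j, ← hsame.card_eq]
      exact ho ▸ Subgroup.orderOf_dvd_natCard _ (Subgroup.mem_centralizer_singleton_iff.mpr rfl)
    obtain rfl := torusNum_disjoint (hm := hm) hp h5 hi hpd
    exact hsame
  refine ⟨fun {x p} hp h5 ho i hi => ?_, fun {x y p l} hp h5 ho hl hl5 hol i hi hi' => ?_⟩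
  · have hsame := hloc hp h5 ho i hi
    refine ⟨hsame.card_eq.trans (hexact i), ?_⟩
    have e : n x = n (X i) := hsame.relIndex_eq
    show n x = _
    rw [e]
    fin_cases i
    · simpa using hn0
    · simpa using hn1
    · simpa using hn2
    · simpa using hn3
  · obtain ⟨a, ha⟩ := hloc hp h5 ho i hi
    obtain ⟨b, hb⟩ := hloc hl hl5 hol i hi'
    refine ⟨a⁻¹ * b, fun z => (hb z).trans ?_⟩
    rw [ha, show a * (a⁻¹ * b * z * (a⁻¹ * b)⁻¹) * a⁻¹ = b * z * b⁻¹ by group]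

end CfsgLib.Ree
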