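import Mathlib

/-!
Pairs of elements of a commutative group read on the short and long roots of type G₂, and the
consequences of a power map carrying the short values onto the long values.
-/

set_option autoImplicit false

namespace CfsgLib.Ree

/-- Exponents of the short values. -/
def sE : Fin 7 → ℤ × ℤ := ![(0, 0), (-1, 0), (0, -1), (-1, 1), (1, -1), (0, 1), (1, 0)]

/-- Exponents of the long values. -/
def lE : Fin 7 → ℤ × ℤ := ![(0, 0), (-1, -1), (-2, 1), (1, -2), (-1, 2), (2, -1), (1, 1)]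

variable {M : Type*} [CommGroup M]

/-- A monomial in two elements. -/
def ev (y z : M) (v : ℤ × ℤ) : M := y ^ v.1 * z ^ v.2

theorem ev_add (y z : M) (v w : ℤ × ℤ) : ev y z (v + w) = ev y z v * ev y z w := by
  simp only [ev, Prod.fst_add, Prod.snd_add, zpow_add]
  exact mul_mul_mul_comm _ _ _ _

theorem ev_neg (y z : M) (v : ℤ × ℤ) : ev y z (-v) = (ev y z v)⁻¹ := by
  simp [ev, zpow_neg, mul_comm]

theorem ev_sub (y z : M) (v w : ℤ × ℤ) : ev y z (v - w) = ev y z v / ev y z w := by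
  rw [sub_eq_add_neg, ev_add, ev_neg, div_eq_mul_inv]

theorem map_ev {M' : Type*} [CommGroup M'] (f : M →* M') (y z : M) (v : ℤ × ℤ) :
    f (ev y z v) = ev (f y) (f z) v := by
  simp [ev, map_mul, map_zpow]

/-- No short and no long value is trivial. -/
def Reg (y z : M) : Prop := ∀ j : Fin 7, j ≠ 0 → ev y z (sE j) ≠ 1 ∧ ev y z (lE j) ≠ 1

/-- The `R`-th powers of the short values are the long values. -/
def Rel (R : ℕ) (y z : M) : Prop :=
  (∀ i, ∃ j, ev y z (sE j) ^ R = ev y z (lE i)) ∧ ∀ j, ∃ i, ev y z (sE j) ^ R = ev y z (lE i)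

theorem no_five_in_three [DecidableEq M] {p : ℕ} (hp : 5 ≤ p) {w : M} (hw : orderOf w = p)
    {T : Finset M} (hT : T.card ≤ 3) (h : ∀ k : ℤ, -2 ≤ k → k ≤ 2 → w ^ k ∈ T) : False := by
  have hinj : Set.InjOn (fun k : ℤ => w ^ k) ↑(Finset.Icc (-2 : ℤ) 2) := by
    intro a ha b hb e
    simp only [Finset.coe_Icc, Set.mem_Icc] at ha hb
    have e1 : w ^ (a - b) = 1 := by rw [zpow_sub, show w ^ a = w ^ b from e, mul_inv_cancel]
    have hd := orderOf_dvd_iff_zpow_eq_one.mpr e1
    rw [hw] at hd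
    have hab : (a - b).natAbs < p := by omega
    have := Int.natCast_dvd.mp hd
    have := Nat.eq_zero_of_dvd_of_lt this hab
    omega
  have h5 := Finset.card_le_card_of_injOn (s := Finset.Icc (-2 : ℤ) 2) _
    (fun k hk => h k (Finset.mem_Icc.mp hk).1 (Finset.mem_Icc.mp hk).2) hinj
  rw [Int.card_Icc] at h5
  omega

variable {p R : ℕ} {y z : M}

theorem reg_of_rel (hp : p.Prime) (h5 : 5 ≤ p) (hpR : ¬ p ∣ R) (hy : y ^ p = 1) (hz : z ^ p = 1)
    (h1 : ¬(y = 1 ∧ z = 1)) (h : Rel R y z) : Reg y z := by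
  classical
  obtain ⟨hrow, hcol⟩ := h
  have hord : ∀ {w : M}, w ^ p = 1 → w ≠ 1 → orderOf w = p := fun {w} hw hne =>
    haveI := Fact.mk hp
    orderOf_eq_prime hw hne
  -- one coordinate trivial
  have hy1 : y ≠ 1 := by
    intro e
    subst e
    refine no_five_in_three h5 (hord hz fun e => h1 ⟨rfl, e⟩)
      (T := {1, z ^ R, (z ^ R)⁻¹}) Finset.card_le_three fun k hk1 hk2 => ?_
    have key : ∀ i, ev (1 : M) z (lE i) ∈ ({1, z ^ R, (z ^ R)⁻¹} : Finset M) := by
      intro i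
      obtain ⟨j, e⟩ := hrow i
      rw [← e]
      fin_cases j <;> simp [ev, sE, inv_pow]
    interval_cases k
    · simpa [ev, lE] using key 3
    · simpa [ev, lE] using key 5
    · simp
    · simpa [ev, lE] using key 6
    · simpa [ev, lE] using key 4
  have hz1 : z ≠ 1 := by
    intro e
    subst e
    refine no_five_in_three h5 (hord hy fun e => h1 ⟨e, rfl⟩)
      (T := {1, y ^ R, (y ^ R)⁻¹}) Finset.card_le_three fun k hk1 hk2 => ?_
    have key : ∀ i, ev y (1 : M) (lE i) ∈ ({1, y ^ R, (y ^ R)⁻¹} : Finset M) := by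
      intro i
      obtain ⟨j, e⟩ := hrow i
      rw [← e]
      fin_cases j <;> simp [ev, sE, inv_pow]
    interval_cases k
    · simpa [ev, lE] using key 2
    · simpa [ev, lE] using key 1
    · simp
    · simpa [ev, lE] using key 6
    · simpa [ev, lE] using key 5
  have hyz : y ≠ z := by
    intro e
    subst e
    refine no_five_in_three h5 (hord hy hy1)
      (T := {1, y ^ R, (y ^ R)⁻¹}) Finset.card_le_three fun k hk1 hk2 => ?_
    have key : ∀ i, ev y y (lE i) ∈ ({1, y ^ R, (y ^ R)⁻¹} : Finset M) := by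
      intro i
      obtain ⟨j, e⟩ := hrow i
      rw [← e]
      fin_cases j <;> simp [ev, sE, inv_pow]
    interval_cases k
    · simpa [ev, lE, pow_two, zpow_ofNat] using key 1
    · simpa [ev, lE, pow_two, zpow_ofNat] using key 2
    · simp
    · simpa [ev, lE, pow_two, zpow_ofNat] using key 4
    · simpa [ev, lE, pow_two, zpow_ofNat] using key 6
  have hpow : ∀ {w : M}, w ^ p = 1 → w ≠ 1 → w ^ R ≠ 1 := fun {w} hw hne e =>
    hpR (hord hw hne ▸ orderOf_dvd_of_pow_eq_one e)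
  have hRord : ∀ {w : M}, w ^ p = 1 → w ≠ 1 → orderOf (w ^ R) = p := fun {w} hw hne =>
    hord (by rw [← pow_mul, mul_comm, pow_mul, hw, one_pow]) (hpow hw hne)
  -- one long value trivial
  have hyz' : ev y z (lE 6) ≠ 1 := by
    intro e
    have e' : y * z = 1 := by simpa [ev, lE] using e
    obtain rfl : z = y⁻¹ := eq_inv_of_mul_eq_one_right e'
    refine no_five_in_three h5 (hRord hy hy1)
      (T := {1, y ^ 3, (y ^ 3)⁻¹}) Finset.card_le_three fun k hk1 hk2 => ?_
    have key : ∀ j, ev y y⁻¹ (sE j) ^ R ∈ ({1, y ^ 3, (y ^ 3)⁻¹} : Finset M) := by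
      intro j
      obtain ⟨i, e⟩ := hcol j
      rw [e]
      fin_cases i <;> simp [ev, lE, pow_succ, zpow_ofNat, mul_assoc]
    interval_cases k
    · simpa [ev, sE, pow_succ, zpow_ofNat, mul_pow, inv_pow] using key 3
    · simpa [ev, sE, pow_succ, zpow_ofNat, mul_pow, inv_pow] using key 1
    · simp
    · simpa [ev, sE, pow_succ, zpow_ofNat, mul_pow, inv_pow] using key 6
    · simpa [ev, sE, pow_succ, zpow_ofNat, mul_pow, inv_pow] using key 4
  have hy2 : ev y z (lE 5) ≠ 1 := by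
    intro e
    obtain rfl : z = y ^ 2 := by
      have e' : y ^ 2 * z⁻¹ = 1 := by simpa [ev, lE] using e
      exact (mul_inv_eq_one.mp e').symm
    refine no_five_in_three h5 (hRord hy hy1)
      (T := {1, y ^ 3, (y ^ 3)⁻¹}) Finset.card_le_three fun k hk1 hk2 => ?_
    have key : ∀ j, ev y (y ^ 2) (sE j) ^ R ∈ ({1, y ^ 3, (y ^ 3)⁻¹} : Finset M) := by
      intro j
      obtain ⟨i, e⟩ := hcol j
      rw [e]
      fin_cases i <;> simp [ev, lE, pow_succ, zpow_ofNat, mul_assoc]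
    interval_cases k
    · simpa [ev, sE, pow_succ, zpow_ofNat, mul_pow, inv_pow] using key 2
    · simpa [ev, sE, pow_succ, zpow_ofNat, mul_pow, inv_pow] using key 1
    · simp
    · simpa [ev, sE, pow_succ, zpow_ofNat, mul_pow, inv_pow] using key 6
    · simpa [ev, sE, pow_succ, zpow_ofNat, mul_pow, inv_pow] using key 5
  have hz2 : ev y z (lE 4) ≠ 1 := by
    intro e
    obtain rfl : y = z ^ 2 := by
      have e' : y⁻¹ * z ^ 2 = 1 := by simpa [ev, lE] using e
      exact inv_mul_eq_one.mp e'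
    refine no_five_in_three h5 (hRord hz hz1)
      (T := {1, z ^ 3, (z ^ 3)⁻¹}) Finset.card_le_three fun k hk1 hk2 => ?_
    have key : ∀ j, ev (z ^ 2) z (sE j) ^ R ∈ ({1, z ^ 3, (z ^ 3)⁻¹} : Finset M) := by
      intro j
      obtain ⟨i, e⟩ := hcol j
      rw [e]
      fin_cases i <;> simp [ev, lE, pow_succ, zpow_ofNat, mul_assoc]
    interval_cases k
    · simpa [ev, sE, pow_succ, zpow_ofNat, mul_pow, inv_pow] using key 1
    · simpa [ev, sE, pow_succ, zpow_ofNat, mul_pow, inv_pow] using key 2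
    · simp
    · simpa [ev, sE, pow_succ, zpow_ofNat, mul_pow, inv_pow] using key 5
    · simpa [ev, sE, pow_succ, zpow_ofNat, mul_pow, inv_pow] using key 6
  have hneg : ∀ {v w : ℤ × ℤ}, v = -w → ev y z w ≠ 1 → ev y z v ≠ 1 := fun {v w} e hw => by
    subst e
    rwa [ev_neg, Ne, inv_eq_one]
  have s6 : ev y z (sE 6) ≠ 1 := by simpa [ev, sE] using hy1
  have s5 : ev y z (sE 5) ≠ 1 := by simpa [ev, sE] using hz1
  have s4 : ev y z (sE 4) ≠ 1 := by
    simpa [ev, sE, mul_inv_eq_one] using hyz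
  intro j hj
  fin_cases j
  · exact absurd rfl hj
  · exact ⟨hneg (w := sE 6) (by decide) s6, hneg (w := lE 6) (by decide) hyz'⟩
  · exact ⟨hneg (w := sE 5) (by decide) s5, hneg (w := lE 5) (by decide) hy2⟩
  · exact ⟨hneg (w := sE 4) (by decide) s4, hneg (w := lE 4) (by decide) hz2⟩
  · exact ⟨s4, hz2⟩
  · exact ⟨s5, hy2⟩
  · exact ⟨s6, hyz'⟩

/-- In a regular pair of odd prime order the short values are distinct. -/
theorem sE_inj (hp : p.Prime) (h5 : 5 ≤ p) (hy : y ^ p = 1) (hz : z ^ p = 1) (hr : Reg y z)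
    {j k : Fin 7} (h : ev y z (sE j) = ev y z (sE k)) : j = k := by
  by_contra hne
  have hpw : ∀ v, ev y z v ^ p = 1 := fun v => by
    rw [ev, mul_pow, ← zpow_natCast (y ^ v.1), ← zpow_natCast (z ^ v.2), ← zpow_mul, ← zpow_mul,
      mul_comm v.1, mul_comm v.2, zpow_mul, zpow_mul, zpow_natCast, zpow_natCast, hy, hz, one_zpow,
      one_zpow, one_mul]
  have h1 : ev y z (sE j - sE k) = 1 := by rw [ev_sub, h, div_self']
  have hdec : ∀ j k : Fin 7, j ≠ k → ∃ i : Fin 7, i ≠ 0 ∧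
      (sE j - sE k = sE i ∨ sE j - sE k = lE i ∨ sE j - sE k = sE i + sE i) := by decide
  obtain ⟨i, hi, e | e | e⟩ := hdec j k hne <;> rw [e] at h1
  · exact (hr i hi).1 h1
  · exact (hr i hi).2 h1
  · rw [ev_add, ← pow_two] at h1
    have h2 := orderOf_dvd_of_pow_eq_one h1
    have h3 := orderOf_dvd_of_pow_eq_one (hpw (sE i))
    have : orderOf (ev y z (sE i)) ∣ 1 := by
      have := Nat.dvd_gcd h2 h3
      rwa [(Nat.coprime_primes Nat.prime_two hp).mpr (by omega)] at this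
    exact (hr i hi).1 (orderOf_eq_one_iff.mp (Nat.dvd_one.mp this))

/-- A linear map carrying the short values to the long ones. -/
theorem linear_of_reg (hp : p.Prime) (h5 : 5 ≤ p) (hpR : ¬ p ∣ R) (hy : y ^ p = 1) (hz : z ^ p = 1)
    (hr : Reg y z) {i k r : Fin 7} (h6 : ev y z (sE 6) ^ R = ev y z (lE i))
    (h5' : ev y z (sE 5) ^ R = ev y z (lE k)) (h4 : ev y z (sE 4) ^ R = ev y z (lE r)) :
    i ≠ 0 ∧ k ≠ 0 ∧ r ≠ 0 ∧ lE i = lE k + lE r := by
  haveI := Fact.mk hp
  have hpw : ∀ v, ev y z v ^ p = 1 := fun v => by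
    rw [ev, mul_pow, ← zpow_natCast (y ^ v.1), ← zpow_natCast (z ^ v.2), ← zpow_mul, ← zpow_mul,
      mul_comm v.1, mul_comm v.2, zpow_mul, zpow_mul, zpow_natCast, zpow_natCast, hy, hz, one_zpow,
      one_zpow, one_mul]
  have hinj : ∀ v w, ev y z v ^ R = ev y z w ^ R → ev y z v = ev y z w := fun v w e => by
    by_contra hne
    have hd : (ev y z v / ev y z w) ^ R = 1 := by rw [div_pow, e, div_self']
    have hd' : (ev y z v / ev y z w) ^ p = 1 := by rw [div_pow, hpw, hpw, div_self']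
    exact hpR (orderOf_eq_prime hd' (fun h => hne (div_eq_one.mp h)) ▸ orderOf_dvd_of_pow_eq_one hd)
  have hnz : ∀ {j : Fin 7} {l : Fin 7}, j ≠ 0 → ev y z (sE j) ^ R = ev y z (lE l) → l ≠ 0 := by
    intro j l hj e hl
    subst hl
    refine (hr j hj).1 ?_
    have := hinj (sE j) 0 (by rw [e]; simp [ev, lE])
    simpa [ev] using this
  have hi := hnz (by decide) h6
  have hk := hnz (by decide) h5'
  have hl := hnz (by decide) h4
  refine ⟨hi, hk, hl, ?_⟩
  have hne : ∀ {a b : Fin 7} {c d : Fin 7}, ev y z (sE a) ^ R = ev y z (lE c) →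
      ev y z (sE b) ^ R = ev y z (lE d) → a ≠ b → sE a ≠ -sE b → lE c ≠ lE d ∧ lE c ≠ -lE d := by
    intro a b c d ea eb hab hab'
    refine ⟨fun e => hab (sE_inj hp h5 hy hz hr (hinj _ _ (by rw [ea, eb, e]))), fun e => ?_⟩
    have hneg : ∀ b : Fin 7, ∃ b' : Fin 7, sE b' = -sE b := by decide
    obtain ⟨b', eb'⟩ := hneg b
    have : ev y z (sE a) ^ R = ev y z (sE b') ^ R := by
      rw [ea, e, ev_neg, ← eb, eb', ev_neg, inv_pow]
    exact hab' (eb' ▸ congrArg sE (sE_inj hp h5 hy hz hr (hinj _ _ this)))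
  obtain ⟨a1, a2⟩ := hne h6 h5' (by decide) (by decide)
  obtain ⟨b1, b2⟩ := hne h6 h4 (by decide) (by decide)
  obtain ⟨c1, c2⟩ := hne h5' h4 (by decide) (by decide)
  have hdec : ∀ i k r : Fin 7, i ≠ 0 ∧ k ≠ 0 ∧ r ≠ 0 ∧ lE i ≠ lE k ∧ lE i ≠ -lE k ∧
      lE i ≠ lE r ∧ lE i ≠ -lE r ∧ lE k ≠ lE r ∧ lE k ≠ -lE r →
        lE i = lE k + lE r ∨ ∃ j : Fin 7, j ≠ 0 ∧ lE i - (lE k + lE r) = lE j + lE j := by
    decide +kernel
  rcases hdec i k r ⟨hi, hk, hl, a1, a2, b1, b2, c1, c2⟩ with h | ⟨j, hj, e⟩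
  · exact h
  exfalso
  have h1 : ev y z (lE i - (lE k + lE r)) = 1 := by
    rw [ev_sub, div_eq_one, ev_add, ← h6, ← h5', ← h4, ← mul_pow, ← ev_add]
    congr 2
  rw [e, ev_add, ← pow_two] at h1
  have h3 := Nat.dvd_gcd (orderOf_dvd_of_pow_eq_one h1) (orderOf_dvd_of_pow_eq_one (hpw (lE j)))
  rw [(Nat.coprime_primes Nat.prime_two hp).mpr (by omega)] at h3
  exact (hr j hj).2 (orderOf_eq_one_iff.mp (Nat.dvd_one.mp h3))

theorem zpow_adjugate {a b c d R : ℤ} (e1 : y ^ R = y ^ a * z ^ b) (e2 : z ^ R = y ^ c * z ^ d) :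
    y ^ ((R - a) * (R - d) - b * c) = 1 ∧ z ^ ((R - a) * (R - d) - b * c) = 1 := by
  have f1 : y ^ (R - a) = z ^ b := by
    rw [zpow_sub, e1, mul_comm (y ^ a), mul_inv_cancel_right]
  have f2 : z ^ (R - d) = y ^ c := by
    rw [zpow_sub, e2, mul_inv_cancel_right]
  constructor
  · rw [zpow_sub, zpow_mul, f1, ← zpow_mul, mul_comm b (R - d), zpow_mul, f2, ← zpow_mul,
      mul_comm c b, mul_inv_cancel]
  · rw [zpow_sub, mul_comm (R - a), zpow_mul, f2, ← zpow_mul, mul_comm c (R - a), zpow_mul, f1,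
      ← zpow_mul, mul_inv_cancel]

/-- The linear maps in question: trace, determinant and shape. -/
theorem linear_cases : ∀ i k r : Fin 7, i ≠ 0 → k ≠ 0 → r ≠ 0 → lE i = lE k + lE r →
    let a := (lE i).1; let b := (lE i).2; let c := (lE k).1; let d := (lE k).2
    ((a + d = 0 ∧ a * d - b * c = -3) ∨ (a + d = 0 ∧ a * d - b * c = 3) ∨
      (a + d = 3 ∧ a * d - b * c = 3) ∨ (a + d = -3 ∧ a * d - b * c = 3)) ∧
    ((b = 1 ∨ b = -1) ∨ (c = 1 ∨ c = -1) ∨
      ((a + d = 0 ∧ a * d - b * c = 3) ∧ (d = 1 ∨ d = -1) ∧ a = -d ∧ b = 2 * d ∧ c = -(2 * d))) := by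
  decide

theorem pow_of_cube (h3 : ∀ u : M, u ^ 3 = 1 → u = 1) {w : M} {N : ℕ} (h : w ^ (3 * N) = 1) :
    w ^ N = 1 := h3 _ (by rw [← pow_mul, mul_comm, h])

theorem natCard_dvd_of_exponent {N : ℕ} [IsCyclic M] [Finite M] (H : Subgroup M)
    (h : ∀ u ∈ H, u ^ N = 1) : Nat.card H ∣ N := by
  obtain ⟨g, hg⟩ := IsCyclic.exists_generator (α := ↥H)
  rw [← orderOf_eq_card_of_forall_mem_zpowers hg]
  exact orderOf_dvd_of_pow_eq_one (Subtype.ext (by simpa using h g g.2))

/-- The structure of a group whose two coordinates satisfy a linear relation of this kind. -/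
theorem hexagon_structure {A : Type*} [Group A] [Finite M] [IsCyclic M] {R Q : ℕ}
    (hRQ : R * R = 3 * Q) (hR : Odd R) (h3R : 3 ≤ R) (hQ : R ≤ Q)
    (h3 : ∀ u : M, u ^ 3 = 1 → u = 1) (Y Z : A →* M) (hinj : ∀ g, Y g = 1 → Z g = 1 → g = 1)
    {i k r : Fin 7} (hi : i ≠ 0) (hk : k ≠ 0) (hr : r ≠ 0) (hv : lE i = lE k + lE r)
    (h6 : ∀ g, Y g ^ R = ev (Y g) (Z g) (lE i)) (h5 : ∀ g, Z g ^ R = ev (Y g) (Z g) (lE k)) :
    (IsCyclic A ∧
        (Nat.card A ∣ Q - 1 ∨ Nat.card A ∣ Q + 1 ∨ Nat.card A ∣ Q + R + 1 ∨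
          Nat.card A ∣ Q + 1 - R)) ∨
      (Nat.card A ∣ Q + 1 ∧ ∀ B : Subgroup A, Odd (Nat.card B) → IsCyclic B) := by
  obtain ⟨hD, hS⟩ := linear_cases i k r hi hk hr hv
  set a := (lE i).1
  set b := (lE i).2
  set c := (lE k).1
  set d := (lE k).2
  have e1 : ∀ g, Y g ^ (R : ℤ) = Y g ^ a * Z g ^ b := fun g => by rw [zpow_natCast, h6]; rfl
  have e2 : ∀ g, Z g ^ (R : ℤ) = Y g ^ c * Z g ^ d := fun g => by rw [zpow_natCast, h5]; rfl
  have hRQ' : (R : ℤ) * R = 3 * Q := by exact_mod_cast hRQ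
  rcases hS with hb | hc | ⟨hcase, hd, ha, hb, hc⟩
  rotate_left 2
  · refine Or.inr ?_
    have hY : ∀ g, Y g ^ ((Q + 1) / 2) = 1 := by
      intro g
      refine pow_of_cube h3 ?_
      obtain ⟨w, hw⟩ : Even ((R : ℤ) - d) := by
        obtain ⟨n, hn⟩ := hR
        rcases hd with hd | hd <;> rw [hd, hn] <;> push_cast
        · exact ⟨n, by ring⟩
        · exact ⟨n + 1, by ring⟩
      have f1 : Y g ^ ((R : ℤ) + d) = Z g ^ (2 * d) := by
        rw [show ((R : ℤ) + d) = R - a by rw [ha]; ring, zpow_sub, e1, ← hb, mul_comm (Y g ^ a),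
          mul_inv_cancel_right]
      have f2 : Z g ^ (w + w) = Y g ^ c := by
        rw [← hw, zpow_sub, e2, mul_inv_cancel_right]
      have hd2 : d * d = 1 := by rcases hd with hd | hd <;> rw [hd] <;> norm_num
      have key : Y g ^ (((R : ℤ) + d) * w + 2) = 1 := by
        rw [zpow_add, zpow_mul, f1, ← zpow_mul, show 2 * d * w = (w + w) * d by ring, zpow_mul, f2,
          ← zpow_mul, ← zpow_add, show c * d + 2 = 0 by rw [hc]; linear_combination (-2) * hd2,
          zpow_zero]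
      have hQodd : Odd Q := by
        have := hR.mul hR
        rw [hRQ] at this
        exact (Nat.odd_mul.mp this).2
      obtain ⟨n, hn⟩ : Even (Q + 1) := hQodd.add_one
      have e : (((3 * ((Q + 1) / 2)) : ℕ) : ℤ) = ((R : ℤ) + d) * w + 2 := by
        rw [show (Q + 1) / 2 = n by omega]
        have hn' : (Q : ℤ) + 1 = n + n := by exact_mod_cast hn
        push_cast
        refine mul_left_cancel₀ (two_ne_zero (α := ℤ)) ?_
        linear_combination (-3) * hn' + ((R : ℤ) + d) * hw - hRQ' + hd2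
      rw [← zpow_natCast, e]
      exact key
    have hker : ∀ g, Y g = 1 → Z g ^ 2 = 1 := fun g hg => by
      have := e1 g
      rw [hg, one_zpow, one_zpow, one_mul, hb] at this
      rcases hd with hd | hd <;> rw [hd] at this
      · exact_mod_cast this.symm
      · rw [show (2 : ℤ) * (-1) = -2 by norm_num, zpow_neg] at this
        exact_mod_cast inv_eq_one.mp this.symm
    refine ⟨?_, fun B hB => ?_⟩
    · have hk2 : Nat.card Y.ker ∣ 2 := by
        let f : Y.ker →* M := Z.comp Y.ker.subtype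
        have hf : Function.Injective f := by
          rw [injective_iff_map_eq_one]
          exact fun g hg => Subtype.ext (hinj _ g.2 hg)
        rw [Nat.card_congr (MonoidHom.ofInjective hf).toEquiv]
        refine natCard_dvd_of_exponent f.range ?_
        rintro _ ⟨g, rfl⟩
        exact hker g g.2
      have hrg : Nat.card Y.range ∣ (Q + 1) / 2 :=
        natCard_dvd_of_exponent _ (by rintro _ ⟨g, rfl⟩; exact hY g)
      have hQodd : Odd Q := by
        have := hR.mul hR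
        rw [hRQ] at this
        exact (Nat.odd_mul.mp this).2
      rw [Subgroup.card_eq_card_quotient_mul_card_subgroup Y.ker,
        Nat.card_congr (QuotientGroup.quotientKerEquivRange Y).toEquiv,
        ← Nat.div_mul_cancel (even_iff_two_dvd.mp hQodd.add_one)]
      exact mul_dvd_mul hrg hk2
    · refine isCyclic_of_injective (Y.comp B.subtype) ((injective_iff_map_eq_one _).mpr ?_)
      intro g hg
      have h2 : Z (g : A) ^ 2 = 1 := hker _ hg
      have hfin : (g : A) ^ Nat.card B = 1 := by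
        rw [← Subgroup.coe_pow, pow_card_eq_one', Subgroup.coe_one]
      have hc1 : Z (g : A) ^ Nat.card B = 1 := by rw [← map_pow, hfin, map_one]
      have := Nat.dvd_gcd (orderOf_dvd_of_pow_eq_one h2) (orderOf_dvd_of_pow_eq_one hc1)
      rw [Nat.coprime_two_left.mpr hB] at this
      exact Subtype.ext (hinj _ hg (orderOf_eq_one_iff.mp (Nat.dvd_one.mp this)))
  all_goals refine Or.inl ?_
  -- one coordinate determines the other
  all_goals
    obtain ⟨W, hW, hWD⟩ : ∃ W : A →* M, Function.Injective W ∧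
        ∀ g, W g ^ (((R : ℤ) - a) * ((R : ℤ) - d) - b * c) = 1 := by
      first
        | refine ⟨Y, (injective_iff_map_eq_one _).mpr fun g hg => hinj g hg ?_,
            fun g => (zpow_adjugate (e1 g) (e2 g)).1⟩
          have := e1 g
          rw [hg, one_zpow, one_zpow, one_mul] at this
          rcases hb with hb | hb <;> rw [hb] at this <;> simpa using this.symm
        | refine ⟨Z, (injective_iff_map_eq_one _).mpr fun g hg => hinj g ?_ hg,
            fun g => (zpow_adjugate (e1 g) (e2 g)).2⟩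
          have := e2 g
          rw [hg, one_zpow, one_zpow, mul_one] at this
          rcases hc with hc | hc <;> rw [hc] at this <;> simpa using this.symm
    refine ⟨isCyclic_of_injective W hW, ?_⟩
    rw [Nat.card_congr (MonoidHom.ofInjective hW).toEquiv]
    have hfin : ∀ N : ℕ, ((3 * N : ℕ) : ℤ) = ((R : ℤ) - a) * ((R : ℤ) - d) - b * c →
        Nat.card W.range ∣ N := by
      intro N hN
      refine natCard_dvd_of_exponent _ ?_
      rintro _ ⟨g, rfl⟩
      refine pow_of_cube h3 ?_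
      rw [← zpow_natCast, hN]
      exact hWD g
    rcases hD with ⟨ht, hdet⟩ | ⟨ht, hdet⟩ | ⟨ht, hdet⟩ | ⟨ht, hdet⟩
    · refine Or.inl (hfin _ ?_)
      rw [Nat.cast_mul, Nat.cast_sub (by omega)]
      push_cast
      linear_combination (-1) * hRQ' + (R : ℤ) * ht - hdet
    · refine Or.inr (Or.inl (hfin _ ?_))
      push_cast
      linear_combination (-1) * hRQ' + (R : ℤ) * ht - hdet
    · refine Or.inr (Or.inr (Or.inr (hfin _ ?_)))
      rw [Nat.cast_mul, Nat.cast_sub (by omega)]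
      push_cast
      linear_combination (-1) * hRQ' + (R : ℤ) * ht - hdet
    · refine Or.inr (Or.inr (Or.inl (hfin _ ?_)))
      push_cast
      linear_combination (-1) * hRQ' + (R : ℤ) * ht - hdet

end CfsgLib.Ree
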