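import Cfsg.Agent.Ree.Torus
import Cfsg.Agent.Ree.Hexagon

/-!
Torus elements read as pairs of units, the intertwining matrices, and centralisers of regular
elements of the torus.
-/

set_option autoImplicit false

namespace CfsgLib.Ree

open Cfsg.Lie CfsgLib.Chevalley
open scoped Matrix

variable {L : Type*} [Field L]

/-- The first coordinate of a torus element. -/
def cy (c : ℕ → Lˣ) : Lˣ := c 0

/-- The second coordinate of a torus element. -/
def cz (c : ℕ → Lˣ) : Lˣ := c 1 * (c 0)⁻¹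

theorem dval_sIx (c : ℕ → Lˣ) (j : Fin 7) :
    dval (fun s => (torusVal chevG2 c s : L)) (sIx j) = ((ev (cy c) (cz c) (sE j) : Lˣ) : L) := by
  have h : ∀ j : Fin 7, sIx j = ![ct 0, rt 2, rt 3, rt 4, rt 7, rt 8, rt 9] j := fun _ => rfl
  have hc : ∀ s < 12, chevG2.cartan 0 s =
      ([0, -3, -1, 1, -2, 3, -3, 2, -1, 1, 3, 0] : List ℤ).getD s 0 ∧ chevG2.cartan 1 s =
      ([-1, 1, 0, -1, 1, -2, 2, -1, 1, 0, -1, 1] : List ℤ).getD s 0 := by decide +kernel
  fin_cases j <;>
    simp [dval, h, rt, ct, torusVal_G2, hc, ev, sE, cy, cz, pow_succ, zpow_ofNat, mul_comm,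
      mul_left_comm, mul_assoc]

theorem dval_lIx (c : ℕ → Lˣ) (j : Fin 7) :
    dval (fun s => (torusVal chevG2 c s : L)) (lIx j) = ((ev (cy c) (cz c) (lE j) : Lˣ) : L) := by
  have h : ∀ j : Fin 7, lIx j = ![ct 1, rt 0, rt 1, rt 5, rt 6, rt 10, rt 11] j := fun _ => rfl
  have hc : ∀ s < 12, chevG2.cartan 0 s =
      ([0, -3, -1, 1, -2, 3, -3, 2, -1, 1, 3, 0] : List ℤ).getD s 0 ∧ chevG2.cartan 1 s =
      ([-1, 1, 0, -1, 1, -2, 2, -1, 1, 0, -1, 1] : List ℤ).getD s 0 := by decide +kernel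
  fin_cases j <;>
    simp [dval, h, rt, ct, torusVal_G2, hc, ev, lE, cy, cz, pow_succ, zpow_ofNat, mul_comm,
      mul_left_comm, mul_assoc]

theorem Sb_tor (c : ℕ → Lˣ) : Sb (tor chevG2 L c : Matrix chevG2.Idx chevG2.Idx L) =
    Matrix.diagonal fun j => ((ev (cy c) (cz c) (sE j) : Lˣ) : L) := by
  rw [sysG2.tor_val, Sb_dg]
  exact congrArg _ (funext (dval_sIx c))

theorem Lb_tor (c : ℕ → Lˣ) : Lb (tor chevG2 L c : Matrix chevG2.Idx chevG2.Idx L) =
    Matrix.diagonal fun j => ((ev (cy c) (cz c) (lE j) : Lˣ) : L) := by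
  rw [sysG2.tor_val, Lb_dg]
  exact congrArg _ (funext (dval_lIx c))

theorem cy_mul (c d : ℕ → Lˣ) : cy (c * d) = cy c * cy d := rfl

theorem cz_mul (c d : ℕ → Lˣ) : cz (c * d) = cz c * cz d := by
  simp only [cz, Pi.mul_apply, mul_inv]
  exact mul_mul_mul_comm _ _ _ _

/-- The torus element of a pair. -/
noncomputable def torYZ : Lˣ × Lˣ →* GL chevG2.Idx L :=
  (tor chevG2 L).comp
    { toFun := fun w j => if j = 0 then w.1 else w.1 * w.2
      map_one' := funext fun j => by split_ifs <;> simp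
      map_mul' := fun a b => funext fun j => by
        rw [Pi.mul_apply]
        split_ifs
        · rfl
        · exact mul_mul_mul_comm _ _ _ _ }

theorem torYZ_cyz (c : ℕ → Lˣ) : torYZ (cy c, cz c) = tor chevG2 L c := by
  refine tor_congr ?_ ?_
  · simp [cy]
  · simp [cy, cz]

theorem tor_eq_one_of_cyz {c : ℕ → Lˣ} (h1 : cy c = 1) (h2 : cz c = 1) :
    tor chevG2 L c = 1 := by
  rw [← torYZ_cyz, h1, h2]
  exact map_one torYZ

theorem tor_coord_inj {c d : ℕ → Lˣ} (h : tor chevG2 L c = tor chevG2 L d) :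
    cy c = cy d ∧ cz c = cz d := by
  have h' := congrArg (fun g : GL chevG2.Idx L => Sb (g : Matrix chevG2.Idx chevG2.Idx L)) h
  simp only [Sb_tor] at h'
  have e1 := congrFun (Matrix.diagonal_injective h') 6
  have e2 := congrFun (Matrix.diagonal_injective h') 5
  simp only [Units.val_inj] at e1 e2
  exact ⟨by simpa [ev, sE] using e1, by simpa [ev, sE] using e2⟩

theorem exists_yz {g : GL chevG2.Idx L} (hg : g ∈ chevG2.diagonalSubgroup L) :
    ∃ w : Lˣ × Lˣ, g = torYZ w := by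
  rw [sysG2.diagonal_eq] at hg
  obtain ⟨c, rfl⟩ := hg
  exact ⟨_, (torYZ_cyz c).symm⟩

/-! ### Intertwining matrices -/

theorem nonzero_of_row {n : Type*} [Fintype n] [DecidableEq n] {A B : Matrix n n L} (h : A * B = 1)
    (i : n) : ∃ j, A i j ≠ 0 := by
  by_contra hcon
  push Not at hcon
  have := congrFun (congrFun h i) i
  simp [Matrix.mul_apply, hcon] at this

theorem nonzero_of_col {n : Type*} [Fintype n] [DecidableEq n] {A B : Matrix n n L} (h : A * B = 1)
    (j : n) : ∃ i, A i j ≠ 0 := by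
  by_contra hcon
  push Not at hcon
  have h' : B * A = 1 := mul_eq_one_comm.mp h
  have := congrFun (congrFun h' j) j
  simp [Matrix.mul_apply, hcon] at this

theorem diag_intertwine {n : Type*} [Fintype n] [DecidableEq n] {A : Matrix n n L} {d e : n → L}
    (h : Matrix.diagonal d * A = A * Matrix.diagonal e) {i j : n} (hA : A i j ≠ 0) : d i = e j := by
  have := congrFun (congrFun h i) j
  rw [Matrix.diagonal_mul, Matrix.mul_diagonal, mul_comm (A i j)] at this
  exact mul_right_cancel₀ hA this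

variable [CharP L 3]

/-- Uniform labels linking the short and the long values on the conjugates of fixed elements. -/
theorem exists_labels {γ : GL chevG2.Idx L} (hγ : γ ∈ chevG2.group L) (m : ℕ) :
    ∃ M : Matrix (Fin 7) (Fin 7) L, (∀ i, ∃ j, M i j ≠ 0) ∧ (∀ j, ∃ i, M i j ≠ 0) ∧
      ∀ g ∈ fixSub L m, ∀ c, γ * g * γ⁻¹ = tor chevG2 L c → ∀ i j, M i j ≠ 0 →
        ev (cy c) (cz c) (sE j) ^ 3 ^ (m + 1) = ev (cy c) (cz c) (lE i) := by
  set γi : GL chevG2.Idx L := γ⁻¹
  have hγi : γi ∈ chevG2.group L := inv_mem hγ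
  set S' := (Sb (γi : Matrix chevG2.Idx chevG2.Idx L)).map (fr L m)
  set S := (Sb (γ : Matrix chevG2.Idx chevG2.Idx L)).map (fr L m)
  set T := Lb (γ : Matrix chevG2.Idx chevG2.Idx L)
  set T' := Lb (γi : Matrix chevG2.Idx chevG2.Idx L)
  have hT : T' * T = 1 := by
    rw [← Lb_mul _ (tri_of_mem hγi), ← Units.val_mul, inv_mul_cancel, Units.val_one, Lb_one]
  have hS : S' * S = 1 := by
    rw [← Matrix.map_mul, ← Sb_mul _ (tri_of_mem hγ), ← Units.val_mul, inv_mul_cancel,
      Units.val_one, Sb_one, Matrix.map_one _ (map_zero _) (map_one _)]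
  have hM : T * S' * (S * T') = 1 := by
    rw [mul_assoc, ← mul_assoc S', hS, one_mul]
    exact mul_eq_one_comm.mp hT
  refine ⟨T * S', nonzero_of_row hM, nonzero_of_col hM, fun g hg c hc i j hij => ?_⟩
  have e1 : Lb (tor chevG2 L c : Matrix chevG2.Idx chevG2.Idx L) =
      T * Lb (g : Matrix chevG2.Idx chevG2.Idx L) * T' := by
    rw [← hc, Units.val_mul, Units.val_mul, Lb_mul _ ((tri_of_mem hγ).mul (tri_of_mem hg.1)),
      Lb_mul _ (tri_of_mem hγ)]
  have e2 : (Sb (tor chevG2 L c : Matrix chevG2.Idx chevG2.Idx L)).map (fr L m) =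
      S * (Sb (g : Matrix chevG2.Idx chevG2.Idx L)).map (fr L m) * S' := by
    rw [← hc, Units.val_mul, Units.val_mul, Sb_mul _ (tri_of_mem hγi), Sb_mul _ (tri_of_mem hg.1),
      Matrix.map_mul, Matrix.map_mul]
  have key : Lb (tor chevG2 L c : Matrix chevG2.Idx chevG2.Idx L) * (T * S') =
      (T * S') * (Sb (tor chevG2 L c : Matrix chevG2.Idx chevG2.Idx L)).map (fr L m) := by
    rw [e1, e2, hg.2]
    simp only [mul_assoc]
    rw [← mul_assoc T', hT, one_mul, ← mul_assoc S', hS, one_mul]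
  rw [Lb_tor, Sb_tor, Matrix.diagonal_map (map_zero _)] at key
  have := diag_intertwine key hij
  simp only [Function.comp_apply, fr_def] at this
  exact Units.ext (by rw [Units.val_pow_eq_pow_val]; exact this.symm)

/-- Labels linking two short spectra. -/
theorem exists_sLabels {g : GL chevG2.Idx L} (hg : g ∈ chevG2.group L) {c c' : ℕ → Lˣ}
    (h : g * tor chevG2 L c * g⁻¹ = tor chevG2 L c') (j : Fin 7) :
    ∃ k, ev (cy c') (cz c') (sE j) = ev (cy c) (cz c) (sE k) := by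
  have hgi : g⁻¹ ∈ chevG2.group L := inv_mem hg
  have e : Sb (tor chevG2 L c' : Matrix chevG2.Idx chevG2.Idx L) * Sb (g : Matrix chevG2.Idx chevG2.Idx L) =
      Sb (g : Matrix chevG2.Idx chevG2.Idx L) * Sb (tor chevG2 L c : Matrix chevG2.Idx chevG2.Idx L) := by
    rw [← Sb_mul _ (tri_of_mem hg), ← Units.val_mul, ← h, inv_mul_cancel_right, Units.val_mul,
      Sb_mul _ (tri_of_mem (sysG2.diagonal_le_group L (tor_mem_diagonal c)))]
  rw [Sb_tor, Sb_tor] at e
  have hinv : Sb (g : Matrix chevG2.Idx chevG2.Idx L) *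
      Sb ((g⁻¹ : GL chevG2.Idx L) : Matrix chevG2.Idx chevG2.Idx L) = 1 := by
    rw [← Sb_mul _ (tri_of_mem hgi), ← Units.val_mul, mul_inv_cancel, Units.val_one, Sb_one]
  obtain ⟨k, hk⟩ := nonzero_of_row hinv j
  exact ⟨k, Units.ext (diag_intertwine e hk)⟩

/-! ### Centralisers of regular torus elements -/

omit [CharP L 3] in
theorem torusVal_ne_one {c : ℕ → Lˣ} (hr : Reg (cy c) (cz c)) {r : ℕ} (h : r < chevG2.nroots) :
    torusVal chevG2 c r ≠ 1 := by
  obtain ⟨i, hi⟩ := split_bijective.2 (Sum.inr ⟨r, h⟩)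
  intro e
  have hd : dval (fun s => (torusVal chevG2 c s : L)) (Sum.inr ⟨r, h⟩) = 1 := by
    simp [dval, e]
  rcases i with j | j <;> simp only [Sum.elim_inl, Sum.elim_inr] at hi <;> rw [← hi] at hd
  · rw [dval_sIx, Units.val_eq_one] at hd
    by_cases hj : j = 0
    · subst hj; exact absurd hi (by simp [sIx, ct])
    · exact (hr j hj).1 hd
  · rw [dval_lIx, Units.val_eq_one] at hd
    by_cases hj : j = 0
    · subst hj; exact absurd hi (by simp [lIx, ct])
    · exact (hr j hj).2 hd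

omit [CharP L 3] in
theorem tor_commute_pos {c : ℕ → Lˣ} (hr : Reg (cy c) (cz c)) {v : GL chevG2.Idx L}
    (hv : v ∈ chevG2.posUnipotent L) (h : tor chevG2 L c * v * (tor chevG2 L c)⁻¹ = v) : v = 1 := by
  rw [← uSub_univ] at hv
  obtain ⟨t, -, rfl⟩ := sysG2.exists_ordProd_half L sysG2.closed_univ hv
  have hconj : ∀ m, tor chevG2 L c * sysG2.ordProd L t m * (tor chevG2 L c)⁻¹ =
      sysG2.ordProd L (fun r => (torusVal chevG2 c r : L) * t r) m := by
    intro m
    induction hd : chevG2.nroots - m generalizing m with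
    | zero =>
      rw [sysG2.ordProd_of_le L _ (by omega), sysG2.ordProd_of_le L _ (by omega), mul_one,
        mul_inv_cancel]
    | succ d ih =>
      have hm : m < chevG2.nroots := by omega
      rw [sysG2.ordProd_succ L t hm, sysG2.ordProd_succ L _ hm, ← ih (m + 1) (by omega),
        ← sysG2.tor_conj L c hm]
      group
  rw [hconj] at h
  have hz : ∀ r, chevG2.nroots / 2 ≤ r → r < chevG2.nroots → t r = 0 := fun r h1 h2 => by
    have e := sysG2.ordProd_inj_half L h h1 h2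
    by_contra ht
    exact torusVal_ne_one hr h2 (Units.ext (mul_right_cancel₀ ht (by rw [e, Units.val_one, one_mul])))
  rw [sysG2.ordProd_congr L (u := fun _ => 0) hz]
  refine List.prod_eq_one fun x hx => ?_
  simp only [List.map_map, List.mem_map] at hx
  obtain ⟨r, -, rfl⟩ := hx
  exact sysG2.xG_zero L r

/-- The short roots. -/
def shortRoots : List ℕ := [2, 3, 4, 7, 8, 9]

theorem short_iff : ∀ (r : ℕ) (h : r < 12), (r ∈ shortRoots ↔ ∃ j, sIx j = rt r h) ∧
    (r ∈ shortRoots ∨ ∃ j, lIx j = rt r h) := by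
  decide +kernel

theorem vec_short : ∀ k < 12, ∃ r < 12, ∃ s < 12, r ∈ shortRoots ∧ s ∈ shortRoots ∧
    ∀ i < 2, tabG2.coord 2 i k = tabG2.coord 2 i r + tabG2.coord 2 i s := by
  decide +kernel

/-- An element of `N` fixing a regular element lies in the torus. -/
theorem monomial_commute {c : ℕ → Lˣ}
    (hinj : ∀ j k : Fin 7, ev (cy c) (cz c) (sE j) = ev (cy c) (cz c) (sE k) → j = k)
    {n : GL chevG2.Idx L} (hn : n ∈ chevG2.monomialSubgroup L)
    (h : tor chevG2 L c * n = n * tor chevG2 L c) : n ∈ chevG2.diagonalSubgroup L := by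
  set σ := sysG2.perm L ⟨n, hn⟩
  have hval : ∀ s : Fin chevG2.nroots, torusVal chevG2 c (σ s) = torusVal chevG2 c s := by
    intro s
    obtain ⟨e, he, hct⟩ := sysG2.conj_root L ⟨n, hn⟩ s
    set t := tor chevG2 L c
    have h' : t * n * t⁻¹ = n := by rw [h, mul_inv_cancel_right]
    have e1 : n * (t * sysG2.xG L s 1 * t⁻¹) * n⁻¹ =
        sysG2.xG L (σ s) ((e : L) * ((torusVal chevG2 c s : L) * 1)) := by
      rw [sysG2.tor_conj L c s.isLt]
      exact (hct _).1
    have e2 : n * (t * sysG2.xG L s 1 * t⁻¹) * n⁻¹ =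
        sysG2.xG L (σ s) ((torusVal chevG2 c (σ s) : L) * ((e : L) * 1)) := by
      rw [← sysG2.tor_conj L c (σ s).isLt, ← (hct 1).1]
      calc _ = (t * n * t⁻¹) * (t * sysG2.xG L s 1 * t⁻¹) * (t * n * t⁻¹)⁻¹ := by rw [h']
        _ = _ := by simp only [t]; group
    rw [e1, mul_one, mul_one] at e2
    have e3 : sysG2.xG L (σ s) (e * (torusVal chevG2 c s : L) - (torusVal chevG2 c (σ s) : L) * e) = 1 := by
      rw [sub_eq_add_neg, ← sysG2.xG_add, ← sysG2.xG_inv, e2, mul_inv_cancel]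
    rw [sysG2.xG_eq_one_iff L (σ s).isLt, sub_eq_zero, mul_comm] at e3
    exact (Units.ext (mul_right_cancel₀ he e3)).symm
  have hfix : ∀ s : Fin chevG2.nroots, (s : ℕ) ∈ shortRoots → σ s = s := by
    intro s hs
    obtain ⟨j, hj⟩ := (short_iff s s.isLt).1.mp hs
    have hmono : Mono chevG2 (n : Matrix chevG2.Idx chevG2.Idx L) σ :=
      (sysG2.exists_mono L hn).choose_spec
    have htri := tri_of_mem (sysG2.monomial_le_group L hn)
    obtain ⟨row, hrow⟩ := exists_col_ne_zero n (Sum.inr s)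
    rcases row with i | u
    · exact absurd (hmono.2.1 i s) hrow
    obtain rfl := hmono.1 u s hrow
    rcases (short_iff (σ s) (σ s).isLt).2 with hu | ⟨i, hi⟩
    · obtain ⟨k, hk⟩ := (short_iff (σ s) (σ s).isLt).1.mp hu
      have e := congrArg (fun w : Lˣ => (w : L)) (hval s)
      have ek := dval_sIx c k
      have ej := dval_sIx c j
      rw [hk] at ek
      rw [hj] at ej
      simp only [dval, rt, Sum.elim_inr] at ek ej
      obtain rfl := hinj k j (Units.ext (by rw [← ek, ← ej]; exact e))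
      simpa [rt] using hk.symm.trans hj
    · refine absurd ?_ hrow
      have := htri i j
      rwa [hi, hj] at this
  have hone : σ = 1 := by
    refine Equiv.ext fun k => ?_
    obtain ⟨r, hr, s, hs, hr', hs', hv⟩ := vec_short k k.isLt
    refine Fin.ext (sysG2.vec_inj _ (σ k).isLt _ k.isLt fun i hi => ?_)
    have hv' : ∀ i < chevG2.rank, sysG2.vec i k =
        ((1 : ℕ) : ℤ) * sysG2.vec i r + ((1 : ℕ) : ℤ) * sysG2.vec i s := fun i hi => by
      simp only [Nat.cast_one, one_mul]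
      exact hv i hi
    rw [sysG2.vec_perm L ⟨n, hn⟩ (k := k) (r := ⟨r, hr⟩) (s := ⟨s, hs⟩) 1 1 hv' i hi,
      hfix ⟨r, hr⟩ hr', hfix ⟨s, hs⟩ hs']
    exact (hv' i hi).symm
  have : (⟨n, hn⟩ : ↥(chevG2.monomialSubgroup L)) ∈ (sysG2.perm L).ker := hone
  rw [sysG2.ker_perm L, hSub, Subgroup.mem_subgroupOf] at this
  exact this

/-- The centraliser of a regular element of the torus. -/
theorem centralizer_regular {c : ℕ → Lˣ} (hr : Reg (cy c) (cz c))
    (hinj : ∀ j k : Fin 7, ev (cy c) (cz c) (sE j) = ev (cy c) (cz c) (sE k) → j = k)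
    {g : GL chevG2.Idx L} (hg : g ∈ chevG2.group L)
    (h : tor chevG2 L c * g = g * tor chevG2 L c) : g ∈ chevG2.diagonalSubgroup L := by
  obtain ⟨b, hb, n, u, hu, rfl⟩ := sysG2.normal_form_exists L hg
  obtain ⟨v, hv, d, rfl⟩ := (sysG2.mem_borel L).mp hb
  set t := tor chevG2 L c
  set n' : GL chevG2.Idx L := (n : GL chevG2.Idx L)
  have ht : t ∈ chevG2.diagonalSubgroup L := tor_mem_diagonal c
  have hnt : n' * t * n'⁻¹ ∈ chevG2.diagonalSubgroup L :=
    (Subgroup.mem_normalizer_iff.mp (sysG2.monomial_le_normalizer L n.2) t).mp ht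
  have hneg : ∀ x ∈ uSub chevG2 L (sysG2.flipSet L n), n' * x * n'⁻¹ ∈ chevG2.negUnipotent L := by
    intro x hx
    refine closure_conj_mem ?_ hx
    rintro y ⟨r, a, ⟨⟨hr', hr1⟩, -⟩, hy⟩
    obtain ⟨e, -, hct⟩ := sysG2.conj_root L n ⟨r, hr'⟩
    rw [sysG2.eq_xG L hy,
      show sysG2.xG L r a = sysG2.xG L (⟨r, hr'⟩ : Fin chevG2.nroots) a from rfl, (hct a).1]
    exact sysG2.xG_mem_negUnipotent L hr1 _
  have hu' : t * u * t⁻¹ ∈ uSub chevG2 L (sysG2.flipSet L n) := by
    refine closure_conj_mem ?_ hu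
    rintro y ⟨r, a, hp, hy⟩
    rw [sysG2.eq_xG L hy, sysG2.tor_conj L c hp.1.1]
    exact Subgroup.subset_closure ⟨r, _, hp, sysG2.xG_val L r _⟩
  have hv' : t * v * t⁻¹ ∈ chevG2.posUnipotent L :=
    (Subgroup.mem_normalizer_iff.mp (sysG2.diagonal_le_normalizer L ht) v).mp hv
  have hd' : tor chevG2 L d * (t * (n' * t * n'⁻¹)⁻¹) ∈ chevG2.diagonalSubgroup L :=
    mul_mem (tor_mem_diagonal d) (mul_mem ht (inv_mem hnt))
  have e : (t * v * t⁻¹ * (tor chevG2 L d * (t * (n' * t * n'⁻¹)⁻¹))) * n' * (t * u * t⁻¹) =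
      v * tor chevG2 L d * n' * u := by
    have hcomm : t * tor chevG2 L d = tor chevG2 L d * t := by
      rw [← map_mul, ← map_mul, mul_comm]
    calc _ = t * v * (t⁻¹ * (tor chevG2 L d * t)) * n' * u * t⁻¹ := by group
      _ = t * (v * tor chevG2 L d * n' * u) * t⁻¹ := by
        rw [← hcomm]; group
      _ = _ := by rw [h, mul_inv_cancel_right]
  obtain ⟨h1, h2⟩ := sysG2.normal_form_unique L
    (mul_mem (Subgroup.mem_sup_left hv') (Subgroup.mem_sup_right hd')) hb
    (hneg _ hu') (hneg _ hu) e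
  have hu1 : u = 1 := tor_commute_pos hr (uSub_le_posUnipotent L _ hu) h2
  have h3 : v⁻¹ * (t * v * t⁻¹) = tor chevG2 L d * (tor chevG2 L d * (t * (n' * t * n'⁻¹)⁻¹))⁻¹ := by
    rw [inv_mul_eq_iff_eq_mul, ← mul_assoc, ← h1, mul_inv_cancel_right]
  have h4 : v⁻¹ * (t * v * t⁻¹) ∈ chevG2.posUnipotent L ⊓ chevG2.diagonalSubgroup L :=
    Subgroup.mem_inf.mpr ⟨mul_mem (inv_mem hv) hv', h3 ▸ mul_mem (tor_mem_diagonal d) (inv_mem hd')⟩
  rw [sysG2.posUnipotent_inf_diagonal L, Subgroup.mem_bot] at h4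
  have hv1 : v = 1 := tor_commute_pos hr hv (inv_mul_eq_one.mp h4).symm
  rw [h4, eq_comm, mul_inv_eq_one, eq_comm, mul_eq_left, mul_inv_eq_one] at h3
  have hn1 : n' ∈ chevG2.diagonalSubgroup L := monomial_commute hinj n.2
    (eq_mul_inv_iff_mul_eq.mp h3)
  rw [hu1, hv1, one_mul, mul_one]
  exact mul_mem (tor_mem_diagonal d) hn1

end CfsgLib.Ree
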