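import Cfsg.Agent.Ree.Census

/-!
The cyclic Hall subgroups, their centralisers and normalisers, and the orders of elements.
-/

set_option autoImplicit false

namespace CfsgLib.Ree

open Cfsg.Lie CfsgLib.Chevalley

variable {K : Type*} [Field K] [CharP K 3] {m : ℕ} [Fintype K]

local notation "G¹" => twistedG2 K (3 ^ m)
local notation "q₀" => 3 ^ (2 * m + 1)
local notation "r₀" => 3 ^ (m + 1)
local notation "B¹" => Subgroup.subgroupOf (chevG2.borelSubgroup K ⊓ twistedG2 K (3 ^ m)) (twistedG2 K (3 ^ m))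

/-- The parts prime to six. -/
def torusHall (m : ℕ) (i : Fin 4) : ℕ := torusNum m i / torusSmall i

theorem torusSmall_cases (i : Fin 4) : torusSmall i = 1 ∨ torusSmall i = 2 ∨ torusSmall i = 4 := by
  revert i; decide

variable (hm : 1 ≤ m)
include hm

theorem torusNum_eq (i : Fin 4) : torusNum m i = torusSmall i * torusHall m i := by
  have h8 := (params hm).mod8
  fin_cases i <;> simp [torusNum, torusSmall, torusHall] <;> omega

theorem torusHall_coprime (i : Fin 4) : Nat.Coprime 6 (torusHall m i) := by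
  have hP := params hm
  fin_cases i
  · exact hP.coprime_six_half
  · exact hP.coprime_six_quarter
  · simpa [torusHall, torusNum, torusSmall] using hP.coprime_six_a
  · simpa [torusHall, torusNum, torusSmall] using hP.coprime_six_b

theorem torusHall_one_lt (i : Fin 4) : 1 < torusHall m i := by
  have hP := params hm
  have h8 := hP.mod8; have hr := hP.rle; have hle := hP.le
  fin_cases i <;> simp [torusHall, torusNum, torusSmall] <;> omega

variable (hK : Fintype.card K = 3 ^ (2 * m + 1))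
include hK

theorem exists_prime_torus (i : Fin 4) :
    ∃ (x : ↥G¹) (p : ℕ), p.Prime ∧ 5 ≤ p ∧ orderOf x = p ∧ p ∣ torusHall m i := by
  obtain ⟨p, hp, h5, hd⟩ := exists_prime_ge_five (torusHall_coprime hm i) (torusHall_one_lt hm i)
  haveI := Fact.mk hp
  have hP := params hm
  have h3 : q₀ ^ 3 + 1 = (q₀ + 1) * (q₀ ^ 2 - q₀ + 1) := by
    obtain ⟨n, hn⟩ : ∃ n, q₀ = n + 1 := ⟨q₀ - 1, by have := hP.le; omega⟩
    rw [hn, show (n + 1) ^ 2 - (n + 1) + 1 = n ^ 2 + n + 1 by
      rw [show (n + 1) ^ 2 = n ^ 2 + n + (n + 1) by ring, Nat.add_sub_cancel]]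
    ring
  have hdN : p ∣ torusNum m i := by rw [torusNum_eq hm i]; exact dvd_mul_of_dvd_right hd _
  have hG : p ∣ Nat.card ↥G¹ := by
    rw [card_twisted hK, h3]
    fin_cases i
    · exact dvd_mul_of_dvd_left (dvd_mul_of_dvd_right hdN _) _
    · exact dvd_mul_of_dvd_right (dvd_mul_of_dvd_left hdN _) _
    · exact dvd_mul_of_dvd_right (dvd_mul_of_dvd_right (hP.prod_eq ▸ dvd_mul_of_dvd_left hdN _) _) _
    · exact dvd_mul_of_dvd_right (dvd_mul_of_dvd_right (hP.prod_eq ▸ dvd_mul_of_dvd_right hdN _) _) _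
  obtain ⟨x, hx⟩ := exists_prime_orderOf_dvd_card' p hG
  exact ⟨x, p, hp, h5, hx, hd⟩

/-- `z` has prime order and the type `i`. -/
def IsRoot (i : Fin 4) (z : ↥G¹) : Prop :=
  ∃ p, p.Prime ∧ 5 ≤ p ∧ orderOf z = p ∧ p ∣ torusHall m i

variable {i : Fin 4} {z : ↥(twistedG2 K (3 ^ m))}

omit hK hm in
theorem isRoot_mk {p : ℕ} (hp : p.Prime) (h5 : 5 ≤ p) (ho : orderOf z = p) (hd : p ∣ torusHall m i) :
    IsRoot i z := ⟨p, hp, h5, ho, hd⟩

theorem card_of_root (hz : IsRoot i z) :
    Nat.card ↥(Subgroup.centralizer {z}) = torusSmall i * torusHall m i := by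
  obtain ⟨p, hp, h5, ho, hd⟩ := hz
  rw [← torusNum_eq hm i]
  exact ((census hK hm).1 hp h5 ho i (by rw [torusNum_eq hm i]; exact dvd_mul_of_dvd_right hd _)).1

theorem card_normalizer_of_root (hz : IsRoot i z) :
    Nat.card ↥(Subgroup.normalizer (Subgroup.centralizer {z} : Set ↥G¹)) =
      (if i = 0 then 2 else 6) * torusNum m i := by
  obtain ⟨p, hp, h5, ho, hd⟩ := hz
  obtain ⟨h1, h2⟩ := (census hK hm).1 hp h5 ho i
    (by rw [torusNum_eq hm i]; exact dvd_mul_of_dvd_right hd _)
  set C := Subgroup.centralizer {z}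
  have e := Subgroup.card_mul_index (C.subgroupOf (Subgroup.normalizer (C : Set ↥G¹)))
  rw [Nat.card_congr (Subgroup.subgroupOfEquivOfLe
    (Subgroup.le_normalizer : C ≤ _)).toEquiv, h1,
    show (C.subgroupOf (Subgroup.normalizer (C : Set ↥G¹))).index = if i = 0 then 2 else 6 from h2] at e
  rw [← e, mul_comm]

theorem comm_of_root (hz : IsRoot i z) {a b : ↥G¹} (ha : a ∈ Subgroup.centralizer {z})
    (hb : b ∈ Subgroup.centralizer {z}) : a * b = b * a := by
  obtain ⟨p, hp, h5, ho, -⟩ := hz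
  exact (toral_of_prime hK hp h5 ho).comm a ha b hb

theorem odd_subgroup_cyclic (hz : IsRoot i z) {A : Subgroup ↥G¹}
    (hA : A ≤ Subgroup.centralizer {z}) (hodd : Odd (Nat.card ↥A)) : IsCyclic ↥A := by
  obtain ⟨p, hp, h5, ho, -⟩ := hz
  rcases (toral_of_prime hK hp h5 ho).shape with ⟨hc, -⟩ | ⟨-, h⟩
  · haveI := hc
    exact isCyclic_of_injective (Subgroup.inclusion hA) (Subgroup.inclusion_injective hA)
  · have e := Subgroup.subgroupOfEquivOfLe hA
    haveI := h (A.subgroupOf _) (by rwa [Nat.card_congr e.toEquiv])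
    exact isCyclic_of_surjective e.toMonoidHom e.surjective

theorem cent_isCyclic (hz : IsRoot i z) (hi : i ≠ 1) :
    IsCyclic ↥(Subgroup.centralizer {z}) := by
  by_cases h0 : i = 0
  · subst h0
    obtain ⟨p, hp, h5, ho, hd⟩ := hz
    have hpd : p ∣ q₀ - 1 := by
      have := dvd_mul_of_dvd_right hd (torusSmall 0)
      rwa [← torusNum_eq hm 0] at this
    obtain ⟨c, -, hc⟩ := split_case hK hm hp h5 ho hpd
    haveI := isCyclic_splitT (m := m) hK
    let f : ↥(Subgroup.centralizer {z}) →* ↥(splitT K m) :=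
      { toFun := fun a => ⟨c * a * c⁻¹, by
          rw [← hc, Subgroup.mem_centralizer_singleton_iff]
          calc c * (a : ↥G¹) * c⁻¹ * (c * z * c⁻¹) = c * ((a : ↥G¹) * z) * c⁻¹ := by group
            _ = _ := by rw [Subgroup.mem_centralizer_singleton_iff.mp a.2]; group⟩
        map_one' := Subtype.ext (by simp)
        map_mul' := fun a b => Subtype.ext (by simp) }
    exact isCyclic_of_injective f fun a b h =>
      Subtype.ext (mul_left_cancel (mul_right_cancel (congrArg Subtype.val h)))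
  · refine odd_subgroup_cyclic hm hK hz le_rfl ?_
    rw [card_of_root hm hK hz]
    have hco := torusHall_coprime hm i
    have h2 : ¬ 2 ∣ torusHall m i := fun h => by
      have := Nat.dvd_gcd (show 2 ∣ 6 by norm_num) h
      rw [hco] at this
      norm_num at this
    rw [show torusSmall i = 1 by fin_cases i <;> simp_all [torusSmall], one_mul]
    exact Nat.odd_iff.mpr (by omega)

/-- The part of the centraliser killed by the Hall number. -/
noncomputable def hallPart (i : Fin 4) (hz : IsRoot i z) : Subgroup ↥G¹ where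
  carrier := {a | a ∈ Subgroup.centralizer {z} ∧ a ^ torusHall m i = 1}
  one_mem' := ⟨one_mem _, one_pow _⟩
  mul_mem' := fun {a b} ha hb => ⟨mul_mem ha.1 hb.1, by
    rw [(show Commute a b from comm_of_root hm hK hz ha.1 hb.1).mul_pow, ha.2, hb.2, one_mul]⟩
  inv_mem' := fun {a} ha => ⟨inv_mem ha.1, by rw [inv_pow, ha.2, inv_one]⟩

theorem card_hallPart (hz : IsRoot i z) : Nat.card ↥(hallPart hm hK i hz) = torusHall m i := by
  set C := Subgroup.centralizer {z}
  have hcomm : ∀ a b : ↥C, a * b = b * a := fun a b => Subtype.ext (comm_of_root hm hK hz a.2 b.2)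
  letI : CommGroup ↥C := { (inferInstance : Group ↥C) with mul_comm := hcomm }
  have hco : Nat.Coprime (torusHall m i) (torusSmall i) := by
    have h6 := torusHall_coprime hm i
    rcases torusSmall_cases i with h | h | h <;> rw [h]
    · exact Nat.coprime_one_right _
    · exact (h6.coprime_dvd_left (by norm_num : 2 ∣ 6)).symm
    · exact ((h6.coprime_dvd_left (by norm_num : 2 ∣ 6)).pow_left 2).symm
  rw [← natCard_torsion (A := ↥C) ((card_of_root hm hK hz).trans (mul_comm _ _)) hco]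
  exact Nat.card_congr
    { toFun := fun a => ⟨⟨a.1, a.2.1⟩, Subtype.ext a.2.2⟩
      invFun := fun a => ⟨a.1.1, a.1.2, congrArg Subtype.val (show a.1 ^ torusHall m i = 1 from a.2)⟩ }

theorem isCyclic_hallPart (hz : IsRoot i z) : IsCyclic ↥(hallPart hm hK i hz) := by
  refine odd_subgroup_cyclic hm hK hz (fun a ha => ha.1) ?_
  rw [card_hallPart hm hK hz, Nat.odd_iff]
  by_contra h
  have := Nat.dvd_gcd (show 2 ∣ 6 by norm_num) (show 2 ∣ torusHall m i by omega)
  rw [torusHall_coprime hm i] at this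
  norm_num at this

/-- Subgroups of the torus of order dividing the Hall number are determined by their order. -/
theorem hall_unique (hz : IsRoot i z) {A A' : Subgroup ↥G¹} (hA : A ≤ Subgroup.centralizer {z})
    (hA' : A' ≤ Subgroup.centralizer {z}) (hd : Nat.card ↥A ∣ torusHall m i)
    (he : Nat.card ↥A' = Nat.card ↥A) : A' = A := by
  haveI := isCyclic_hallPart hm hK hz
  have hle : ∀ B : Subgroup ↥G¹, B ≤ Subgroup.centralizer {z} → Nat.card ↥B ∣ torusHall m i →
      B ≤ hallPart hm hK i hz := fun B hB hBd a ha => ⟨hB ha, orderOf_dvd_iff_pow_eq_one.mp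
        ((Subgroup.orderOf_dvd_natCard _ ha).trans hBd)⟩
  have h1 := hle A hA hd
  have h2 := hle A' hA' (he ▸ hd)
  set W := hallPart hm hK i hz
  have hker : ∀ (B : Subgroup ↥W), Nat.card ↥B = Nat.card ↥A →
      B = (MonoidHom.ker (letI : CommGroup ↥W := IsCyclic.commGroup
        powMonoidHom (Nat.card ↥A) : ↥W →* ↥W)) := by
    intro B hB
    letI : CommGroup ↥W := IsCyclic.commGroup
    refine Subgroup.eq_of_le_of_card_ge (fun b hb => MonoidHom.mem_ker.mpr ?_) ?_
    · rw [powMonoidHom_apply, ← orderOf_dvd_iff_pow_eq_one, ← hB]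
      exact Subgroup.orderOf_dvd_natCard _ hb
    · rw [IsCyclic.card_powMonoidHom_ker, card_hallPart hm hK hz, hB]
      exact Nat.le_of_dvd Nat.card_pos (Nat.gcd_dvd_right _ _)
  have key : A'.subgroupOf W = A.subgroupOf W :=
    (hker _ ((Nat.card_congr (Subgroup.subgroupOfEquivOfLe h2).toEquiv).trans he)).trans
      (hker _ (Nat.card_congr (Subgroup.subgroupOfEquivOfLe h1).toEquiv)).symm
  rwa [Subgroup.subgroupOf_inj, inf_eq_left.mpr h2, inf_eq_left.mpr h1] at key

/-- A cyclic subgroup of order prime to six with a root inside. -/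
theorem exists_root_of_cyclic {A : Subgroup ↥G¹} (hA : IsCyclic ↥A)
    (hd : Nat.card ↥A ∣ torusHall m i) (h1 : A ≠ ⊥) :
    ∃ z, IsRoot i z ∧ z ∈ A ∧ A ≤ Subgroup.centralizer {z} := by
  have hne : Nat.card ↥A ≠ 1 := fun e => h1 (Subgroup.card_eq_one.mp e)
  have h6 := (torusHall_coprime hm i).coprime_dvd_right hd
  obtain ⟨p, hp, h5, hpd⟩ := exists_prime_ge_five h6 (by
    have := Nat.card_pos (α := ↥A)
    omega)
  haveI := Fact.mk hp
  obtain ⟨a, ha⟩ := exists_prime_orderOf_dvd_card' p hpd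
  refine ⟨a, ⟨p, hp, h5, by rw [Subgroup.orderOf_coe, ha], hpd.trans hd⟩, a.2, fun b hb => ?_⟩
  letI := hA.commGroup
  exact Subgroup.mem_centralizer_singleton_iff.mpr
    (congrArg Subtype.val (mul_comm (⟨b, hb⟩ : ↥A) a))

/-- Every nontrivial subgroup has the centraliser of the root. -/
theorem centralizer_eq_of_le (hz : IsRoot i z) {A : Subgroup ↥G¹} (hA : IsCyclic ↥A)
    (hd : Nat.card ↥A ∣ torusHall m i) (hAC : A ≤ Subgroup.centralizer {z}) (h1 : A ≠ ⊥) :
    Subgroup.centralizer (A : Set ↥G¹) = Subgroup.centralizer {z} := by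
  obtain ⟨w, hw, hwA, -⟩ := exists_root_of_cyclic hm hK hA hd h1
  obtain ⟨p, hp, h5, ho, -⟩ := hz
  obtain ⟨l, hl, hl5, hol, -⟩ := hw
  have e := cent_eq hK hp h5 ho hl hl5 hol (hAC hwA)
  refine le_antisymm ?_ fun a ha => Subgroup.mem_centralizer_iff.mpr fun b hb =>
    ((toral_of_prime hK hp h5 ho).comm a ha b (hAC hb)).symm
  rw [← e]
  exact Subgroup.centralizer_le (Set.singleton_subset_iff.mpr hwA)

theorem normalizer_eq_of_le (hz : IsRoot i z) {A : Subgroup ↥G¹} (hA : IsCyclic ↥A)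
    (hd : Nat.card ↥A ∣ torusHall m i) (hAC : A ≤ Subgroup.centralizer {z}) (h1 : A ≠ ⊥) :
    Subgroup.normalizer (A : Set ↥G¹) =
      Subgroup.normalizer (Subgroup.centralizer {z} : Set ↥G¹) := by
  have e := centralizer_eq_of_le hm hK hz hA hd hAC h1
  refine le_antisymm (fun g hg => ?_) fun g hg => ?_
  · rw [← e]
    have key : ∀ g ∈ Subgroup.normalizer (A : Set ↥G¹), ∀ a ∈ Subgroup.centralizer (A : Set ↥G¹),
        g * a * g⁻¹ ∈ Subgroup.centralizer (A : Set ↥G¹) := by
      intro g hg a ha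
      refine Subgroup.mem_centralizer_iff.mpr fun b hb => ?_
      have hb' : g⁻¹ * b * g ∈ A := by
        have := (Subgroup.mem_normalizer_iff.mp (inv_mem hg) b).mp hb
        rwa [inv_inv] at this
      calc b * (g * a * g⁻¹) = g * ((g⁻¹ * b * g) * a) * g⁻¹ := by group
        _ = g * (a * (g⁻¹ * b * g)) * g⁻¹ := by rw [Subgroup.mem_centralizer_iff.mp ha _ hb']
        _ = _ := by group
    refine Subgroup.mem_normalizer_iff.mpr fun a => ⟨key g hg a, fun ha => ?_⟩
    have := key g⁻¹ (inv_mem hg) _ ha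
    rwa [inv_inv, show g⁻¹ * (g * a * g⁻¹) * g = a by group] at this
  · have hmap : A.map (MulAut.conj g).toMonoidHom = A := by
      refine hall_unique hm hK hz hAC ?_ hd
        (Subgroup.card_map_of_injective (MulAut.conj g).injective)
      rintro _ ⟨a, ha, rfl⟩
      exact (Subgroup.mem_normalizer_iff.mp hg a).mp (hAC ha)
    refine Subgroup.mem_normalizer_iff.mpr fun a => ?_
    have h := Subgroup.ext_iff.mp hmap (g * a * g⁻¹)
    rw [Subgroup.mem_map] at h
    refine ⟨fun ha => h.mp ⟨a, ha, rfl⟩, fun ha => ?_⟩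
    obtain ⟨b, hb, hbe⟩ := h.mpr ha
    rwa [← show b = a from mul_left_cancel (mul_right_cancel hbe)]

theorem cyclic_conjugate {A A' : Subgroup ↥G¹} (hA : IsCyclic ↥A) (hA' : IsCyclic ↥A')
    (hd : Nat.card ↥A ∣ torusHall m i) (he : Nat.card ↥A' = Nat.card ↥A) :
    ∃ g : ↥G¹, A' = A.map (MulAut.conj g).toMonoidHom := by
  by_cases h1 : A = ⊥
  · refine ⟨1, ?_⟩
    rw [h1, Subgroup.card_bot] at he
    rw [h1, Subgroup.map_bot, Subgroup.card_eq_one.mp he]
  have h1' : A' ≠ ⊥ := fun e => h1 (Subgroup.card_eq_one.mp (by rw [← he, e, Subgroup.card_bot]))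
  obtain ⟨z, hz, -, hzA⟩ := exists_root_of_cyclic hm hK hA hd h1
  obtain ⟨w, hw, -, hwA⟩ := exists_root_of_cyclic hm hK hA' (he ▸ hd) h1'
  obtain ⟨p, hp, h5, ho, hpd⟩ := id hz
  obtain ⟨l, hl, hl5, hol, hld⟩ := id hw
  obtain ⟨c, hc⟩ := (census hK hm).2 hl hl5 hol hp h5 ho i
    (by rw [torusNum_eq hm i]; exact dvd_mul_of_dvd_right hld _)
    (by rw [torusNum_eq hm i]; exact dvd_mul_of_dvd_right hpd _)
  refine ⟨c, hall_unique hm hK hw ?_ hwA ?_ ?_⟩
  · rintro _ ⟨a, ha, rfl⟩
    exact (hc a).mp (hzA ha)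
  · rw [Subgroup.card_map_of_injective (MulAut.conj c).injective]; exact hd
  · rw [Subgroup.card_map_of_injective (MulAut.conj c).injective]; exact he

/-- A big element lies in one of the tori. -/
theorem exists_root_torus {g : ↥G¹} (hg : IsBig g) :
    ∃ i z, IsRoot i z ∧ g ∈ Subgroup.centralizer {z} := by
  obtain ⟨z, p, hp, h5, ho, -, hgz⟩ := exists_root hg
  obtain ⟨i, d, -, -, -, hpd, -, -⟩ := torus_data hK hm hp h5 ho
  refine ⟨i, z, ⟨p, hp, h5, ho, ?_⟩, hgz⟩
  rw [torusNum_eq hm i] at hpd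
  rcases hp.dvd_mul.mp hpd with h | h
  · have h4 : p ∣ 4 := h.trans (by rcases torusSmall_cases i with e | e | e <;> rw [e] <;> norm_num)
    have := Nat.le_of_dvd (by norm_num) h4
    omega
  · exact h

omit hm in
/-- No element has order four. -/
theorem orderOf_ne_four (g : ↥G¹) : orderOf g ≠ 4 := by
  intro h
  have hp : IsPGroup 2 (Subgroup.zpowers g) :=
    IsPGroup.of_card (n := 2) (by rw [Nat.card_zpowers, h]; norm_num)
  obtain ⟨S, hS⟩ := hp.exists_le_sylow
  haveI : Fact (Nat.Prime 2) := ⟨Nat.prime_two⟩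
  have := orderOf_dvd_of_pow_eq_one (show g ^ 2 = 1 by
    rw [sq]; exact (sylow_two_twisted hK S).2 g (hS (Subgroup.mem_zpowers g)))
  rw [h] at this
  norm_num at this

theorem exists_pow_orderOf {g : ↥G¹} {d : ℕ} (hd : d ∣ orderOf g) : ∃ h : ↥G¹, orderOf h = d :=
  ⟨g ^ (orderOf g / d), orderOf_pow_orderOf_div (orderOf_pos g).ne' hd⟩

/-- Involutions in the torus of order `q + 1`. -/
theorem card_torus_involutions (hz : IsRoot 1 z) :
    Nat.card {a : ↥G¹ // a ∈ Subgroup.centralizer {z} ∧ orderOf a = 2} = 3 := by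
  set C := Subgroup.centralizer {z}
  have hcomm : ∀ a b : ↥C, a * b = b * a := fun a b => Subtype.ext (comm_of_root hm hK hz a.2 b.2)
  letI : CommGroup ↥C := { (inferInstance : Group ↥C) with mul_comm := hcomm }
  have hco : Nat.Coprime (torusSmall 1) (torusHall m 1) :=
    ((torusHall_coprime hm 1).coprime_dvd_left (by norm_num : 2 ∣ 6)).pow_left 2
  have h4 := natCard_torsion (A := ↥C) (card_of_root hm hK hz) hco
  set T := (powMonoidHom (torusSmall 1) : ↥C →* ↥C).ker
  let e : {a : ↥T // a ≠ 1} ≃ {a : ↥G¹ // a ∈ C ∧ orderOf a = 2} :=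
    { toFun := fun a => ⟨a.1.1, a.1.1.2, by
        have ha : ((a.1.1 : ↥C) : ↥G¹) ^ 2 ^ 2 = 1 :=
          congrArg Subtype.val (show a.1.1 ^ torusSmall 1 = 1 from a.1.2)
        obtain ⟨k, hk, e⟩ := (Nat.dvd_prime_pow Nat.prime_two).mp (orderOf_dvd_of_pow_eq_one ha)
        interval_cases k
        · exact absurd (orderOf_eq_one_iff.mp e) (fun h => a.2 (Subtype.ext (Subtype.ext h)))
        · exact e
        · exact absurd e (orderOf_ne_four hK _)⟩
      invFun := fun a => ⟨⟨⟨a.1, a.2.1⟩, Subtype.ext (orderOf_dvd_iff_pow_eq_one.mp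
          (show orderOf a.1 ∣ 4 by rw [a.2.2]; norm_num))⟩, fun h => by
        have := a.2.2
        rw [show a.1 = 1 from congrArg (fun w : ↥T => ((w : ↥C) : ↥G¹)) h, orderOf_one] at this
        omega⟩ }
  classical
  haveI : Fintype ↥T := Fintype.ofFinite _
  rw [← Nat.card_congr e, Nat.card_eq_fintype_card, Fintype.card_subtype_compl,
    Fintype.card_subtype_eq, ← Nat.card_eq_fintype_card, h4]
  rfl

/-- The set of possible orders. -/
theorem orders_iff (d : ℕ) : (∃ g : ↥G¹, orderOf g = d) ↔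
    (d ∣ 6 ∨ d ∣ 9 ∨ d ∣ q₀ - 1 ∨ d ∣ (q₀ + 1) / 2 ∨ d ∣ q₀ - r₀ + 1 ∨ d ∣ q₀ + r₀ + 1) := by
  have hP := params hm
  have h8 := hP.mod8
  have hr := hP.rle
  have hh : (q₀ + 1) / 2 = 2 * torusHall m 1 := by
    simp [torusHall, torusNum, torusSmall]; omega
  have ha : q₀ - r₀ + 1 = q₀ + 1 - r₀ := by omega
  constructor
  · rintro ⟨g, rfl⟩
    by_cases hb : IsBig g
    · obtain ⟨i, z, hz, hgz⟩ := exists_root_torus hm hK hb
      have hdvd := Subgroup.orderOf_dvd_natCard _ hgz
      rw [card_of_root hm hK hz] at hdvd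
      fin_cases i
      · rw [← torusNum_eq hm] at hdvd
        exact Or.inr (Or.inr (Or.inl hdvd))
      · refine Or.inr (Or.inr (Or.inr (Or.inl ?_)))
        rw [hh]
        set k := torusHall m 1
        replace hdvd : orderOf g ∣ 4 * k := hdvd
        by_contra hcon
        have h4 : 4 ∣ orderOf g := by
          by_contra h4
          apply hcon
          have h2 : Nat.gcd (orderOf g) 4 ∣ 2 := by
            have h2' : Nat.gcd (orderOf g) 4 ∣ 2 ^ 2 := Nat.gcd_dvd_right _ _
            obtain ⟨j, hj, e⟩ := (Nat.dvd_prime_pow Nat.prime_two).mp h2'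
            interval_cases j <;> rw [e]
            · norm_num
            · norm_num
            · have h5 := Nat.gcd_dvd_left (orderOf g) 4
              rw [e] at h5
              exact absurd h5 h4
          calc orderOf g ∣ Nat.gcd (orderOf g) 4 * Nat.gcd (orderOf g) k :=
                (Nat.dvd_gcd dvd_rfl hdvd).trans (gcd_mul_dvd_mul_gcd (orderOf g) 4 k)
            _ ∣ 2 * k := mul_dvd_mul h2 (Nat.gcd_dvd_right _ _)
        obtain ⟨h, hh4⟩ := exists_pow_orderOf hm hK (g := g) h4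
        exact orderOf_ne_four hK h hh4
      · rw [← torusNum_eq hm] at hdvd
        exact Or.inr (Or.inr (Or.inr (Or.inr (Or.inl (ha ▸ hdvd)))))
      · rw [← torusNum_eq hm] at hdvd
        exact Or.inr (Or.inr (Or.inr (Or.inr (Or.inr hdvd))))
    · rcases orderOf_two_three hK (g := g) (fun p hp hd => by
        by_contra h3
        refine hb ⟨p, hp, ?_, hd⟩
        have h4 : p ≠ 4 := fun e => by subst e; norm_num at hp
        omega) with e | e | e | e | e <;> rw [e] <;> norm_num
  · intro h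
    have hgen : ∀ i : Fin 4, i ≠ 1 → ∃ g : ↥G¹, orderOf g = torusNum m i := by
      intro i hi
      obtain ⟨x, p, hp, h5, ho, hd⟩ := exists_prime_torus hm hK i
      have hz := isRoot_mk hp h5 ho hd
      haveI := cent_isCyclic hm hK hz hi
      obtain ⟨g, hg⟩ := IsCyclic.exists_generator (α := ↥(Subgroup.centralizer {x}))
      exact ⟨g, by rw [Subgroup.orderOf_coe, orderOf_eq_card_of_forall_mem_zpowers hg,
        card_of_root hm hK hz, torusNum_eq hm i]⟩
    have hq1 : 1 < q₀ := by have := hP.le; omega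
    rcases h with h | h | h | h | h | h
    · have hpos : 0 < Nat.card {g : ↥G¹ // orderOf g = 6} := by
        rw [card_order_six hK]
        have : 0 < q₀ - 1 := by omega
        positivity
      obtain ⟨⟨g, hg⟩⟩ := (Nat.card_pos_iff.mp hpos).1
      exact exists_pow_orderOf hm hK (g := g) (hg ▸ h)
    · have hpos : 0 < Nat.card {g : ↥G¹ // orderOf g = 9} := by
        rw [card_order_nine hK]
        have : 0 < q₀ - 1 := by omega
        positivity
      obtain ⟨⟨g, hg⟩⟩ := (Nat.card_pos_iff.mp hpos).1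
      exact exists_pow_orderOf hm hK (g := g) (hg ▸ h)
    · obtain ⟨g, hg⟩ := hgen 0 (by decide)
      exact exists_pow_orderOf hm hK (g := g) (hg ▸ h)
    · obtain ⟨x, p, hp, h5, ho, hd⟩ := exists_prime_torus hm hK 1
      have hz := isRoot_mk hp h5 ho hd
      haveI := isCyclic_hallPart hm hK hz
      obtain ⟨b, hb⟩ := IsCyclic.exists_generator (α := ↥(hallPart hm hK 1 hz))
      have hob : orderOf (b : ↥G¹) = torusHall m 1 := by
        rw [Subgroup.orderOf_coe, orderOf_eq_card_of_forall_mem_zpowers hb, card_hallPart hm hK hz]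
      obtain ⟨⟨a, ha, hoa⟩⟩ := (Nat.card_pos_iff.mp
        (show 0 < Nat.card {a : ↥G¹ // a ∈ Subgroup.centralizer {x} ∧ orderOf a = 2} by
          rw [card_torus_involutions hm hK hz]; norm_num)).1
      refine exists_pow_orderOf hm hK (g := a * (b : ↥G¹)) ?_
      rw [(show Commute a (b : ↥G¹) from comm_of_root hm hK hz ha b.2.1).orderOf_mul_eq_mul_orderOf_of_coprime
        (by rw [hoa, hob]; exact (torusHall_coprime hm 1).coprime_dvd_left (by norm_num)), hoa, hob,
        ← hh]
      exact h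
    · obtain ⟨g, hg⟩ := hgen 2 (by decide)
      exact exists_pow_orderOf hm hK (g := g) (by
        rw [hg]; simpa [torusNum, ← ha] using h)
    · obtain ⟨g, hg⟩ := hgen 3 (by decide)
      exact exists_pow_orderOf hm hK (g := g) (hg ▸ h)

/-- The elements of a given order in a class of tori. -/
theorem card_order_class {x : ↥G¹} (hz : IsRoot i x) {n : ℕ} (hn : 1 < n)
    (hbig : ∃ p, p.Prime ∧ 5 ≤ p ∧ p ∣ n ∧ p ∣ torusHall m i) :
    Nat.card {g : ↥G¹ // orderOf g = n} * ((if i = 0 then 2 else 6) * torusNum m i) =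
      Nat.card ↥G¹ * Nat.card {g : ↥G¹ | g ∈ Subgroup.centralizer {x} ∧ orderOf g = n} := by
  obtain ⟨p, hp, h5, hpn, hpi⟩ := hbig
  obtain ⟨l, hl, hl5, hol, hli⟩ := id hz
  set C := Subgroup.centralizer {x}
  set N := Subgroup.normalizer (C : Set ↥G¹)
  have hcount : Nat.card {g : ↥G¹ // orderOf g = n} =
      N.index * Nat.card {g : ↥G¹ | g ∈ C ∧ orderOf g = n} := by
    refine natCard_pred_of_ti _ _ _ (fun a ha s hs => ⟨(Subgroup.mem_normalizer_iff.mp ha s).mp hs.1,
      (orderOf_conj_eq a s).trans hs.2⟩) (fun g s hs h => ?_) fun g => ⟨fun hg => ?_, ?_⟩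
    · have hy : orderOf (s ^ (n / p)) = p := by
        rw [← hs.2]
        exact orderOf_pow_orderOf_div (orderOf_pos s).ne' (by rw [hs.2]; exact hpn)
      have hyC : s ^ (n / p) ∈ C := pow_mem hs.1 _
      have hyC' : g * s ^ (n / p) * g⁻¹ ∈ C := by
        rw [← conj_pow]
        exact pow_mem h.1 _
      have e1 := cent_eq hK hl hl5 hol hp h5 hy hyC
      have e2 := cent_eq hK hl hl5 hol hp h5 (by rw [orderOf_conj_eq, hy]) hyC'
      refine Subgroup.mem_normalizer_iff.mpr fun w => ?_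
      show w ∈ C ↔ g * w * g⁻¹ ∈ C
      conv_lhs => rw [show C = Subgroup.centralizer {x} from rfl, ← e1]
      conv_rhs => rw [show C = Subgroup.centralizer {x} from rfl, ← e2]
      set u := s ^ (n / p)
      rw [Subgroup.mem_centralizer_singleton_iff, Subgroup.mem_centralizer_singleton_iff,
        show g * w * g⁻¹ * (g * u * g⁻¹) = g * (w * u) * g⁻¹ by group,
        show g * u * g⁻¹ * (g * w * g⁻¹) = g * (u * w) * g⁻¹ by group, mul_left_inj, mul_right_inj]
    · have hy : orderOf (g ^ (n / p)) = p := by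
        rw [← hg]
        exact orderOf_pow_orderOf_div (orderOf_pos g).ne' (by rw [hg]; exact hpn)
      obtain ⟨c, hc⟩ := (census hK hm).2 hl hl5 hol hp h5 hy i
        (by rw [torusNum_eq hm i]; exact dvd_mul_of_dvd_right hli _)
        (by rw [torusNum_eq hm i]; exact dvd_mul_of_dvd_right hpi _)
      exact ⟨c, (hc g).mp (Subgroup.mem_centralizer_singleton_iff.mpr
        ((Commute.refl g).pow_right _).eq), (orderOf_conj_eq c g).trans hg⟩
    · rintro ⟨c, -, hc⟩
      exact (orderOf_conj_eq c g).symm.trans hc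
  rw [hcount, ← card_normalizer_of_root hm hK hz, ← N.card_mul_index]
  ring

theorem card_order_hall {x : ↥G¹} (hz : IsRoot i x) {n : ℕ} (hn : n ∣ torusHall m i) :
    Nat.card {g : ↥G¹ | g ∈ Subgroup.centralizer {x} ∧ orderOf g = n} = n.totient := by
  haveI := isCyclic_hallPart hm hK hz
  rw [← natCard_orderOf_eq (α := ↥(hallPart hm hK i hz)) (by rw [card_hallPart hm hK hz]; exact hn)]
  exact Nat.card_congr
    { toFun := fun g => ⟨⟨g.1, g.2.1, orderOf_dvd_iff_pow_eq_one.mp (g.2.2.symm ▸ hn)⟩,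
        (Subgroup.orderOf_coe _).symm.trans g.2.2⟩
      invFun := fun g => ⟨g.1.1, g.1.2.1, (Subgroup.orderOf_coe _).trans g.2⟩ }

theorem card_order_split {x : ↥G¹} (hz : IsRoot 0 x) {n : ℕ} (hn : n ∣ q₀ - 1) :
    Nat.card {g : ↥G¹ | g ∈ Subgroup.centralizer {x} ∧ orderOf g = n} = n.totient := by
  haveI := cent_isCyclic hm hK hz (by decide)
  rw [← natCard_orderOf_eq (α := ↥(Subgroup.centralizer {x})) (by
    rw [card_of_root hm hK hz, ← torusNum_eq hm]; exact hn)]
  exact Nat.card_congr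
    { toFun := fun g => ⟨⟨g.1, g.2.1⟩, (Subgroup.orderOf_coe _).symm.trans g.2.2⟩
      invFun := fun g => ⟨g.1.1, g.1.2, (Subgroup.orderOf_coe _).trans g.2⟩ }

theorem card_order_double {x : ↥G¹} (hz : IsRoot 1 x) {n : ℕ} (hn : n ∣ torusHall m 1) :
    Nat.card {g : ↥G¹ | g ∈ Subgroup.centralizer {x} ∧ orderOf g = 2 * n} = 3 * n.totient := by
  have hco : Nat.Coprime 2 n :=
    ((torusHall_coprime hm 1).coprime_dvd_right hn).coprime_dvd_left (by norm_num)
  set C := Subgroup.centralizer {x}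
  refine Eq.trans ?_
    ((Nat.card_prod _ _).trans (congrArg₂ (· * ·) (card_torus_involutions hm hK hz) (card_order_hall hm hK hz hn)))
  symm
  let f : {a : ↥G¹ // a ∈ C ∧ orderOf a = 2} × {g : ↥G¹ | g ∈ C ∧ orderOf g = n} →
      {g : ↥G¹ | g ∈ C ∧ orderOf g = 2 * n} := fun p =>
    ⟨p.1.1 * p.2.1, mul_mem p.1.2.1 p.2.2.1, by
      rw [(show Commute p.1.1 p.2.1 from comm_of_root hm hK hz p.1.2.1 p.2.2.1).orderOf_mul_eq_mul_orderOf_of_coprime
        (by rw [p.1.2.2, p.2.2.2]; exact hco), p.1.2.2, p.2.2.2]⟩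
  refine Nat.card_eq_of_bijective f ⟨?_, ?_⟩
  · rintro ⟨⟨a, ha, hoa⟩, ⟨b, hb, hob⟩⟩ ⟨⟨a', ha', hoa'⟩, ⟨b', hb', hob'⟩⟩ h
    have e : a * b = a' * b' := congrArg Subtype.val h
    have key : ∀ a b : ↥G¹, a ∈ C → b ∈ C → orderOf a = 2 → orderOf b = n → (a * b) ^ n = a := by
      intro a b ha hb hoa hob
      have h2 : a ^ 2 = 1 := orderOf_dvd_iff_pow_eq_one.mp hoa.dvd
      obtain ⟨k, hk⟩ : Odd n := by
        rw [← Nat.not_even_iff_odd, even_iff_two_dvd]
        exact fun h => by
          have := Nat.dvd_gcd dvd_rfl h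
          rw [hco] at this
          norm_num at this
      rw [(show Commute a b from comm_of_root hm hK hz ha hb).mul_pow,
        orderOf_dvd_iff_pow_eq_one.mp hob.dvd, mul_one, hk, pow_succ, pow_mul, h2, one_pow, one_mul]
    obtain rfl : a = a' := by rw [← key a b ha hb hoa hob, e, key a' b' ha' hb' hoa' hob']
    obtain rfl : b = b' := mul_left_cancel e
    rfl
  · rintro ⟨g, hgC, hog⟩
    have hn0 : n ≠ 0 := fun h => by
      rw [h, mul_zero] at hog
      exact (orderOf_pos g).ne' hog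
    have h1 : orderOf (g ^ n) = 2 := by
      rw [orderOf_pow' _ hn0, hog, Nat.gcd_eq_right (dvd_mul_left n 2), Nat.mul_div_cancel _
        (Nat.pos_of_ne_zero hn0)]
    have h2 : orderOf (g ^ (n + 1)) = n := by
      have hg2 : Nat.gcd (2 * n) (n + 1) = 2 := by
        obtain ⟨k, hk⟩ : Odd n := by
          rw [← Nat.not_even_iff_odd, even_iff_two_dvd]
          exact fun h => by
            have := Nat.dvd_gcd dvd_rfl h
            rw [hco] at this
            norm_num at this
        rw [hk, show 2 * k + 1 + 1 = 2 * (k + 1) by ring, Nat.gcd_mul_left,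
          show 2 * k + 1 = k + (k + 1) by ring, Nat.gcd_add_self_left,
          Nat.coprime_self_add_right.mpr (Nat.coprime_one_right k), mul_one]
      rw [orderOf_pow' _ (by omega), hog, hg2, Nat.mul_div_cancel_left _ (by norm_num)]
    refine ⟨⟨⟨g ^ n, pow_mem hgC _, h1⟩, ⟨g ^ (n + 1), pow_mem hgC _, h2⟩⟩, Subtype.ext ?_⟩
    show g ^ n * g ^ (n + 1) = g
    rw [← pow_add, show n + (n + 1) = 2 * n + 1 by ring, pow_succ,
      orderOf_dvd_iff_pow_eq_one.mp hog.dvd, one_mul]

end CfsgLib.Ree
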