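import Cfsg.Agent.Ree.InvolutionClass
import Mathlib.Analysis.Fourier.FiniteAbelian.PontryaginDuality
import Mathlib.RepresentationTheory.Character
import Mathlib.RepresentationTheory.Irreducible
import Mathlib.NumberTheory.LegendreSymbol.AddCharacter

/-!
A lower bound for the degree of a non-trivial irreducible complex representation of the small
twisted groups of type G₂.
-/

set_option autoImplicit false

namespace CfsgLib.Ree.MinDeg65

section Weights

variable {F : Type*} [Field F] [Fintype F] {G : Type*} [Group G] {V : Type*} [AddCommGroup V]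
  [Module ℂ V] (ρ : Representation ℂ G V) (z : Multiplicative F →* G)

/-- Action of an element of the additive group. -/
def act (b : F) : Module.End ℂ V := ρ (z (Multiplicative.ofAdd b))

omit [Fintype F] in
theorem act_add (a b : F) : act ρ z a * act ρ z b = act ρ z (a + b) := by
  rw [act, act, act, ← map_mul, ← map_mul, ← ofAdd_add]

omit [Fintype F] in
theorem act_zero : act ρ z 0 = 1 := by rw [act, ofAdd_zero, map_one, map_one]

/-- The weight space of an additive character. -/
def wt (ψ : AddChar F ℂ) : Submodule ℂ V where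
  carrier := {v | ∀ b, act ρ z b v = ψ b • v}
  zero_mem' := fun b => by simp
  add_mem' := fun {v w} hv hw b => by rw [map_add, hv b, hw b, smul_add]
  smul_mem' := fun c v hv b => by rw [map_smul, hv b, smul_comm]

/-- The projection onto a weight space. -/
noncomputable def proj (ψ : AddChar F ℂ) : Module.End ℂ V :=
  (Fintype.card F : ℂ)⁻¹ • ∑ b, ψ (-b) • act ρ z b

theorem card_ne_zero : (Fintype.card F : ℂ) ≠ 0 := Nat.cast_ne_zero.2 Fintype.card_ne_zero

theorem act_mul_proj (ψ : AddChar F ℂ) (c : F) : act ρ z c * proj ρ z ψ = ψ c • proj ρ z ψ := by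
  rw [proj, mul_smul_comm, smul_comm (ψ c), Finset.mul_sum]
  congr 1
  rw [Finset.smul_sum]
  refine Fintype.sum_equiv (Equiv.addLeft c) _ _ fun b => ?_
  rw [mul_smul_comm, act_add, smul_smul, ← AddChar.map_add_eq_mul, Equiv.coe_addLeft]
  congr 2
  ring

theorem proj_mem (ψ : AddChar F ℂ) (v : V) : proj ρ z ψ v ∈ wt ρ z ψ := fun b => by
  rw [← Module.End.mul_apply, act_mul_proj]
  rfl

theorem proj_comm_act (ψ : AddChar F ℂ) (c : F) :
    proj ρ z ψ * act ρ z c = act ρ z c * proj ρ z ψ := by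
  rw [proj, smul_mul_assoc, mul_smul_comm, Finset.sum_mul, Finset.mul_sum]
  congr 1
  refine Finset.sum_congr rfl fun b _ => ?_
  rw [smul_mul_assoc, mul_smul_comm, act_add, act_add, add_comm]

theorem proj_apply_mem {ψ : AddChar F ℂ} {v : V} (hv : v ∈ wt ρ z ψ) : proj ρ z ψ v = v := by
  have h : ∀ b, ψ (-b) • act ρ z b v = v := fun b => by
    rw [hv b, smul_smul, ← AddChar.map_add_eq_mul, neg_add_cancel, AddChar.map_zero_eq_one, one_smul]
  rw [proj, LinearMap.smul_apply, LinearMap.sum_apply]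
  simp only [LinearMap.smul_apply, h]
  rw [Finset.sum_const, Finset.card_univ, ← Nat.cast_smul_eq_nsmul ℂ, smul_smul,
    inv_mul_cancel₀ card_ne_zero, one_smul]

theorem isProj (ψ : AddChar F ℂ) : LinearMap.IsProj (wt ρ z ψ) (proj ρ z ψ) :=
  ⟨proj_mem ρ z ψ, fun _ => proj_apply_mem ρ z⟩

theorem proj_mul_proj {ψ φ : AddChar F ℂ} (h : ψ ≠ φ) : proj ρ z ψ * proj ρ z φ = 0 := by
  have h0 : ∑ b, φ (-b) * ψ b = 0 := by
    classical
    have h1 := AddChar.sum_eq_ite (φ⁻¹ * ψ)
    rw [if_neg] at h1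
    · simpa [AddChar.mul_apply, AddChar.inv_apply] using h1
    · intro hc
      refine h (mul_left_cancel (a := φ⁻¹) ?_)
      rw [inv_mul_cancel]
      exact hc
  conv_lhs => rw [show proj ρ z φ = (Fintype.card F : ℂ)⁻¹ • ∑ b, φ (-b) • act ρ z b from rfl]
  rw [mul_smul_comm, Finset.mul_sum]
  simp only [mul_smul_comm, proj_comm_act, act_mul_proj, smul_smul]
  rw [← Finset.sum_smul, h0, zero_smul, smul_zero]

theorem proj_mul_self (ψ : AddChar F ℂ) : proj ρ z ψ * proj ρ z ψ = proj ρ z ψ :=
  LinearMap.ext fun v => proj_apply_mem ρ z (proj_mem ρ z ψ v)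

theorem sum_proj : ∑ ψ : AddChar F ℂ, proj ρ z ψ = 1 := by
  classical
  simp only [proj, ← Finset.smul_sum]
  rw [Finset.sum_comm]
  simp only [← Finset.sum_smul, AddChar.sum_apply_eq_ite, neg_eq_zero, ite_smul, zero_smul]
  rw [Finset.sum_ite_eq', if_pos (Finset.mem_univ _), act_zero, smul_smul,
    inv_mul_cancel₀ card_ne_zero, one_smul]

theorem exists_wt {c : F} (hc : act ρ z c ≠ 1) : ∃ ψ : AddChar F ℂ, ψ ≠ 1 ∧ wt ρ z ψ ≠ ⊥ := by
  classical
  by_contra hcon
  refine hc ?_
  have h0 : ∀ ψ : AddChar F ℂ, ψ ≠ 1 → proj ρ z ψ = 0 := fun ψ hψ => LinearMap.ext fun v => by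
    by_contra h
    exact hcon ⟨ψ, hψ, fun hb => h ((Submodule.eq_bot_iff _).1 hb _ (proj_mem ρ z ψ v))⟩
  have h1 := sum_proj ρ z
  rw [Fintype.sum_eq_single 1 h0] at h1
  rw [← mul_one (act ρ z c), ← h1, act_mul_proj, AddChar.one_apply, one_smul]

variable [FiniteDimensional ℂ V]

theorem trace_proj (ψ : AddChar F ℂ) :
    LinearMap.trace ℂ V (proj ρ z ψ) = Module.finrank ℂ (wt ρ z ψ) :=
  (isProj ρ z ψ).trace

theorem sum_finrank : ∑ ψ : AddChar F ℂ, Module.finrank ℂ (wt ρ z ψ) = Module.finrank ℂ V := by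
  have h := congrArg (LinearMap.trace ℂ V) (sum_proj ρ z)
  rw [map_sum, LinearMap.trace_one] at h
  simp only [trace_proj] at h
  exact_mod_cast h

omit [FiniteDimensional ℂ V] in
theorem trace_eq_zero {J : Module.End ℂ V} (hJ : ∀ b, J * act ρ z b = act ρ z (-b) * J)
    (hfix : ∀ ψ : AddChar F ℂ, ψ⁻¹ = ψ → ψ = 1) (h1 : wt ρ z 1 = ⊥) :
    LinearMap.trace ℂ V J = 0 := by
  have hP1 : proj ρ z 1 = 0 := LinearMap.ext fun v =>
    (Submodule.eq_bot_iff _).1 h1 _ (proj_mem ρ z 1 v)
  have hJP : ∀ ψ : AddChar F ℂ, J * proj ρ z ψ = proj ρ z ψ⁻¹ * J := by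
    intro ψ
    rw [proj, proj, mul_smul_comm, smul_mul_assoc, Finset.mul_sum, Finset.sum_mul]
    congr 1
    refine Fintype.sum_equiv (Equiv.neg F) _ _ fun b => ?_
    rw [mul_smul_comm, hJ, smul_mul_assoc, Equiv.neg_apply, AddChar.inv_apply, neg_neg]
  calc LinearMap.trace ℂ V J = LinearMap.trace ℂ V (J * ∑ ψ, proj ρ z ψ) := by
        rw [sum_proj, mul_one]
    _ = 0 := by
        rw [Finset.mul_sum, map_sum]
        refine Finset.sum_eq_zero fun ψ _ => ?_
        by_cases hψ : ψ⁻¹ = ψ
        · rw [hfix ψ hψ, hP1, mul_zero, map_zero]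
        · rw [← proj_mul_self ρ z ψ, ← mul_assoc, hJP, mul_assoc, LinearMap.trace_mul_comm,
            mul_assoc, proj_mul_proj ρ z (Ne.symm hψ), mul_zero, map_zero]

/-- Shifting by a family of elements forces at least `|F|` dimensions in a weight space. -/
theorem card_le_finrank_wt (A B : F → G) {ψ : AddChar F ℂ} (hψ : ψ ≠ 1)
    (hB : ∀ a b, B a * B b = B (a + b))
    (hzA : ∀ t c, z (Multiplicative.ofAdd c) * A t = A t * z (Multiplicative.ofAdd c))
    (hzB : ∀ u c, z (Multiplicative.ofAdd c) * B u = B u * z (Multiplicative.ofAdd c))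
    (hAB : ∀ t u, A t * B u = B u * A t * z (Multiplicative.ofAdd (t * u)))
    (hW : wt ρ z ψ ≠ ⊥) : Fintype.card F ≤ Module.finrank ℂ (wt ρ z ψ) := by
  classical
  have hB0 : B 0 = 1 := by
    have := hB 0 0
    rwa [add_zero, mul_eq_left] at this
  let zB : Multiplicative F →* G :=
    { toFun := fun a => B a.toAdd
      map_one' := hB0
      map_mul' := fun a b => (hB _ _).symm }
  have hzBv : ∀ a, act ρ zB a = ρ (B a) := fun a => rfl
  obtain ⟨v₀, hv₀, hv0⟩ := Submodule.exists_mem_ne_zero_of_ne_bot hW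
  -- a common eigenvector
  obtain ⟨φ, hφ⟩ : ∃ φ : AddChar F ℂ, proj ρ zB φ v₀ ≠ 0 := by
    by_contra hcon
    push Not at hcon
    have h := LinearMap.congr_fun (sum_proj ρ zB) v₀
    rw [LinearMap.sum_apply, Finset.sum_eq_zero fun φ _ => hcon φ] at h
    exact hv0 h.symm
  set w := proj ρ zB φ v₀
  have hwψ : w ∈ wt ρ z ψ := by
    intro c
    have hc : act ρ z c * proj ρ zB φ = proj ρ zB φ * act ρ z c := by
      rw [proj, mul_smul_comm, smul_mul_assoc, Finset.mul_sum, Finset.sum_mul]
      congr 1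
      refine Finset.sum_congr rfl fun b _ => ?_
      rw [mul_smul_comm, smul_mul_assoc, hzBv, act, ← map_mul, ← map_mul, hzB]
    rw [← Module.End.mul_apply, hc, Module.End.mul_apply, hv₀ c, map_smul]
  have hwφ : w ∈ wt ρ zB φ := proj_mem ρ zB φ v₀
  let f : F → V := fun t => ρ (A t) w
  have hf0 : ∀ t, f t ≠ 0 := fun t h => hφ <| by
    have := congrArg (ρ (A t)⁻¹) h
    rwa [Representation.inv_self_apply, map_zero] at this
  have hfψ : ∀ t, f t ∈ wt ρ z ψ := by
    intro t c
    show act ρ z c (ρ (A t) w) = _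
    rw [act, ← Module.End.mul_apply, ← map_mul, hzA, map_mul, Module.End.mul_apply]
    show ρ (A t) (act ρ z c w) = _
    rw [hwψ c, map_smul]
  let χ : F → AddChar F ℂ := fun t => φ * AddChar.mulShift ψ (-t)
  have hfχ : ∀ t, f t ∈ wt ρ zB (χ t) := by
    intro t u
    show ρ (B u) (ρ (A t) w) = _
    have hcomm : B u * A t = A t * B u * z (Multiplicative.ofAdd (-(t * u))) := by
      rw [hAB, mul_assoc (B u * A t), ← map_mul, ← ofAdd_add, add_neg_cancel, ofAdd_zero, map_one,
        mul_one]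
    rw [← Module.End.mul_apply, ← map_mul, hcomm, map_mul, map_mul, Module.End.mul_apply,
      Module.End.mul_apply]
    show ρ (A t) (ρ (B u) (act ρ z (-(t * u)) w)) = _
    rw [hwψ, map_smul, ← hzBv, hwφ u, smul_smul, map_smul]
    show _ = (φ * AddChar.mulShift ψ (-t)) u • f t
    rw [AddChar.mul_apply, AddChar.mulShift_apply, mul_comm (φ u), neg_mul]
  have hχ : Function.Injective χ := fun t t' h =>
    neg_injective (AddChar.to_mulShift_inj_of_isPrimitive (AddChar.IsPrimitive.of_ne_one hψ)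
      (mul_left_cancel h))
  have hli : LinearIndependent ℂ fun t => (⟨f t, hfψ t⟩ : wt ρ z ψ) := by
    rw [Fintype.linearIndependent_iff]
    intro g hg t
    have h := congrArg (fun v : wt ρ z ψ => proj ρ zB (χ t) (v : V)) hg
    simp only [Submodule.coe_sum, Submodule.coe_smul, map_sum, map_smul, ZeroMemClass.coe_zero,
      map_zero] at h
    rw [Fintype.sum_eq_single t, proj_apply_mem ρ zB (hfχ t)] at h
    · exact (smul_eq_zero.1 h).resolve_right (hf0 t)
    · intro t' ht'
      rw [← proj_apply_mem ρ zB (hfχ t'), ← Module.End.mul_apply,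
        proj_mul_proj ρ zB (fun e => ht' (hχ e).symm), LinearMap.zero_apply, smul_zero]
  exact hli.fintype_card_le_finrank

end Weights

open Cfsg.Lie CfsgLib.Chevalley CfsgLib.Ree
open scoped Matrix

variable {K : Type*} [Field K] [CharP K 3] {m : ℕ}

theorem eA_mul_eB_exact (t u : K) : eA K m t * eB K m u =
    eB K m u * eA K m t * eC K m (t * u) := by
  have h78 : ∀ T U : K, sysG2.xG K 7 T * sysG2.xG K 8 U =
      sysG2.xG K 8 U * sysG2.xG K 7 T * sysG2.xG K 9 (T * U) := fun T U => by
    have := eq3_sound eAB_B T U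
    simpa [ew_cons, ew_nil, pev, mul_assoc] using this
  have h610 : ∀ T U : K, sysG2.xG K 6 T * sysG2.xG K 10 U =
      sysG2.xG K 10 U * sysG2.xG K 6 T * sysG2.xG K 11 (T * U) := fun T U => by
    have := eq3_sound eAB_B' T U
    simpa [ew_cons, ew_nil, pev, mul_assoc] using this
  rw [eC_val, map_mul]
  rw [eA_val, eB_val]
  set T := th K m t
  set U := th K m u
  set z9 := sysG2.xG K 9 (T * U) with hz9
  set z11 := sysG2.xG K 11 (t * u) with hz11
  set x7 := sysG2.xG K 7 T with hx7
  set x6 := sysG2.xG K 6 t with hx6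
  set x8 := sysG2.xG K 8 (T * t) with hx8
  set x9 := sysG2.xG K 9 (T ^ 2 * t) with hx9
  set y8 := sysG2.xG K 8 U with hy8
  set y10 := sysG2.xG K 10 u with hy10
  have cz : ∀ a b g, g ∈ chevG2.posUnipotent K →
      sysG2.xG K 9 a * sysG2.xG K 11 b * g = g * (sysG2.xG K 9 a * sysG2.xG K 11 b) :=
    fun a b g hg => commute_x9x11 a b hg
  have c9 : ∀ g ∈ chevG2.posUnipotent K, z9 * g = g * z9 := fun g hg => by
    simpa [sysG2.xG_zero] using cz (T * U) 0 g hg
  have c11 : ∀ g ∈ chevG2.posUnipotent K, z11 * g = g * z11 := fun g hg => by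
    simpa [sysG2.xG_zero] using cz 0 (t * u) g hg
  have a1 : x9 * (y8 * y10) = y8 * (y10 * x9) := by
    rw [← mul_assoc, ← commB_sound commB_8_9, mul_assoc, commB_sound commB_9_10]
  have a2 : x8 * y8 = y8 * x8 := by rw [sysG2.xG_add, sysG2.xG_add, add_comm]
  have a3 : x8 * y10 = y10 * x8 := commB_sound commB_8_10 _ _
  have a4 : x6 * y8 = y8 * x6 := commB_sound commB_rest.1 _ _
  have a5 : x6 * y10 = y10 * x6 * z11 := h610 t u
  have a6 : x7 * y8 = y8 * x7 * z9 := h78 T U
  have a7 : x7 * y10 = y10 * x7 := commB_sound commB_rest.2 _ _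
  calc x7 * x6 * x8 * x9 * (y8 * y10)
      = x7 * x6 * x8 * y8 * y10 * x9 := by simp only [mul_assoc, a1]
    _ = x7 * x6 * y8 * y10 * x8 * x9 := by
        simp only [mul_assoc]
        rw [← mul_assoc x8, a2, mul_assoc, ← mul_assoc x8, a3, mul_assoc]
    _ = x7 * y8 * y10 * x6 * z11 * x8 * x9 := by
        simp only [mul_assoc]
        rw [← mul_assoc x6, a4, mul_assoc, ← mul_assoc x6, a5]
        simp only [mul_assoc]
    _ = y8 * y10 * x7 * x6 * x8 * x9 * (z9 * z11) := by
        have p6 : ∀ r t, 6 ≤ r → r < 12 → sysG2.xG K r t ∈ chevG2.posUnipotent K :=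
          fun r t h1 h2 => xG_mem_pos h1 h2 t
        have e1 : z11 * (x8 * x9) = x8 * x9 * z11 :=
          c11 _ (mul_mem (p6 8 _ (by norm_num) (by norm_num)) (p6 9 _ (by norm_num) (by norm_num)))
        have e2 : z9 * (y10 * x6 * x8 * x9) = y10 * x6 * x8 * x9 * z9 :=
          c9 _ (mul_mem (mul_mem (mul_mem (p6 10 _ (by norm_num) (by norm_num))
            (p6 6 _ (by norm_num) (by norm_num))) (p6 8 _ (by norm_num) (by norm_num)))
            (p6 9 _ (by norm_num) (by norm_num)))
        simp only [mul_assoc] at e1 e2 ⊢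
        rw [e1, ← mul_assoc x7, a6]
        simp only [mul_assoc]
        rw [← mul_assoc z9, show z9 * y10 = y10 * z9 from c9 _ (p6 10 _ (by norm_num) (by norm_num))]
        simp only [mul_assoc]
        rw [← mul_assoc x7, a7]
        simp only [mul_assoc]
        rw [← mul_assoc z9, c9 _ (p6 6 _ (by norm_num) (by norm_num)), mul_assoc,
          ← mul_assoc z9 x8, c9 _ (p6 8 _ (by norm_num) (by norm_num)), mul_assoc,
          ← mul_assoc z9 x9, c9 _ (p6 9 _ (by norm_num) (by norm_num)), mul_assoc]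
    _ = _ := by simp only [mul_assoc]

variable [Fintype K] (hm : 1 ≤ m) (hK : Fintype.card K = 3 ^ (2 * m + 1))

local notation "G¹" => twistedG2 K (3 ^ m)

/-- The long root elements. -/
noncomputable def zC : Multiplicative K →* ↥(twistedG2 K (3 ^ m)) :=
  MonoidHom.mk' (fun a => ⟨eC K m a.toAdd, eC_twisted _⟩) fun a b =>
    Subtype.ext (eC_add _ _).symm

omit [Fintype K] in
theorem central (c : K) {g : GL chevG2.Idx K} (hg : g ∈ chevG2.posUnipotent K) :
    eC K m c * g = g * eC K m c := by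
  rw [eC_val]
  exact commute_x9x11 _ _ hg

include hm hK in
theorem min_degree {V : Type*} [AddCommGroup V] [Module ℂ V] [FiniteDimensional ℂ V]
    (ρ : Representation ℂ ↥G¹ V) (hirr : ρ.IsIrreducible) (hk : 2 ≤ Module.finrank ℂ V) :
    Fintype.card K ^ 2 - Fintype.card K + 1 ≤ Module.finrank ℂ V := by
  classical
  have hq : Q K m := Q_of_card hK
  have := (twisted_simple hm hK).1
  -- the representation is faithful
  have hfaith : ∀ g, ρ g = 1 → g = 1 := by
    intro g hg
    by_contra hne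
    have hker : ρ.ker = ⊤ := (MonoidHom.normal_ker ρ).eq_bot_or_eq_top.resolve_left fun h => by
      have : g ∈ ρ.ker := hg
      rw [h] at this
      exact hne (Subgroup.mem_bot.1 this)
    have hall : ∀ h, ρ h = 1 := fun h => MonoidHom.mem_ker.1 (hker ▸ Subgroup.mem_top h)
    have : Nontrivial V := Module.nontrivial_of_finrank_pos (R := ℂ) (by omega)
    obtain ⟨v, hv⟩ := exists_ne (0 : V)
    let σ : Subrepresentation ρ := ⟨Submodule.span ℂ {v}, fun h w hw => by rw [hall h]; exact hw⟩
    rcases hirr.eq_bot_or_eq_top σ with h | h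
    · have h' := congrArg Subrepresentation.toSubmodule h
      exact hv (Submodule.span_singleton_eq_bot.1 h')
    · have h' : Submodule.span ℂ {v} = (⊤ : Submodule ℂ V) := congrArg Subrepresentation.toSubmodule h
      have h1 : Module.finrank ℂ (Submodule.span ℂ ({v} : Set V)) = 1 := finrank_span_singleton hv
      rw [h', finrank_top] at h1
      omega
  -- a non-trivial weight
  obtain ⟨ψ, hψ, hW⟩ := exists_wt ρ (zC (K := K) (m := m)) (c := 1) fun h => by
    have h2 := congrArg Subtype.val (hfaith _ h)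
    have h3 : eU K m (0 : K) 0 1 = eU K m 0 0 0 := by
      rw [eU_zero, eU, show eA K m (0 : K) = 1 by simp [eA_val, sysG2.xG_zero],
        show eB K m (0 : K) = 1 by simp [eB_val, sysG2.xG_zero], one_mul, one_mul]
      exact h2
    exact one_ne_zero (eU_inj h3).2.2
  -- the torus
  have htor : ∀ (w : Kˣ) (b : K), (⟨hT K m w, hT_mem_twisted hK w⟩ : ↥G¹) *
      zC (Multiplicative.ofAdd b) = zC (Multiplicative.ofAdd (fr K m w * b)) *
        ⟨hT K m w, hT_mem_twisted hK w⟩ := fun w b => Subtype.ext (by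
    show hT K m w * eC K m b = eC K m (fr K m w * b) * hT K m w
    rw [← hT_conj_eC hq, inv_mul_cancel_right])
  have hall : ∀ φ : AddChar K ℂ, φ ≠ 1 → wt ρ (zC (K := K) (m := m)) φ ≠ ⊥ := by
    intro φ hφ hbot
    have hsur : Function.Surjective fun r : K => AddChar.mulShift ψ r :=
      ((Fintype.bijective_iff_injective_and_card _).2
        ⟨AddChar.to_mulShift_inj_of_isPrimitive (AddChar.IsPrimitive.of_ne_one hψ),
          (AddChar.card_eq).symm⟩).2
    obtain ⟨r, hr⟩ := hsur φ
    have hr0 : r ≠ 0 := by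
      rintro rfl
      exact hφ (hr.symm.trans (AddChar.mulShift_zero ψ))
    set w : Kˣ := Units.mk0 (th K m r⁻¹) ((map_ne_zero _).2 (inv_ne_zero hr0))
    have hfw : fr K m (w : K) = r⁻¹ := by rw [Units.val_mk0, fr_th hq]
    obtain ⟨v, hv, hv0⟩ := Submodule.exists_mem_ne_zero_of_ne_bot hW
    set T : ↥G¹ := ⟨hT K m w, hT_mem_twisted hK w⟩
    have hmem : ρ T v ∈ wt ρ (zC (K := K) (m := m)) φ := by
      intro b
      have h := htor w (r * b)
      rw [hfw, inv_mul_cancel_left₀ hr0] at h
      show ρ (zC (Multiplicative.ofAdd b)) (ρ T v) = _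
      rw [← Module.End.mul_apply, ← map_mul, ← h, map_mul, Module.End.mul_apply]
      show ρ T (act ρ zC (r * b) v) = _
      rw [hv, map_smul, ← hr]
      rfl
    rw [hbot, Submodule.mem_bot] at hmem
    refine hv0 ?_
    have := congrArg (ρ T⁻¹) hmem
    rwa [Representation.inv_self_apply, map_zero] at this
  have hbig : ∀ φ : AddChar K ℂ, φ ≠ 1 →
      Fintype.card K ≤ Module.finrank ℂ (wt ρ (zC (K := K) (m := m)) φ) := fun φ hφ =>
    card_le_finrank_wt ρ _ (fun t => ⟨eA K m t, eA_twisted t⟩) (fun u => ⟨eB K m u, eB_twisted u⟩)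
      hφ (fun a b => Subtype.ext (eB_add a b))
      (fun t c => Subtype.ext (central c (eA_pos t))) (fun u c => Subtype.ext (central c (eB_pos u)))
      (fun t u => Subtype.ext (eA_mul_eB_exact t u)) (hall φ hφ)
  have hsum := sum_finrank ρ (zC (K := K) (m := m))
  rw [← Finset.add_sum_erase _ _ (Finset.mem_univ (1 : AddChar K ℂ))] at hsum
  have hge := Finset.card_nsmul_le_sum (Finset.univ.erase (1 : AddChar K ℂ))
    (fun φ => Module.finrank ℂ (wt ρ (zC (K := K) (m := m)) φ)) (Fintype.card K)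
    fun φ hφ => hbig φ (Finset.ne_of_mem_erase hφ)
  rw [Finset.card_erase_of_mem (Finset.mem_univ _), Finset.card_univ, AddChar.card_eq,
    smul_eq_mul, Nat.sub_one_mul, ← sq] at hge
  by_contra hlt
  have hdim : Module.finrank ℂ V = Fintype.card K ^ 2 - Fintype.card K := by omega
  have h1 : wt ρ (zC (K := K) (m := m)) 1 = ⊥ := Submodule.finrank_eq_zero.1 (by omega)
  have htr : ρ.character invE = 0 := by
    refine trace_eq_zero ρ (zC (K := K) (m := m)) ?_ ?_ h1
    · intro b
      have h := htor (-1) b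
      rw [Units.val_neg, Units.val_one, map_neg, map_one, neg_one_mul] at h
      rw [act, act, ← map_mul, ← map_mul]
      exact congrArg ρ h
    · intro φ hφ
      refine DFunLike.ext _ _ fun b => ?_
      have h2 : φ b * φ b = 1 := by
        have := DFunLike.congr_fun hφ b
        rw [AddChar.inv_apply'] at this
        nth_rw 1 [← this]
        rw [inv_mul_cancel₀]
        intro h0
        have := AddChar.map_add_eq_mul φ b (-b)
        rw [add_neg_cancel, AddChar.map_zero_eq_one, h0, zero_mul] at this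
        exact one_ne_zero this
      have h3 : φ b * φ b * φ b = 1 := by
        rw [← AddChar.map_add_eq_mul, ← AddChar.map_add_eq_mul,
          show b + b + b = 0 by
            have : (3 : K) = 0 := CharP.ofNat_eq_zero K 3
            linear_combination b * this, AddChar.map_zero_eq_one]
      rw [h2, one_mul] at h3
      rw [h3, AddChar.one_apply]
  -- eight divides the dimension
  obtain ⟨E, hE8, hE2⟩ := exists_eight hK
  let _ : Fintype ↥E := Fintype.ofFinite _
  let _ : Invertible (Nat.card ↥E : ℂ) :=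
    invertibleOfNonzero (by rw [hE8]; norm_num)
  let σ : Representation ℂ ↥E V := ρ.comp E.subtype
  have havg := Representation.card_inv_mul_sum_char_eq_finrank (ρ := σ)
  have hchar : ∀ x : ↥E, x ≠ 1 → σ.character x = 0 := by
    intro x hx
    obtain ⟨c, hc⟩ := involution_conj hK (g := (x : ↥G¹)) (hE2 x x.2)
      (fun h => hx (Subtype.ext h))
    show ρ.character (x : ↥G¹) = 0
    rw [← htr, ← hc, Representation.char_conj]
  rw [Fintype.sum_eq_single (1 : ↥E) hchar, Representation.char_one, hE8] at havg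
  have h8 : Module.finrank ℂ V = 8 * Module.finrank ℂ σ.invariants := by
    have : (Module.finrank ℂ V : ℂ) = 8 * (Module.finrank ℂ σ.invariants : ℂ) := by
      rw [← havg]; push_cast; ring
    exact_mod_cast this
  rw [hdim] at h8
  obtain ⟨k, hk'⟩ : ∃ k, Fintype.card K = 8 * k + 3 := by
    refine ⟨3 ^ (2 * m + 1) / 8, ?_⟩
    have : 3 ^ (2 * m + 1) % 8 = 3 := by rw [pow_succ, pow_mul, Nat.mul_mod, Nat.pow_mod]; norm_num
    rw [hK]; omega
  rw [hk'] at h8
  have e : (8 * k + 3) ^ 2 = 8 * (8 * k * k + 6 * k + 1) + 1 := by ring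
  omega

end CfsgLib.Ree.MinDeg65
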