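import Cfsg.Agent.Ree.Diagonal
import Cfsg.Agent.Ree.Structure
import Cfsg.Agent.Chevalley.Weights.G2

/-!
Elements of prime order at least five: their centralisers are abelian, of order dividing one of four
numbers, and the normaliser of the cyclic group they generate induces at most six automorphisms.
-/

set_option autoImplicit false

namespace CfsgLib.Ree

open Cfsg.Lie CfsgLib.Chevalley
open scoped Matrix

/-! ### Change of field -/

theorem map_pev {F L : Type*} [Field F] [Field L] (f : F →+* L) (t u : F) (P : List Mon) :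
    f (pev F t u P) = pev L (f t) (f u) P := by
  simp [pev, map_list_sum, List.map_map, Function.comp_def]

theorem map_ew {F L : Type*} [Field F] [Field L] (f : F →+* L) {w : List (ℕ × List Mon)}
    (hw : rangeB w = true) (t u : F) :
    Matrix.GeneralLinearGroup.map f (ew t u w) = ew (f t) (f u) w := by
  refine Units.ext (Matrix.ext fun a b => ?_)
  show f ((ew t u w : Matrix chevG2.Idx chevG2.Idx F) a b) = _
  rw [ew_apply hw, ew_apply hw, map_pev]

theorem map_mem_group {F L : Type*} [Field F] [Field L] (f : F →+* L) {g : GL chevG2.Idx F}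
    (hg : g ∈ chevG2.group F) : Matrix.GeneralLinearGroup.map f g ∈ chevG2.group L := by
  rw [sysG2.group_eq] at hg
  induction hg using Subgroup.closure_induction with
  | mem x hx =>
    obtain ⟨r, hr, t, rfl⟩ := hx
    have hB : rangeB [(r, [(1, 1, 0)])] = true := by
      simpa [rangeB] using (show r < 12 from hr)
    have e := map_ew f hB t t
    rw [ew_single, ew_single, pev_var, pev_var] at e
    rw [e]
    exact sysG2.xG_mem L hr _
  | one => rw [map_one]; exact one_mem _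
  | mul x y _ _ hx hy => rw [map_mul]; exact mul_mem hx hy
  | inv x _ hx => rw [map_inv]; exact inv_mem hx

theorem map_mem_fixSub {F L : Type*} [Field F] [CharP F 3] [Field L] [CharP L 3] (f : F →+* L)
    {m : ℕ} {g : GL chevG2.Idx F} (hg : g ∈ fixSub F m) :
    Matrix.GeneralLinearGroup.map f g ∈ fixSub L m := by
  refine ⟨map_mem_group f hg.1, Matrix.ext fun i j => ?_⟩
  have := congrFun (congrFun hg.2 i) j
  simp only [Lb, Sb, Matrix.map_apply, Matrix.submatrix_apply, fr_def] at this ⊢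
  show f _ = f _ ^ _
  rw [this, map_pow]

/-! ### Elements of prime order in a field with enough roots of unity -/

section Big

variable {L : Type*} [Field L] [Fintype L]

theorem conj_into_diag {p : ℕ} [Fact p.Prime] (h5 : 5 ≤ p) (hpL : p ∣ Fintype.card L - 1)
    {h : GL chevG2.Idx L} (hh : h ∈ chevG2.group L) (ho : orderOf h = p) :
    ∃ γ ∈ chevG2.group L, γ * h * γ⁻¹ ∈ chevG2.diagonalSubgroup L := by
  have hp : p.Prime := Fact.out
  set G := chevG2.group L
  set H := (chevG2.diagonalSubgroup L).subgroupOf G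
  have hle : ∀ k : ℕ, 1 ≤ Fintype.card L ^ k := fun k => Nat.one_le_pow _ _ Fintype.card_pos
  have hG : Nat.card ↥G = Fintype.card L ^ 6 *
      ((Fintype.card L ^ 2 - 1) * (Fintype.card L ^ 6 - 1)) := by
    have key := sysG2.natCard_group_eq L (l := 2) (N := 6) (d := 1)
      (R := (Fintype.card L ^ 2 - 1) * (Fintype.card L ^ 6 - 1)) rfl rfl (natCardDiagonalG2 L) (by
        rw [lenSumG2 L]
        push_cast [Nat.cast_sub (hle _)]
        simp only [levG20, levG21, List.map_cons, List.map_nil, List.sum_cons, List.sum_nil]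
        ring)
    rwa [one_mul] at key
  have hH : Nat.card ↥H = (Fintype.card L - 1) ^ 2 := by
    rw [Nat.card_congr (Subgroup.subgroupOfEquivOfLe (sysG2.diagonal_le_group L)).toEquiv]
    simpa using natCardDiagonalG2 L
  have hidx : ¬ p ∣ H.index := by
    intro hd
    have hmul := H.card_mul_index
    rw [hH, hG] at hmul
    set Q := Fintype.card L
    obtain ⟨D, hD⟩ : ∃ D, Q = D + 1 := ⟨Q - 1, by have := Fintype.one_lt_card (α := L); omega⟩
    have hD0 : D ≠ 0 := by have := Fintype.one_lt_card (α := L); omega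
    have hDp : p ∣ D := by simpa [hD] using hpL
    have e2 : Q ^ 2 - 1 = D * (D + 2) := by
      rw [hD, show (D + 1) ^ 2 = D * (D + 2) + 1 by ring]; omega
    have e6 : Q ^ 6 - 1 = D * (6 + D * (15 + 20 * D + 15 * D ^ 2 + 6 * D ^ 3 + D ^ 4)) := by
      rw [hD, show (D + 1) ^ 6 =
        D * (6 + D * (15 + 20 * D + 15 * D ^ 2 + 6 * D ^ 3 + D ^ 4)) + 1 by ring]
      omega
    rw [e2, e6, hD, Nat.add_sub_cancel] at hmul
    have hidx' : H.index = (D + 1) ^ 6 * ((D + 2) *
        (6 + D * (15 + 20 * D + 15 * D ^ 2 + 6 * D ^ 3 + D ^ 4))) :=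
      Nat.eq_of_mul_eq_mul_left (show 0 < D ^ 2 by positivity) (by rw [hmul]; ring)
    rw [hidx'] at hd
    have small : ∀ k, p ∣ k → k ≤ 4 → k = 0 := fun k hk hk4 =>
      Nat.eq_zero_of_dvd_of_lt hk (by omega)
    rcases hp.dvd_mul.mp hd with hd | hd
    · have h1 := hp.dvd_of_dvd_pow hd
      have := small 1 ((Nat.dvd_add_right hDp).mp h1) (by norm_num)
      omega
    rcases hp.dvd_mul.mp hd with hd | hd
    · have := small 2 ((Nat.dvd_add_right hDp).mp hd) (by norm_num)
      omega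
    · have h6 : p ∣ 2 * 3 := (Nat.dvd_add_left (dvd_mul_of_dvd_left hDp _)).mp hd
      rcases hp.dvd_mul.mp h6 with h' | h'
      · have := small 2 h' (by norm_num); omega
      · have := small 3 h' (by norm_num); omega
  obtain ⟨P₀⟩ := (inferInstance : Nonempty (Sylow p ↥H))
  have hcard : Nat.card ↥((P₀ : Subgroup ↥H).map H.subtype) =
      p ^ (Nat.card ↥G).factorization p := by
    rw [Subgroup.card_map_of_injective H.subtype_injective, P₀.card_eq_multiplicity]
    congr 1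
    rw [← H.card_mul_index, Nat.factorization_mul Nat.card_pos.ne' Subgroup.index_ne_zero_of_finite,
      Finsupp.add_apply, Nat.factorization_eq_zero_of_not_dvd hidx, add_zero]
  set P : Sylow p ↥G := Sylow.ofCard _ hcard
  let x : ↥G := ⟨h, hh⟩
  have hx : IsPGroup p ↥(Subgroup.zpowers x) := by
    refine IsPGroup.of_card (n := 1) ?_
    rw [Nat.card_zpowers, pow_one, ← ho, Subgroup.orderOf_coe x]
  obtain ⟨P₁, hP₁⟩ := hx.exists_le_sylow
  obtain ⟨g, hg⟩ := MulAction.exists_smul_eq ↥G P₁ P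
  refine ⟨g, g.2, ?_⟩
  have hmem : g * x * g⁻¹ ∈ (P : Subgroup ↥G) := by
    rw [← hg]
    exact ⟨x, hP₁ (Subgroup.mem_zpowers x), rfl⟩
  have hPH : (P : Subgroup ↥G) ≤ H := Subgroup.map_subtype_le _
  exact hPH hmem

variable [CharP L 3]

theorem torYZ_injective : Function.Injective (torYZ (L := L)) := by
  rw [injective_iff_map_eq_one]
  rintro ⟨y, z⟩ h
  let c : ℕ → Lˣ := fun j => if j = 0 then y else y * z
  have hc : cy c = y ∧ cz c = z := by simp [cy, cz, c, mul_comm y z]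
  have e : tor chevG2 L c = tor chevG2 L 1 := by
    rw [← torYZ_cyz, hc.1, hc.2, h, map_one]
  obtain ⟨h1, h2⟩ := tor_coord_inj e
  rw [hc.1] at h1
  rw [hc.2] at h2
  exact Prod.ext (h1.trans (by simp [cy])) (h2.trans (by simp [cz]))

/-- The coordinates on a group of diagonal elements. -/
theorem exists_coords {A : Type*} [Group A] (Φ : A →* GL chevG2.Idx L)
    (hΦ : ∀ g, Φ g ∈ chevG2.diagonalSubgroup L) :
    ∃ Y Z : A →* Lˣ, ∀ g, ∃ c, cy c = Y g ∧ cz c = Z g ∧ Φ g = tor chevG2 L c := by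
  have hmem : ∀ g, Φ g ∈ (torYZ (L := L)).range := fun g => by
    obtain ⟨w, hw⟩ := exists_yz (hΦ g)
    exact ⟨w, hw.symm⟩
  let W : A →* Lˣ × Lˣ :=
    (MonoidHom.ofInjective torYZ_injective).symm.toMonoidHom.comp (Φ.codRestrict _ hmem)
  have hW : ∀ g, torYZ (W g) = Φ g := fun g =>
    MonoidHom.apply_ofInjective_symm torYZ_injective _
  refine ⟨(MonoidHom.fst _ _).comp W, (MonoidHom.snd _ _).comp W, fun g =>
    ⟨fun j => if j = 0 then (W g).1 else (W g).1 * (W g).2, ?_, ?_, ?_⟩⟩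
  · simp [cy]
  · simp [cz, mul_comm (W g).1]
  · rw [← hW g]
    rfl

theorem cube_eq_one {u : Lˣ} (h : u ^ 3 = 1) : u = 1 := by
  refine Units.ext (sub_eq_zero.mp (eq_zero_of_pow_eq_zero (n := 3) ?_))
  rw [sub_pow_char, ← Units.val_pow_eq_pow_val, h, Units.val_one, one_pow, sub_self]

end Big

/-! ### The twisted group -/

theorem exists_big_field (K : Type*) [Field K] [Fintype K] [CharP K 3] {p : ℕ} (hp : p.Prime)
    (hpK : ¬ p ∣ Fintype.card K) :
    ∃ (L : Type) (_ : Field L) (_ : Fintype L) (_ : CharP L 3) (_ : K →+* L),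
      p ∣ Fintype.card L - 1 := by
  haveI : Fact (Nat.Prime 3) := ⟨Nat.prime_three⟩
  haveI : NeZero (p - 1) := ⟨by have := hp.two_le; omega⟩
  letI : Fintype (FiniteField.Extension K 3 (p - 1)) := Fintype.ofFinite _
  refine ⟨FiniteField.Extension K 3 (p - 1), inferInstance, inferInstance, ?_,
    algebraMap K _, ?_⟩
  · exact charP_of_injective_ringHom (algebraMap K _).injective 3
  · rw [← Nat.card_eq_fintype_card, FiniteField.natCard_extension, Nat.card_eq_fintype_card]
    haveI := Fact.mk hp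
    have h0 : (Fintype.card K : ZMod p) ≠ 0 := by rwa [Ne, ZMod.natCast_eq_zero_iff]
    rw [← ZMod.natCast_eq_zero_iff, Nat.cast_sub (Nat.one_le_pow _ _ Fintype.card_pos),
      Nat.cast_pow, ZMod.pow_card_sub_one_eq_one h0, Nat.cast_one, sub_self]

variable {K : Type*} [Field K] [CharP K 3] {m : ℕ} [Fintype K]

/-- The group. -/
local notation "G¹" => twistedG2 K (3 ^ m)

/-- The facts about a centraliser of an element of prime order at least five. -/
structure Toral (x : ↥G¹) : Prop where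
  comm : ∀ a ∈ Subgroup.centralizer {x}, ∀ b ∈ Subgroup.centralizer {x}, a * b = b * a
  shape : (IsCyclic ↥(Subgroup.centralizer {x}) ∧
      (Nat.card ↥(Subgroup.centralizer {x}) ∣ 3 ^ (2 * m + 1) - 1 ∨
        Nat.card ↥(Subgroup.centralizer {x}) ∣ 3 ^ (2 * m + 1) + 1 ∨
        Nat.card ↥(Subgroup.centralizer {x}) ∣ 3 ^ (2 * m + 1) + 3 ^ (m + 1) + 1 ∨
        Nat.card ↥(Subgroup.centralizer {x}) ∣ 3 ^ (2 * m + 1) + 1 - 3 ^ (m + 1))) ∨
    (Nat.card ↥(Subgroup.centralizer {x}) ∣ 3 ^ (2 * m + 1) + 1 ∧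
      ∀ B : Subgroup ↥(Subgroup.centralizer {x}), Odd (Nat.card B) → IsCyclic B)
  index_dvd : (Subgroup.centralizer {x}).relIndex
      (Subgroup.normalizer (Subgroup.zpowers x : Set ↥G¹)) ∣ 6

variable (hK : Fintype.card K = 3 ^ (2 * m + 1))
include hK

theorem toral_of_prime {x : ↥G¹} {p : ℕ} (hp : p.Prime) (h5 : 5 ≤ p) (ho : orderOf x = p) :
    Toral x := by
  haveI := Fact.mk hp
  have hp3 : ¬ p ∣ 3 := fun h => by have := Nat.le_of_dvd (by norm_num) h; omega
  have hpK : ¬ p ∣ Fintype.card K := by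
    rw [hK]; exact fun h => hp3 (hp.dvd_of_dvd_pow h)
  obtain ⟨L, iF, iT, iC, f, hpL⟩ := exists_big_field K hp hpK
  let ι : ↥G¹ →* GL chevG2.Idx L := (Matrix.GeneralLinearGroup.map f).comp G¹.subtype
  have hι : Function.Injective ι := by
    intro a b e
    refine Subtype.ext (Units.ext (Matrix.ext fun i j => f.injective ?_))
    exact congrArg (fun g : GL chevG2.Idx L => (g : Matrix chevG2.Idx chevG2.Idx L) i j) e
  have hfix : ∀ g, ι g ∈ fixSub L m := fun g =>
    map_mem_fixSub f (twistedG2_le_fixSub (Q_of_card hK) g.2)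
  obtain ⟨γ, hγ, hdiag⟩ := conj_into_diag h5 hpL (hfix x).1 (by rw [orderOf_injective ι hι, ho])
  let Φ : ↥G¹ →* GL chevG2.Idx L := (MulAut.conj γ).toMonoidHom.comp ι
  have hΦval : ∀ g, Φ g = γ * ι g * γ⁻¹ := fun g => rfl
  have hΦ : Function.Injective Φ := (MulAut.conj γ).injective.comp hι
  obtain ⟨M, hrow, hcol, hlab⟩ := exists_labels hγ m
  -- the element itself
  have hdx : Φ x ∈ chevG2.diagonalSubgroup L := hdiag
  rw [sysG2.diagonal_eq] at hdx
  obtain ⟨c, hc⟩ := hdx
  have hpR : ¬ p ∣ 3 ^ (m + 1) := fun h => hp3 (hp.dvd_of_dvd_pow h)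
  have hrel : Rel (3 ^ (m + 1)) (cy c) (cz c) := by
    refine ⟨fun i => ?_, fun j => ?_⟩
    · obtain ⟨j, hj⟩ := hrow i
      exact ⟨j, hlab _ (hfix x) c hc.symm i j hj⟩
    · obtain ⟨i, hi⟩ := hcol j
      exact ⟨i, hlab _ (hfix x) c hc.symm i j hi⟩
  have hpow : cy c ^ p = 1 ∧ cz c ^ p = 1 := by
    have e : tor chevG2 L (c ^ p) = tor chevG2 L 1 := by
      rw [map_pow, hc, ← map_pow, ← ho, pow_orderOf_eq_one, map_one, map_one]
    obtain ⟨h1, h2⟩ := tor_coord_inj e
    refine ⟨h1.trans (by simp [cy]), ?_⟩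
    rw [show cz (1 : ℕ → Lˣ) = 1 by simp [cz]] at h2
    rw [← h2]
    simp [cz, Pi.pow_apply, mul_pow, inv_pow]
  have hne : ¬(cy c = 1 ∧ cz c = 1) := fun ⟨h1, h2⟩ => by
    rw [tor_eq_one_of_cyz h1 h2, eq_comm, map_eq_one_iff Φ hΦ] at hc
    rw [hc, orderOf_one] at ho
    omega
  have hreg := reg_of_rel hp h5 hpR hpow.1 hpow.2 hne hrel
  have hsinj : ∀ j k : Fin 7, ev (cy c) (cz c) (sE j) = ev (cy c) (cz c) (sE k) → j = k :=
    fun j k => sE_inj hp h5 hpow.1 hpow.2 hreg
  -- the centraliser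
  set C := Subgroup.centralizer {x}
  have hxC : x ∈ C := Subgroup.mem_centralizer_singleton_iff.mpr rfl
  have hCd : ∀ g : ↥C, Φ g ∈ chevG2.diagonalSubgroup L := fun g => by
    refine centralizer_regular hreg hsinj ?_ ?_
    · exact mul_mem (mul_mem hγ (hfix _).1) (inv_mem hγ)
    · rw [hc, ← map_mul, ← map_mul, Subgroup.mem_centralizer_singleton_iff.mp g.2]
  obtain ⟨Y, Z, hYZ⟩ := exists_coords (Φ.comp C.subtype) hCd
  have hcoord : ∀ (g : ↥C) (d : ℕ → Lˣ), Φ g = tor chevG2 L d → cy d = Y g ∧ cz d = Z g := by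
    intro g d hd
    obtain ⟨d', h1, h2, h3⟩ := hYZ g
    obtain ⟨e1, e2⟩ := tor_coord_inj (hd.symm.trans h3)
    exact ⟨e1.trans h1, e2.trans h2⟩
  have hinjYZ : ∀ g : ↥C, Y g = 1 → Z g = 1 → g = 1 := by
    intro g h1 h2
    obtain ⟨d, e1, e2, e3⟩ := hYZ g
    rw [tor_eq_one_of_cyz (e1.trans h1) (e2.trans h2)] at e3
    exact Subtype.ext (hΦ (e3.trans (map_one Φ).symm))
  have hYx : Y ⟨x, hxC⟩ = cy c ∧ Z ⟨x, hxC⟩ = cz c := by
    obtain ⟨h1, h2⟩ := hcoord ⟨x, hxC⟩ c hc.symm
    exact ⟨h1.symm, h2.symm⟩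
  have hlab' : ∀ i j, M i j ≠ 0 → ∀ g : ↥C,
      ev (Y g) (Z g) (sE j) ^ 3 ^ (m + 1) = ev (Y g) (Z g) (lE i) := by
    intro i j hij g
    obtain ⟨d, e1, e2, e3⟩ := hYZ g
    rw [← e1, ← e2]
    exact hlab _ (hfix g) d e3 i j hij
  refine ⟨fun a ha b hb => hΦ ?_, ?_, ?_⟩
  · rw [map_mul, map_mul]
    exact sysG2.diagonal_comm L (hCd ⟨a, ha⟩) (hCd ⟨b, hb⟩)
  · obtain ⟨i, hi⟩ := hcol 6
    obtain ⟨k, hk⟩ := hcol 5
    obtain ⟨r, hr⟩ := hcol 4
    have at_x : ∀ {i j}, M i j ≠ 0 →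
        ev (cy c) (cz c) (sE j) ^ 3 ^ (m + 1) = ev (cy c) (cz c) (lE i) := by
      intro i j hij
      have := hlab' i j hij ⟨x, hxC⟩
      rwa [hYx.1, hYx.2] at this
    obtain ⟨hi0, hk0, hr0, hv⟩ :=
      linear_of_reg hp h5 hpR hpow.1 hpow.2 hreg (at_x hi) (at_x hk) (at_x hr)
    refine hexagon_structure (R := 3 ^ (m + 1)) (Q := 3 ^ (2 * m + 1)) ?_ ?_ ?_ ?_
      (fun u => cube_eq_one) Y Z hinjYZ hi0 hk0 hr0 hv (fun g => ?_) (fun g => ?_)
    · rw [← pow_add, ← pow_succ']; congr 1; omega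
    · exact Odd.pow (by decide)
    · exact Nat.le_self_pow (by omega) 3
    · exact Nat.pow_le_pow_right (by norm_num) (by omega)
    · simpa [ev, sE] using hlab' i 6 hi g
    · simpa [ev, sE] using hlab' k 5 hk g
  · -- the automorphisms induced on the cyclic group
    set P := Subgroup.zpowers x
    set N := Subgroup.normalizer (P : Set ↥G¹)
    let ψ : ↥N →* MulAut ↥P := P.normalizerMonoidHom
    have hker : ψ.ker = C.subgroupOf N := by
      rw [Subgroup.normalizerMonoidHom_ker]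
      congr 1
      rw [show P = Subgroup.closure {x} from Subgroup.zpowers_eq_closure x, Subgroup.centralizer_closure]
    have hPC : P ≤ C := Subgroup.zpowers_le.mpr hxC
    let χ : Fin 7 → (↥P →* Lˣ) := fun j =>
      { toFun := fun y => ev (Y (Subgroup.inclusion hPC y)) (Z (Subgroup.inclusion hPC y)) (sE j)
        map_one' := by simp [ev]
        map_mul' := fun a b => by
          simp only [map_mul, ev, mul_zpow]
          exact mul_mul_mul_comm _ _ _ _ }
    let x₀ : ↥P := ⟨x, Subgroup.mem_zpowers x⟩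
    have hχx : ∀ j, χ j x₀ = ev (cy c) (cz c) (sE j) := fun j => by
      show ev (Y ⟨x, hxC⟩) (Z ⟨x, hxC⟩) (sE j) = _
      rw [hYx.1, hYx.2]
    have hext : ∀ {a b : ↥P →* Lˣ}, a x₀ = b x₀ → a = b := by
      intro a b e
      refine MonoidHom.ext fun y => ?_
      obtain ⟨n, hn⟩ := Subgroup.mem_zpowers_iff.mp y.2
      obtain rfl : y = x₀ ^ n := Subtype.ext (by simpa using hn.symm)
      rw [map_zpow, map_zpow, e]
    have hχinj : ∀ j, j ≠ 0 → Function.Injective (χ j) := by
      intro j hj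
      refine (MonoidHom.ker_eq_bot_iff _).mp ?_
      haveI : Fact (Nat.card ↥P).Prime := ⟨by rw [Nat.card_zpowers, ho]; exact hp⟩
      rcases (χ j).ker.eq_bot_or_eq_top_of_prime_card with h | h
      · exact h
      · have : χ j x₀ = 1 := MonoidHom.mem_ker.mp (h ▸ Subgroup.mem_top x₀)
        rw [hχx] at this
        exact absurd this (hreg j hj).1
    let X := {a : ↥P →* Lˣ // ∃ j, j ≠ 0 ∧ a = χ j}
    have hX : Nat.card X = 6 := by
      have e : {j : Fin 7 // j ≠ 0} ≃ X := Equiv.ofBijective (fun j => ⟨χ j, j, j.2, rfl⟩)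
        ⟨fun a b h => Subtype.ext (hsinj _ _ (by
          rw [← hχx, ← hχx]
          exact DFunLike.congr_fun (Subtype.ext_iff.mp h : χ a.1 = χ b.1) x₀)),
        fun ⟨a, j, hj, e⟩ => ⟨⟨j, hj⟩, Subtype.ext e.symm⟩⟩
      rw [← Nat.card_congr e, Nat.card_eq_fintype_card]
      rfl
    have hmove : ∀ (n : ↥N) (j : Fin 7), j ≠ 0 →
        ∃ k, k ≠ 0 ∧ (χ j).comp (ψ n).toMonoidHom = χ k := by
      intro n j hj
      obtain ⟨d, e1, e2, e3⟩ := hYZ (Subgroup.inclusion hPC (ψ n x₀))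
      have hgr : Φ (n : ↥G¹) * tor chevG2 L c * (Φ (n : ↥G¹))⁻¹ = tor chevG2 L d := by
        rw [← e3, hc, ← map_inv, ← map_mul, ← map_mul]
        rfl
      obtain ⟨k, hk⟩ := exists_sLabels (mul_mem (mul_mem hγ (hfix _).1) (inv_mem hγ)) hgr j
      have e : ((χ j).comp (ψ n).toMonoidHom) x₀ = χ k x₀ := by
        rw [hχx, ← hk, e1, e2]
        rfl
      refine ⟨k, fun hk0 => ?_, hext e⟩
      have h1 : χ j (ψ n x₀) = 1 := by
        rw [show χ j (ψ n x₀) = χ k x₀ from e, hχx, hk0]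
        simp [ev, sE]
      have := hχinj j hj (h1.trans (map_one (χ j)).symm)
      rw [MulEquiv.map_eq_one_iff] at this
      have : x = 1 := congrArg Subtype.val this
      rw [this, orderOf_one] at ho
      omega
    letI : MulAction ↥ψ.range X :=
      { smul := fun α a => ⟨a.1.comp ((α : MulAut ↥P)⁻¹).toMonoidHom, by
          obtain ⟨_, n, rfl⟩ := α
          obtain ⟨_, j, hj, rfl⟩ := a
          obtain ⟨k, hk, e⟩ := hmove n⁻¹ j hj
          exact ⟨k, hk, by rw [← e, map_inv]⟩⟩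
        one_smul := fun a => Subtype.ext (MonoidHom.ext fun y => by
          show a.1 ((((1 : ↥ψ.range) : MulAut ↥P))⁻¹ y) = a.1 y
          simp)
        mul_smul := fun α β a => Subtype.ext (MonoidHom.ext fun y => by
          show a.1 ((((α * β : ↥ψ.range) : MulAut ↥P))⁻¹ y) =
            a.1 ((β : MulAut ↥P)⁻¹ ((α : MulAut ↥P)⁻¹ y))
          simp) }
    have hfree : ∀ a : X, MulAction.stabilizer ↥ψ.range a = ⊥ := by
      intro a
      refine (Subgroup.eq_bot_iff_forall _).mpr fun α hα => ?_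
      obtain ⟨_, j, hj, rfl⟩ := a
      have hα' : ∀ y, χ j ((α : MulAut ↥P)⁻¹ y) = χ j y := fun y =>
        DFunLike.congr_fun (congrArg Subtype.val (MulAction.mem_stabilizer_iff.mp hα)) y
      refine Subtype.ext (inv_eq_one.mp (MulEquiv.ext fun y => ?_))
      exact hχinj j hj (hα' y)
    rw [Subgroup.relIndex, ← hker, Subgroup.index_ker, ← hX,
      Nat.card_congr (MulAction.selfEquivOrbitsQuotientProd hfree), Nat.card_prod]
    exact dvd_mul_left _ _

end CfsgLib.Ree
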