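import Cfsg.Agent.Ree.Local

/-!
The Sylow two-subgroups: self-centralising, with normaliser of order 168.
-/

set_option autoImplicit false

open scoped MatrixGroups Pointwise

namespace CfsgLib.Ree

open Cfsg.Lie CfsgLib.Chevalley

section General

variable {G : Type*} [Group G]

/-- An involutory automorphism count: the pairs of distinct nontrivial elements bound the index. -/
theorem relIndex_le_of_eight [Finite G] (E : Subgroup G) (h8 : Nat.card ↥E = 8)
    (h2 : ∀ x ∈ E, x * x = 1) (hC : Subgroup.centralizer (E : Set G) ≤ E)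
    (hodd : Odd (E.relIndex (Subgroup.normalizer (E : Set G)))) :
    E.relIndex (Subgroup.normalizer (E : Set G)) ≤ 42 := by
  classical
  haveI := Fintype.ofFinite G
  set N := Subgroup.normalizer (E : Set G)
  set E' := E.subgroupOf N
  haveI : E'.Normal := Subgroup.normal_subgroupOf_iff_le_normalizer Subgroup.le_normalizer |>.mpr le_rfl
  haveI : Nontrivial ↥E := Finite.one_lt_card_iff_nontrivial.mp (by omega)
  obtain ⟨a, ha⟩ := exists_ne (1 : ↥E)
  obtain ⟨b, hb1, hba⟩ : ∃ b : ↥E, b ≠ 1 ∧ b ≠ a := by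
    by_contra hcon
    push Not at hcon
    have hsub : (Finset.univ : Finset ↥E) ⊆ {1, a} := fun x _ => by
      rcases eq_or_ne x 1 with h | h
      · simp [h]
      · simp [hcon x h]
    have := Finset.card_le_card hsub
    rw [Finset.card_univ, ← Nat.card_eq_fintype_card, h8] at this
    have := this.trans Finset.card_le_two
    omega
  have hmem : ∀ (n : ↥N) (x : ↥E), (n : G) * x * (n : G)⁻¹ ∈ E := fun n x =>
    (Subgroup.mem_normalizer_iff.mp n.2 x).mp x.2
  have hfix : ∀ n : ↥N, (n : G) * a * (n : G)⁻¹ = a → (n : G) * b * (n : G)⁻¹ = b → n ∈ E' := by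
    intro n hna hnb
    let V : Subgroup ↥E :=
      { carrier := {x | (n : G) * x * (n : G)⁻¹ = x}
        one_mem' := by simp
        mul_mem' := fun {x y} hx hy => by
          show (n : G) * ((x : G) * y) * (n : G)⁻¹ = (x : G) * y
          conv_rhs => rw [← hx, ← hy]
          group
        inv_mem' := fun {x} hx => by
          show (n : G) * (x : G)⁻¹ * (n : G)⁻¹ = (x : G)⁻¹
          conv_rhs => rw [← hx]
          group }
    have hV : 4 ≤ Nat.card ↥V := by
      have h3 : ({1, a, b} : Finset ↥E) ⊆ Finset.univ.filter (· ∈ V) := by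
        intro x hx
        simp only [Finset.mem_insert, Finset.mem_singleton] at hx
        rw [Finset.mem_filter]
        refine ⟨Finset.mem_univ _, ?_⟩
        rcases hx with rfl | rfl | rfl
        · exact one_mem V
        · exact hna
        · exact hnb
      have hc := Finset.card_le_card h3
      rw [← Fintype.card_subtype, ← Nat.card_eq_fintype_card,
        Finset.card_insert_of_notMem (by simp [ha.symm, hb1.symm]),
        Finset.card_pair hba.symm] at hc
      have hd := Subgroup.card_subgroup_dvd_card V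
      rw [h8] at hd
      by_contra hlt
      have h3' : Nat.card ↥V = 3 := by omega
      rw [h3'] at hd
      norm_num at hd
    -- the square of `n` centralises `E`
    have hsq : (n : G) * n ∈ E := by
      refine hC (Subgroup.mem_centralizer_iff.mpr fun c hc => ?_)
      set c' : ↥E := ⟨(n : G) * c * (n : G)⁻¹, hmem n ⟨c, hc⟩⟩
      have hfix2 : (n : G) * ((n : G) * c * (n : G)⁻¹) * (n : G)⁻¹ = c := by
        by_cases hcV : (⟨c, hc⟩ : ↥E) ∈ V
        · have h : (n : G) * c * (n : G)⁻¹ = c := hcV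
          rw [h, h]
        have hi : V.index = 2 := by
          have e := V.card_mul_index
          rw [h8] at e
          have hne : V.index ≠ 1 := fun h => hcV (Subgroup.index_eq_one.mp h ▸ Subgroup.mem_top _)
          have h0 : V.index ≠ 0 := Subgroup.index_ne_zero_of_finite
          have : V.index ≤ 2 := by nlinarith
          omega
        have hc'V : c' ∉ V := fun h => hcV (by
          have h' : (n : G) * ((n : G) * c * (n : G)⁻¹) * (n : G)⁻¹ = (n : G) * c * (n : G)⁻¹ := h
          exact mul_left_cancel (mul_right_cancel h'))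
        have he : c' * ⟨c, hc⟩ ∈ V := (Subgroup.mul_mem_iff_of_index_two hi).mpr
          ⟨fun h => absurd h hc'V, fun h => absurd h hcV⟩
        have he' : (n : G) * ((n : G) * c * (n : G)⁻¹ * c) * (n : G)⁻¹ =
            (n : G) * c * (n : G)⁻¹ * c := he
        have hcc := h2 _ (hmem n ⟨c, hc⟩)
        calc (n : G) * ((n : G) * c * (n : G)⁻¹) * (n : G)⁻¹
            = (n : G) * ((n : G) * c * (n : G)⁻¹ * c) * (n : G)⁻¹ *
                ((n : G) * c⁻¹ * (n : G)⁻¹) := by group
          _ = (n : G) * c * (n : G)⁻¹ * c * ((n : G) * c * (n : G)⁻¹) := by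
            rw [he', inv_eq_of_mul_eq_one_right (h2 c hc)]
          _ = c := by
            have hcomm : (n : G) * c * (n : G)⁻¹ * c = c * ((n : G) * c * (n : G)⁻¹) := by
              have hp := h2 _ (mul_mem (hmem n ⟨c, hc⟩) hc)
              calc _ = ((n : G) * c * (n : G)⁻¹ * c)⁻¹ :=
                    (inv_eq_of_mul_eq_one_right hp).symm
                _ = _ := by
                  rw [mul_inv_rev, inv_eq_of_mul_eq_one_right (h2 c hc),
                    inv_eq_of_mul_eq_one_right hcc]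
            rw [hcomm, mul_assoc, hcc, mul_one]
      calc c * ((n : G) * n) = (n : G) * ((n : G) * c * (n : G)⁻¹) * (n : G)⁻¹ * ((n : G) * n) := by
            rw [hfix2]
        _ = _ := by group
    rw [← QuotientGroup.eq_one_iff]
    have hsq' : (QuotientGroup.mk n : ↥N ⧸ E') ^ 2 = 1 := by
      rw [← QuotientGroup.mk_pow, QuotientGroup.eq_one_iff, Subgroup.mem_subgroupOf, sq, Subgroup.coe_mul]
      exact hsq
    have hq : (QuotientGroup.mk n : ↥N ⧸ E') ^ E'.index = 1 := by
      rw [Subgroup.index]; exact pow_card_eq_one'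
    obtain ⟨k, hk⟩ : Odd E'.index := hodd
    rwa [hk, pow_succ, pow_mul, hsq', one_pow, one_mul] at hq
  let T := {p : ↥E × ↥E // p.1 ≠ 1 ∧ p.2 ≠ 1 ∧ p.1 ≠ p.2}
  let f : ↥N ⧸ E' → T := fun q =>
    ⟨(⟨(q.out : G) * a * (q.out : G)⁻¹, hmem q.out a⟩, ⟨(q.out : G) * b * (q.out : G)⁻¹, hmem q.out b⟩),
      fun h => ha (Subtype.ext (by simpa using congrArg Subtype.val h)),
      fun h => hb1 (Subtype.ext (by simpa using congrArg Subtype.val h)),
      fun h => hba (Subtype.ext (by simpa using (congrArg Subtype.val h).symm))⟩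
  have hf : Function.Injective f := by
    intro q q' h
    have h1 := congrArg (fun p : T => (p.1.1 : G)) h
    have h2' := congrArg (fun p : T => (p.1.2 : G)) h
    simp only [f] at h1 h2'
    rw [← QuotientGroup.out_eq' q, ← QuotientGroup.out_eq' q', QuotientGroup.eq]
    refine hfix _ ?_ ?_ <;> simp only [Subgroup.coe_mul, Subgroup.coe_inv]
    · calc _ = (q.out : G)⁻¹ * ((q'.out : G) * a * (q'.out : G)⁻¹) * q.out := by group
        _ = a := by rw [← h1]; group
    · calc _ = (q.out : G)⁻¹ * ((q'.out : G) * b * (q'.out : G)⁻¹) * q.out := by group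
        _ = b := by rw [← h2']; group
  have hT : Nat.card T ≤ 42 := by
    let T' := (x : {x : ↥E // x ≠ 1}) × {y : {y : ↥E // y ≠ 1} // y ≠ x}
    let e : T ≃ T' :=
      { toFun := fun p => ⟨⟨p.1.1, p.2.1⟩, ⟨p.1.2, p.2.2.1⟩, fun h => p.2.2.2 (congrArg Subtype.val h).symm⟩
        invFun := fun p => ⟨(p.1.1, p.2.1.1), p.1.2, p.2.1.2, fun h => p.2.2 (Subtype.ext h.symm)⟩ }
    have h7 : Fintype.card {x : ↥E // x ≠ 1} = 7 := by
      rw [Fintype.card_subtype_compl, Fintype.card_subtype_eq, ← Nat.card_eq_fintype_card, h8]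
    rw [Nat.card_congr e, Nat.card_eq_fintype_card, Fintype.card_sigma]
    simp only [Fintype.card_subtype_compl, Fintype.card_subtype_eq, h7, Finset.sum_const,
      Finset.card_univ, smul_eq_mul]
    norm_num
  exact (Nat.card_le_card_of_injective f hf).trans hT

end General

variable {K : Type*} [Field K] [CharP K 3] {m : ℕ} [Fintype K]

local notation "G¹" => twistedG2 K (3 ^ m)
local notation "q₀" => 3 ^ (2 * m + 1)
local notation "PSL₂" => Matrix.ProjectiveSpecialLinearGroup (Fin 2) K

variable (hK : Fintype.card K = 3 ^ (2 * m + 1))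
include hK

theorem centralizer_sylow_two_of (S : Sylow 2 ↥G¹)
    (hbig : ∀ g ∈ Subgroup.centralizer ((S : Subgroup ↥G¹) : Set ↥G¹), ¬ IsBig g) :
    Subgroup.centralizer ((S : Subgroup ↥G¹) : Set ↥G¹) = S := by
  haveI : Fact (Nat.Prime 2) := ⟨Nat.prime_two⟩
  haveI : Fact (Nat.Prime 3) := ⟨Nat.prime_three⟩
  obtain ⟨h8, h2⟩ := sylow_two_twisted hK S
  set E := (S : Subgroup ↥G¹)
  have hEC : E ≤ Subgroup.centralizer (E : Set ↥G¹) := fun a ha =>
    Subgroup.mem_centralizer_iff.mpr fun b hb => by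
      have h : a * b * (a * b) = 1 := h2 _ (mul_mem ha hb)
      calc b * a = (a * a) * (b * a) * (b * b) := by rw [h2 a ha, h2 b hb, one_mul, mul_one]
        _ = a * (a * b * (a * b)) * b := by group
        _ = a * b := by rw [h, mul_one]
  have hord : ∀ g ∈ Subgroup.centralizer (E : Set ↥G¹), ∀ p, p.Prime → p ∣ orderOf g → p = 2 := by
    intro g hg
    have hsmall : ¬ IsBig g := hbig g hg
    intro p hp hd
    have hp23 : p = 2 ∨ p = 3 := by
      have := hp.two_le
      by_contra hcon
      push Not at hcon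
      refine hsmall ⟨p, hp, ?_, hd⟩
      have h4 : p ≠ 4 := fun e => by subst e; norm_num at hp
      omega
    rcases hp23 with h | rfl
    · exact h
    exfalso
    set s := g ^ (orderOf g / 3)
    have hs3 : orderOf s = 3 := orderOf_pow_orderOf_div (orderOf_pos g).ne' hd
    have hsC : s ∈ Subgroup.centralizer (E : Set ↥G¹) := pow_mem hg _
    haveI : Nontrivial ↥E := Finite.one_lt_card_iff_nontrivial.mp (by
      rw [show Nat.card ↥E = 8 from h8]; norm_num)
    obtain ⟨a, ha⟩ := exists_ne (1 : ↥E)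
    obtain ⟨c, hc⟩ := exists_conj_invE hK (g := (a : ↥G¹))
      (orderOf_eq_prime (by rw [sq]; exact h2 _ a.2) fun h => ha (Subtype.ext h))
    have hmemC : ∀ y, y * (a : ↥G¹) = a * y → c * y * c⁻¹ ∈ Subgroup.centralizer {invE} := fun y hy => by
      rw [Subgroup.mem_centralizer_singleton_iff, ← hc,
        show c * y * c⁻¹ * (c * (a : ↥G¹) * c⁻¹) = c * (y * a) * c⁻¹ by group, hy]
      group
    set C1 : Subgroup ↥G¹ := Subgroup.centralizer {invE}
    obtain ⟨d, u, hu⟩ := exists_conj_eB hK
      (g := (⟨c * s * c⁻¹, hmemC s (Subgroup.mem_centralizer_iff.mp hsC a a.2).symm⟩ : ↥C1)) (k := 1)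
      (Subtype.ext (by
        rw [pow_one, Subgroup.coe_pow, Subgroup.coe_one, conj_pow,
          orderOf_dvd_iff_pow_eq_one.mp hs3.dvd, mul_one, mul_inv_cancel]))
    set w : ↥G¹ := (d : ↥G¹) * c
    have hwU : w * s * w⁻¹ ∈ uSub3 K m := by
      show ((w * s * w⁻¹ : ↥G¹) : GL chevG2.Idx K) ∈ chevG2.posUnipotent K
      rw [show w * s * w⁻¹ = (d : ↥G¹) * (c * s * c⁻¹) * (d : ↥G¹)⁻¹ by simp only [w]; group]
      exact (show ((((d : ↥G¹) * (c * s * c⁻¹) * (d : ↥G¹)⁻¹) : ↥G¹) : GL chevG2.Idx K) = eB K m u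
        from hu) ▸ eB_pos u
    have hwne : w * s * w⁻¹ ≠ 1 := fun h => by
      have := orderOf_conj_eq w s
      rw [h, orderOf_one, hs3] at this
      omega
    let f : ↥E →* ↥((chevG2.borelSubgroup K ⊓ G¹).subgroupOf G¹) :=
      { toFun := fun e => ⟨w * e * w⁻¹, ti_uSub3 hK hwU hwne (by
          rw [show w * (e : ↥G¹) * w⁻¹ * (w * s * w⁻¹) * (w * (e : ↥G¹) * w⁻¹)⁻¹ =
            w * ((e : ↥G¹) * s * (e : ↥G¹)⁻¹) * w⁻¹ by group,
            Subgroup.mem_centralizer_iff.mp hsC e e.2, mul_inv_cancel_right]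
          exact hwU)⟩
        map_one' := Subtype.ext (by simp)
        map_mul' := fun a b => Subtype.ext (by simp) }
    have hf : Function.Injective f := fun a b h =>
      Subtype.ext (mul_left_cancel (mul_right_cancel (congrArg Subtype.val h)))
    have hd8 := Subgroup.card_dvd_of_injective f hf
    rw [show Nat.card ↥E = 8 from h8] at hd8
    have e := ((chevG2.borelSubgroup K ⊓ G¹).subgroupOf G¹).card_mul_index
    rw [index_borel hK, card_twisted hK] at e
    rw [Nat.eq_of_mul_eq_mul_right (by positivity) e] at hd8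
    have hq8 : q₀ % 8 = 3 := by rw [pow_succ, pow_mul, Nat.mul_mod, Nat.pow_mod]; norm_num
    have hco : Nat.Coprime 8 (q₀ ^ 3) :=
      ((Nat.prime_two.coprime_iff_not_dvd.mpr (by omega : ¬ 2 ∣ q₀)).pow 3 3)
    have := hco.dvd_of_dvd_mul_left hd8
    omega
  have hp : IsPGroup 2 ↥(Subgroup.centralizer (E : Set ↥G¹)) := fun g => by
    refine ⟨(orderOf (g : ↥G¹)).primeFactorsList.length, Subtype.ext ?_⟩
    rw [Subgroup.coe_pow, Subgroup.coe_one, ← orderOf_dvd_iff_pow_eq_one]
    exact (Nat.eq_prime_pow_of_unique_prime_dvd (orderOf_pos _).ne'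
      fun {d} hd' hdn => hord g g.2 d hd' hdn).dvd
  exact S.is_maximal' hp hEC

/-- A Sylow two-subgroup normalised by an element of order three. -/
theorem exists_three_normalizer :
    ∃ (S : Sylow 2 ↥G¹) (g : ↥G¹), orderOf g = 3 ∧ g ∈ Subgroup.normalizer ((S : Subgroup ↥G¹) : Set ↥G¹) := by
  haveI : Fact (Nat.Prime 2) := ⟨Nat.prime_two⟩
  haveI : Fact (Nat.Prime 3) := ⟨Nat.prime_three⟩
  have h3 : (3 : K) = 0 := CharP.ofNat_eq_zero K 3
  have h2ne : (2 : K) ≠ 0 := fun h => one_ne_zero (α := K) (by linear_combination h3 - h)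
  set k : SL(2, K) := ⟨!![1, 1; 1, -1], by rw [Matrix.det_fin_two_of]; linear_combination -h3⟩ with hk
  set negI : SL(2, K) := ⟨!![-1, 0; 0, -1], by simp [Matrix.det_fin_two_of]⟩ with hnegI
  have hcen : negI ∈ Subgroup.center (SL(2, K)) := by
    rw [Matrix.SpecialLinearGroup.mem_center_iff]
    refine ⟨-1, by simp, ?_⟩
    ext i j
    fin_cases i <;> fin_cases j <;> simp [hnegI]
  have hneg : (QuotientGroup.mk negI : PSL₂) = 1 := (QuotientGroup.eq_one_iff _).mpr hcen
  set A : PSL₂ := QuotientGroup.mk wT with hA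
  set Bk : PSL₂ := QuotientGroup.mk k with hBk
  set σ : PSL₂ := QuotientGroup.mk (upT 1) with hσ
  have e1 : wT * wT = negI := by
    refine Subtype.ext ?_
    show !![(0 : K), 1; -1, 0] * !![0, 1; -1, 0] = !![-1, 0; 0, -1]
    ext i j
    fin_cases i <;> fin_cases j <;> simp
  have e2 : k * k = negI := by
    refine Subtype.ext ?_
    show !![(1 : K), 1; 1, -1] * !![1, 1; 1, -1] = !![-1, 0; 0, -1]
    ext i j
    fin_cases i <;> fin_cases j <;> simp [Matrix.mul_apply, Fin.sum_univ_two] <;>
      first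
        | linear_combination h3
        | linear_combination -h3
        | linear_combination 2 * h3
        | linear_combination -2 * h3
  have e3 : wT * k = negI * (k * wT) := by
    refine Subtype.ext ?_
    show !![(0 : K), 1; -1, 0] * !![1, 1; 1, -1] =
      !![-1, 0; 0, -1] * (!![1, 1; 1, -1] * !![0, 1; -1, 0])
    ext i j
    fin_cases i <;> fin_cases j <;> simp [Matrix.mul_apply, Fin.sum_univ_two]
  have e4 : upT 1 * wT = negI * (k * upT 1) := by
    refine Subtype.ext ?_
    show !![(1 : K), 1; 0, 1] * !![0, 1; -1, 0] =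
      !![-1, 0; 0, -1] * (!![1, 1; 1, -1] * !![1, 1; 0, 1])
    ext i j
    fin_cases i <;> fin_cases j <;> simp [Matrix.mul_apply, Fin.sum_univ_two] <;>
      first
        | linear_combination h3
        | linear_combination -h3
        | linear_combination 2 * h3
        | linear_combination -2 * h3
  have e5 : upT 1 * k = negI * (wT * k * upT 1) := by
    refine Subtype.ext ?_
    show !![(1 : K), 1; 0, 1] * !![1, 1; 1, -1] =
      !![-1, 0; 0, -1] * (!![(0 : K), 1; -1, 0] * !![1, 1; 1, -1] * !![1, 1; 0, 1])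
    ext i j
    fin_cases i <;> fin_cases j <;> simp [Matrix.mul_apply, Fin.sum_univ_two] <;>
      first
        | linear_combination h3
        | linear_combination -h3
        | linear_combination 2 * h3
        | linear_combination -2 * h3
  have hAA : A * A = 1 := by rw [hA, ← QuotientGroup.mk_mul, e1, hneg]
  have hBB : Bk * Bk = 1 := by rw [hBk, ← QuotientGroup.mk_mul, e2, hneg]
  have hAB : A * Bk = Bk * A := by
    rw [hA, hBk, ← QuotientGroup.mk_mul, e3, QuotientGroup.mk_mul, hneg, one_mul, QuotientGroup.mk_mul]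
  have hσA : σ * A = Bk * σ := by
    rw [hσ, hA, ← QuotientGroup.mk_mul, e4, QuotientGroup.mk_mul, hneg, one_mul, QuotientGroup.mk_mul]
  have hσB : σ * Bk = A * Bk * σ := by
    rw [hσ, hBk, hA, ← QuotientGroup.mk_mul, e5, QuotientGroup.mk_mul, hneg, one_mul,
      QuotientGroup.mk_mul, QuotientGroup.mk_mul]
  have hnc : ∀ g : SL(2, K), (∀ r : K, g.1 ≠ Matrix.scalar (Fin 2) r) →
      (QuotientGroup.mk g : PSL₂) ≠ 1 := fun g hg h => by
    obtain ⟨r, -, hr⟩ := Matrix.SpecialLinearGroup.mem_center_iff.mp ((QuotientGroup.eq_one_iff _).mp h)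
    exact hg r hr.symm
  have hA1 : A ≠ 1 := hnc _ fun r h => by
    have := congrFun (congrFun h 0) 1
    simp [wT] at this
  have hB1 : Bk ≠ 1 := hnc _ fun r h => by
    have := congrFun (congrFun h 0) 1
    simp [hk] at this
  have hABne : A ≠ Bk := fun h => by
    have h' : A * Bk = 1 := by rw [← h, hAA]
    rw [hA, hBk, ← QuotientGroup.mk_mul] at h'
    refine hnc _ (fun r hr => ?_) h'
    have := congrFun (congrFun hr 0) 1
    rw [Matrix.SpecialLinearGroup.coe_mul] at this
    simp [wT, hk, Matrix.mul_apply, Matrix.vecMul, dotProduct, Fin.sum_univ_two] at this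
  obtain ⟨e⟩ := centralizer_iso hK
  set V : Subgroup PSL₂ := Subgroup.closure {A, Bk} with hV
  have hV4 : Nat.card ↥V = 4 ∧ ∀ x ∈ V, x * x = 1 := by
    obtain ⟨V', hV'4, hV'⟩ := exists_four_subgroup hAA hBB hAB hA1 hB1 hABne
    have hle : ∀ x ∈ V, x = 1 ∨ x = A ∨ x = Bk ∨ x = A * Bk := by
      intro x hx
      refine Subgroup.closure_induction ?_ (Or.inl rfl) ?_ ?_ hx
      · rintro y (rfl | rfl) <;> simp
      · rintro y z - - (rfl | rfl | rfl | rfl) (rfl | rfl | rfl | rfl) <;>
          (try simp only [one_mul, mul_one]) <;>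
          first
            | tauto
            | (left; exact hAA)
            | (left; exact hBB)
            | (right; right; right; exact hAB.symm)
            | (right; right; left; rw [← mul_assoc, hAA, one_mul])
            | (right; left; rw [mul_assoc, hBB, mul_one])
            | (right; left; rw [← mul_assoc, ← hAB, mul_assoc, hBB, mul_one])
            | (right; right; left; rw [hAB, mul_assoc, hAA, mul_one])
            | (left; rw [mul_assoc, ← mul_assoc Bk, ← hAB, mul_assoc A Bk Bk, hBB, mul_one, hAA])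
      · rintro y - (rfl | rfl | rfl | rfl)
        · simp
        · exact Or.inr (Or.inl (inv_eq_of_mul_eq_one_right hAA))
        · exact Or.inr (Or.inr (Or.inl (inv_eq_of_mul_eq_one_right hBB)))
        · refine Or.inr (Or.inr (Or.inr ?_))
          rw [mul_inv_rev, inv_eq_of_mul_eq_one_right hBB, inv_eq_of_mul_eq_one_right hAA, hAB]
    classical
    have hset : (V : Set PSL₂) = ({1, A, Bk, A * Bk} : Finset PSL₂) := by
      ext x
      simp only [SetLike.mem_coe, Finset.coe_insert, Finset.coe_singleton, Set.mem_insert_iff,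
        Set.mem_singleton_iff]
      refine ⟨hle x, ?_⟩
      have mA : A ∈ V := Subgroup.subset_closure (by simp)
      have mB : Bk ∈ V := Subgroup.subset_closure (by simp)
      rintro (rfl | rfl | rfl | rfl)
      · exact one_mem V
      · exact mA
      · exact mB
      · exact mul_mem mA mB
    refine ⟨?_, fun x hx => ?_⟩
    · rw [← SetLike.coe_sort_coe, hset, Nat.card_coe_set_eq, Set.ncard_coe_finset]
      have h4 : A * Bk ≠ 1 := fun h =>
        hABne ((mul_eq_one_iff_eq_inv.mp h).trans (inv_eq_of_mul_eq_one_right hBB))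
      have h5 : A * Bk ≠ A := fun h => hB1 (mul_eq_left.mp h)
      have h6 : A * Bk ≠ Bk := fun h => hA1 (mul_eq_right.mp h)
      simp [Finset.card_insert_of_notMem, hA1.symm, hB1.symm, hABne, h4.symm, h5.symm, h6.symm]
    · rcases hle x hx with rfl | rfl | rfl | rfl
      · exact mul_one 1
      · exact hAA
      · exact hBB
      · rw [mul_assoc, ← mul_assoc Bk, ← hAB, mul_assoc A Bk Bk, hBB, mul_one, hAA]
  set C1 : Subgroup ↥G¹ := Subgroup.centralizer {invE}
  set W : Subgroup (Multiplicative (ZMod 2) × PSL₂) := (⊤ : Subgroup _).prod V with hW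
  set E : Subgroup ↥G¹ := (W.comap e.toMonoidHom).map C1.subtype with hE
  have hE8 : Nat.card ↥E = 8 := by
    rw [hE, Subgroup.card_map_of_injective (Subgroup.subtype_injective _),
      Subgroup.comap_equiv_eq_map_symm', Subgroup.card_map_of_injective e.symm.injective, hW,
      Nat.card_congr (Subgroup.prodEquiv _ _).toEquiv, Nat.card_prod, hV4.1, Subgroup.card_top]
    simp
  have hidx : ¬ 2 ∣ E.index := by
    obtain ⟨S0⟩ := (inferInstance : Nonempty (Sylow 2 ↥G¹))
    have h := Sylow.card_eq_multiplicity S0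
    rw [(sylow_two_twisted hK S0).1] at h
    have e' := E.card_mul_index
    have hfac : (Nat.card ↥G¹).factorization 2 = 3 :=
      (Nat.pow_right_injective (le_refl 2) (show 2 ^ 3 = 2 ^ _ from h)).symm
    intro hdvd
    have h16 : 2 ^ 4 ∣ Nat.card ↥G¹ := by
      rw [← e', hE8, show (2 : ℕ) ^ 4 = 8 * 2 from rfl]
      exact mul_dvd_mul_left 8 hdvd
    rw [Nat.prime_two.pow_dvd_iff_le_factorization Nat.card_pos.ne', hfac] at h16
    omega
  refine ⟨(IsPGroup.of_card (n := 3) (show Nat.card ↥E = 2 ^ 3 from hE8)).toSylow hidx,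
    ((e.symm (1, σ) : ↥C1) : ↥G¹), ?_, ?_⟩
  · rw [Subgroup.orderOf_coe, e.symm.orderOf_eq, orderOf_eq_prime_iff]
    refine ⟨?_, fun h => ?_⟩
    · rw [Prod.pow_mk, one_pow, hσ, ← QuotientGroup.mk_pow, Prod.mk_eq_one]
      refine ⟨rfl, ?_⟩
      rw [show upT (1 : K) ^ 3 = 1 from Subtype.ext (by
        rw [Matrix.SpecialLinearGroup.coe_pow, pow_succ, sq]
        show !![(1 : K), 1; 0, 1] * !![1, 1; 0, 1] * !![1, 1; 0, 1] = 1
        ext i j
        fin_cases i <;> fin_cases j <;> simp [Matrix.mul_apply, Fin.sum_univ_two] <;>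
          linear_combination h3)]
      rfl
    · exact hnc (upT 1) (fun r hr => by
        have := congrFun (congrFun hr 0) 1
        simp [upT] at this) (congrArg Prod.snd h)
  · have hgen : ∀ x ∈ V, σ * x * σ⁻¹ ∈ V := by
      intro x hx
      have mA : A ∈ V := Subgroup.subset_closure (by simp)
      have mB : Bk ∈ V := Subgroup.subset_closure (by simp)
      refine closure_conj_mem (A := {A, Bk}) ?_ hx
      rintro y (rfl | rfl)
      · rw [hσA, mul_inv_cancel_right]; exact mB
      · rw [hσB, mul_inv_cancel_right]; exact mul_mem mA mB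
    have hfin : ∀ x ∈ E, ((e.symm (1, σ) : ↥C1) : ↥G¹) * x * ((e.symm (1, σ) : ↥C1) : ↥G¹)⁻¹ ∈ E := by
      rintro _ ⟨y, hy, rfl⟩
      refine ⟨e.symm (1, σ) * y * (e.symm (1, σ))⁻¹, ⟨trivial, ?_⟩, rfl⟩
      show (e (e.symm (1, σ) * y * (e.symm (1, σ))⁻¹)).2 ∈ V
      simp only [map_mul, map_inv, MulEquiv.apply_symm_apply, Prod.snd_mul, Prod.snd_inv]
      exact hgen _ hy.2
    have hle : E.map (MulAut.conj ((e.symm (1, σ) : ↥C1) : ↥G¹)).toMonoidHom = E :=
      Subgroup.eq_of_le_of_card_ge (by rintro _ ⟨x, hx, rfl⟩; exact hfin x hx)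
        (by rw [Subgroup.card_map_of_injective (show Function.Injective
          (MulAut.conj ((e.symm (1, σ) : ↥C1) : ↥G¹)).toMonoidHom from (MulAut.conj _).injective)])
    refine Subgroup.mem_normalizer_iff.mpr fun x => ⟨fun hx => hfin x hx, fun hx => ?_⟩
    have hx' : ((e.symm (1, σ) : ↥C1) : ↥G¹) * x * ((e.symm (1, σ) : ↥C1) : ↥G¹)⁻¹ ∈
        E.map (MulAut.conj ((e.symm (1, σ) : ↥C1) : ↥G¹)).toMonoidHom := hle.symm ▸ hx
    obtain ⟨z, hz, hze⟩ := hx'
    rwa [← show z = x from mul_left_cancel (mul_right_cancel hze)]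

theorem card_normalizer_sylow_two_of (S : Sylow 2 ↥G¹)
    (hC : Subgroup.centralizer ((S : Subgroup ↥G¹) : Set ↥G¹) = S) :
    Nat.card ↥(Subgroup.normalizer ((S : Subgroup ↥G¹) : Set ↥G¹)) = 168 := by
  haveI : Fact (Nat.Prime 2) := ⟨Nat.prime_two⟩
  haveI : Fact (Nat.Prime 3) := ⟨Nat.prime_three⟩
  haveI : Fact (Nat.Prime 7) := ⟨by norm_num⟩
  obtain ⟨h8, h2⟩ := sylow_two_twisted hK S
  set E := (S : Subgroup ↥G¹)
  set N := Subgroup.normalizer (E : Set ↥G¹)
  have hEN : E ≤ N := Subgroup.le_normalizer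
  have hcard : Nat.card ↥N = 8 * E.relIndex N := by
    rw [← (E.subgroupOf N).card_mul_index, Nat.card_congr (Subgroup.subgroupOfEquivOfLe hEN).toEquiv,
      show Nat.card ↥E = 8 from h8]
    rfl
  have hodd : Odd (E.relIndex N) := by
    rw [← Nat.not_even_iff_odd, even_iff_two_dvd]
    exact fun h => S.not_dvd_index (h.trans (Subgroup.relIndex_dvd_index_of_le hEN))
  have hle := relIndex_le_of_eight E h8 h2 hC.le hodd
  have h3 : 3 ∣ E.relIndex N := by
    obtain ⟨S₁, g, hg3, hgN⟩ := exists_three_normalizer hK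
    obtain ⟨c, rfl⟩ := MulAction.exists_smul_eq ↥G¹ S₁ S
    have hgN' : c * g * c⁻¹ ∈ N := by
      show c * g * c⁻¹ ∈ Subgroup.normalizer ((c • S₁ : Sylow 2 ↥G¹) : Set ↥G¹)
      rw [← Sylow.smul_eq_iff_mem_normalizer, ← mul_smul, inv_mul_cancel_right, mul_smul,
        Sylow.smul_eq_iff_mem_normalizer.mpr hgN]
    have hd : 3 ∣ Nat.card ↥N := by
      have := Subgroup.orderOf_dvd_natCard N hgN'
      rwa [orderOf_conj_eq, hg3] at this
    rw [hcard] at hd
    exact (Nat.Coprime.dvd_of_dvd_mul_left (by norm_num) hd)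
  have h7 : 7 ∣ E.relIndex N := by
    haveI : Nontrivial ↥E := Finite.one_lt_card_iff_nontrivial.mp (by
      rw [show Nat.card ↥E = 8 from h8]; norm_num)
    obtain ⟨a, ha⟩ := exists_ne (1 : ↥E)
    set St := (Subgroup.centralizer {(a : ↥G¹)}).subgroupOf N
    let f : ↥N ⧸ St → {x : ↥E // x ≠ 1} := fun q =>
      ⟨⟨(q.out : ↥G¹) * a * (q.out : ↥G¹)⁻¹, (Subgroup.mem_normalizer_iff.mp q.out.2 a).mp a.2⟩,
        fun h => ha (Subtype.ext (by simpa using congrArg Subtype.val h))⟩
    have hf : Function.Bijective f := by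
      refine ⟨fun q q' h => ?_, fun ⟨b, hb⟩ => ?_⟩
      · have h1 := congrArg (fun p : {x : ↥E // x ≠ 1} => ((p.1 : ↥E) : ↥G¹)) h
        simp only [f] at h1
        rw [← QuotientGroup.out_eq' q, ← QuotientGroup.out_eq' q', QuotientGroup.eq,
          Subgroup.mem_subgroupOf, Subgroup.mem_centralizer_singleton_iff]
        simp only [Subgroup.coe_mul, Subgroup.coe_inv]
        calc (q.out : ↥G¹)⁻¹ * q'.out * a
            = (q.out : ↥G¹)⁻¹ * ((q'.out : ↥G¹) * a * (q'.out : ↥G¹)⁻¹) * q'.out := by group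
          _ = _ := by rw [← h1]; group
      · -- fusion inside the normaliser
        have hord : ∀ x : ↥E, x ≠ 1 → orderOf (x : ↥G¹) = 2 := fun x hx =>
          orderOf_eq_prime (by rw [sq]; exact h2 _ x.2) fun h => hx (Subtype.ext h)
        obtain ⟨u, hu⟩ := exists_conj_invE hK (hord a ha)
        obtain ⟨v, hv⟩ := exists_conj_invE hK (hord b hb)
        set c := v⁻¹ * u
        have hcab : c * (a : ↥G¹) * c⁻¹ = b := by
          calc c * (a : ↥G¹) * c⁻¹ = v⁻¹ * (u * a * u⁻¹) * v := by simp only [c]; group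
            _ = b := by rw [hu, ← hv]; group
        set C2 := Subgroup.centralizer {(b : ↥G¹)}
        have hEC : ∀ x y : ↥E, (x : ↥G¹) * y = y * x := fun x y =>
          (Subgroup.mem_centralizer_iff.mp
            (show (x : ↥G¹) ∈ Subgroup.centralizer (E : Set ↥G¹) by rw [hC]; exact x.2) y y.2).symm
        have hle1 : E ≤ C2 := fun x hx =>
          Subgroup.mem_centralizer_singleton_iff.mpr (hEC ⟨x, hx⟩ b)
        have hle2 : ((c • S : Sylow 2 ↥G¹) : Subgroup ↥G¹) ≤ C2 := by
          rintro _ ⟨x, hx, rfl⟩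
          refine Subgroup.mem_centralizer_singleton_iff.mpr ?_
          show c * x * c⁻¹ * (b : ↥G¹) = b * (c * x * c⁻¹)
          rw [← hcab, show c * x * c⁻¹ * (c * (a : ↥G¹) * c⁻¹) = c * (x * a) * c⁻¹ by group,
            show x * (a : ↥G¹) = a * x from hEC ⟨x, hx⟩ a]
          group
        obtain ⟨d, hd⟩ := MulAction.exists_smul_eq ↥C2 ((c • S).subtype hle2) (S.subtype hle1)
        have hdS : ((d : ↥G¹) * c) • S = S := by
          refine Sylow.ext ?_
          rw [mul_smul, Sylow.coe_subgroup_smul]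
          have e := congrArg (fun P : Sylow 2 ↥C2 => (P : Subgroup ↥C2).map C2.subtype) hd
          simp only [Sylow.coe_subgroup_smul, Sylow.coe_subtype] at e
          rw [Subgroup.map_subgroupOf_eq_of_le hle1] at e
          refine Eq.trans ?_ e
          ext z
          rw [Subgroup.mem_pointwise_smul_iff_inv_smul_mem, Subgroup.mem_map]
          constructor
          · intro hz
            have hz' : (d : ↥G¹)⁻¹ * z * d ∈ ((c • S : Sylow 2 ↥G¹) : Subgroup ↥G¹) := by simpa using hz
            refine ⟨d * ⟨_, hle2 hz'⟩ * d⁻¹, ?_, by simp [mul_assoc]⟩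
            rw [Subgroup.mem_pointwise_smul_iff_inv_smul_mem]
            simpa [mul_assoc, Subgroup.mem_subgroupOf, Sylow.coe_subgroup_smul] using hz'
          · rintro ⟨w, hw, rfl⟩
            rw [Subgroup.mem_pointwise_smul_iff_inv_smul_mem] at hw
            simpa [Subgroup.mem_subgroupOf, Sylow.coe_subgroup_smul] using hw
        have hdcN : (d : ↥G¹) * c ∈ N := Sylow.smul_eq_iff_mem_normalizer.mp hdS
        obtain ⟨s, hs⟩ := QuotientGroup.mk_out_eq_mul St ⟨_, hdcN⟩
        refine ⟨QuotientGroup.mk ⟨_, hdcN⟩, Subtype.ext (Subtype.ext ?_)⟩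
        show ((QuotientGroup.mk ⟨_, hdcN⟩ : ↥N ⧸ St).out : ↥G¹) * a * _⁻¹ = (b : ↥G¹)
        rw [hs]
        simp only [Subgroup.coe_mul]
        have hsa : ((s : ↥N) : ↥G¹) * a = a * (s : ↥N) := Subgroup.mem_centralizer_singleton_iff.mp s.2
        calc (d : ↥G¹) * c * (s : ↥N) * a * ((d : ↥G¹) * c * (s : ↥N))⁻¹
            = (d : ↥G¹) * c * (((s : ↥N) : ↥G¹) * a) * ((s : ↥N) : ↥G¹)⁻¹ * c⁻¹ * (d : ↥G¹)⁻¹ := by group
          _ = (d : ↥G¹) * (c * a * c⁻¹) * (d : ↥G¹)⁻¹ := by rw [hsa]; group
          _ = b := by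
            rw [hcab, Subgroup.mem_centralizer_singleton_iff.mp d.2, mul_inv_cancel_right]
    classical
    haveI := Fintype.ofFinite ↥E
    have h7c : Nat.card (↥N ⧸ St) = 7 := by
      rw [Nat.card_congr (Equiv.ofBijective f hf), Nat.card_eq_fintype_card,
        Fintype.card_subtype_compl, Fintype.card_subtype_eq, ← Nat.card_eq_fintype_card,
        show Nat.card ↥E = 8 from h8]
    have hd : 7 ∣ Nat.card ↥N := h7c ▸ Subgroup.card_quotient_dvd_card St
    rw [hcard] at hd
    exact (Nat.Coprime.dvd_of_dvd_mul_left (by norm_num) hd)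
  obtain ⟨j, hj⟩ := (show 21 ∣ E.relIndex N from Nat.Coprime.mul_dvd_of_dvd_of_dvd (by norm_num) h3 h7)
  obtain ⟨k, hk⟩ := hodd
  have hle' : E.relIndex N ≤ 42 := hle
  have hj1 : j = 1 := by omega
  subst hj1
  rw [hcard, hj]

theorem centralizer_sylow_two (hm : 1 ≤ m) (S : Sylow 2 ↥G¹) :
    Subgroup.centralizer ((S : Subgroup ↥G¹) : Set ↥G¹) = S := by
  obtain ⟨h8, h2⟩ := sylow_two_twisted hK S
  set E := (S : Subgroup ↥G¹)
  refine centralizer_sylow_two_of hK S fun g hg => ?_
  rintro hb
  obtain ⟨x, p, hp, h5, ho, hxg, -⟩ := exists_root hb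
  have hle : E ≤ Subgroup.centralizer {x} := fun a ha => by
    rw [Subgroup.mem_centralizer_singleton_iff]
    exact Subgroup.mem_centralizer_iff.mp (Subgroup.zpowers_le.mpr hg hxg) a ha
  have hd := Subgroup.card_dvd_of_le hle
  rw [show Nat.card ↥E = 8 from h8] at hd
  obtain ⟨i, z, hz, hxz⟩ := exists_root_torus hm hK (isBig_of_prime hp h5 ho)
  obtain ⟨l, hl, hl5, hol, -⟩ := id hz
  rw [cent_eq hK hl hl5 hol hp h5 ho hxz, card_of_root hm hK hz] at hd
  have hco : Nat.Coprime 2 (torusHall m i) :=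
    (torusHall_coprime hm i).coprime_dvd_left (by norm_num)
  have h8' : 8 ∣ torusSmall i := (Nat.Coprime.pow_left 3 hco).dvd_of_dvd_mul_right hd
  have := Nat.le_of_dvd (by rcases torusSmall_cases i with e | e | e <;> omega) h8'
  rcases torusSmall_cases i with e | e | e <;> omega

theorem card_normalizer_sylow_two (hm : 1 ≤ m) (S : Sylow 2 ↥G¹) :
    Nat.card ↥(Subgroup.normalizer ((S : Subgroup ↥G¹) : Set ↥G¹)) = 168 :=
  card_normalizer_sylow_two_of hK S (centralizer_sylow_two hK hm S)

end CfsgLib.Ree
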