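import Cfsg.Agent.Ree.Semisimple
import Cfsg.Agent.Ree.SmallOrders
import Cfsg.Agent.Ree.Arith

/-!
The tori: centralisers of the elements of prime order at least five.
-/

set_option autoImplicit false

open scoped Matrix MatrixGroups

namespace CfsgLib.Ree

open Cfsg.Lie CfsgLib.Chevalley

section General

/-- Some prime at least five divides the order. -/
def IsBig {G : Type*} [Group G] (g : G) : Prop := ∃ p, p.Prime ∧ 5 ≤ p ∧ p ∣ orderOf g

theorem isBig_conj {G : Type*} [Group G] (c g : G) : IsBig (c * g * c⁻¹) ↔ IsBig g := by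
  unfold IsBig
  rw [orderOf_conj_eq]

theorem isBig_of_prime {G : Type*} [Group G] {x : G} {p : ℕ} (hp : p.Prime) (h5 : 5 ≤ p)
    (ho : orderOf x = p) : IsBig x := ⟨p, hp, h5, ho ▸ dvd_rfl⟩

/-- The kernel of `x ↦ x ^ s` has order `s` when `|A| = s d` with `s`, `d` coprime. -/
theorem natCard_torsion {A : Type*} [CommGroup A] [Finite A] {s d : ℕ} (h : Nat.card A = s * d)
    (hco : Nat.Coprime s d) : Nat.card (powMonoidHom s : A →* A).ker = s := by
  have key : ∀ {u v : ℕ}, Nat.card A = u * v → Nat.Coprime u v →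
      Nat.card (powMonoidHom u : A →* A).ker ∣ u := by
    intro u v e hc
    refine Nat.Coprime.dvd_of_dvd_mul_right ?_ (e ▸ Subgroup.card_subgroup_dvd_card _)
    refine Nat.coprime_of_dvd fun p hp hpk hpv => ?_
    haveI := Fact.mk hp
    obtain ⟨y, hy⟩ := exists_prime_orderOf_dvd_card' p hpk
    have h1 : (y : A) ^ u = 1 := y.2
    rw [← orderOf_dvd_iff_pow_eq_one, Subgroup.orderOf_coe, hy] at h1
    exact hp.one_lt.ne' (Nat.dvd_one.mp (hc ▸ Nat.dvd_gcd h1 hpv))
  have hs := key h hco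
  have hd := key (h.trans (mul_comm s d)) hco.symm
  have hr : Nat.card (powMonoidHom s : A →* A).range ∣ Nat.card (powMonoidHom d : A →* A).ker :=
    Subgroup.card_dvd_of_le fun _ ⟨y, hy⟩ => by
      rw [← hy, MonoidHom.mem_ker, powMonoidHom_apply, powMonoidHom_apply, ← pow_mul, ← h,
        pow_card_eq_one']
  have e := Subgroup.card_eq_card_quotient_mul_card_subgroup (powMonoidHom s : A →* A).ker
  rw [Nat.card_congr (QuotientGroup.quotientKerEquivRange _).toEquiv, h] at e
  have hle : Nat.card (powMonoidHom s : A →* A).range ≤ d := by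
    have hpos : 0 < d := Nat.pos_of_ne_zero fun hd0 => by
      rw [hd0, mul_zero] at h; exact Nat.card_pos.ne' h
    exact Nat.le_of_dvd hpos (hr.trans hd)
  have hs0 : 0 < s := Nat.pos_of_ne_zero fun hs0 => by
    rw [hs0, zero_mul] at h; exact Nat.card_pos.ne' h
  refine le_antisymm (Nat.le_of_dvd hs0 hs) ?_
  nlinarith [Nat.card_pos (α := (powMonoidHom s : A →* A).range)]

end General

variable {K : Type*} [Field K] [CharP K 3] {m : ℕ} [Fintype K]

local notation "G¹" => twistedG2 K (3 ^ m)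
local notation "q₀" => 3 ^ (2 * m + 1)
local notation "r₀" => 3 ^ (m + 1)
local notation "B¹" => Subgroup.subgroupOf (chevG2.borelSubgroup K ⊓ twistedG2 K (3 ^ m)) (twistedG2 K (3 ^ m))

variable (hK : Fintype.card K = 3 ^ (2 * m + 1))
include hK

/-- The centralisers of commuting elements of prime order at least five coincide. -/
theorem cent_eq {x y : ↥G¹} {p l : ℕ} (hp : p.Prime) (h5 : 5 ≤ p) (ho : orderOf x = p)
    (hl : l.Prime) (hl5 : 5 ≤ l) (hol : orderOf y = l) (hy : y ∈ Subgroup.centralizer {x}) :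
    Subgroup.centralizer {y} = Subgroup.centralizer {x} := by
  have hc := (Subgroup.mem_centralizer_singleton_iff.mp hy)
  refine le_antisymm (fun z hz => ?_) fun z hz => ?_
  · exact Subgroup.mem_centralizer_singleton_iff.mpr
      ((toral_of_prime hK hl hl5 hol).comm z hz x (Subgroup.mem_centralizer_singleton_iff.mpr hc.symm))
  · exact Subgroup.mem_centralizer_singleton_iff.mpr ((toral_of_prime hK hp h5 ho).comm z hz y hy)

omit hK in
/-- An element with a large prime in its order has a power of that prime order. -/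
theorem exists_root {g : ↥G¹} (hg : IsBig g) : ∃ (x : ↥G¹) (p : ℕ), p.Prime ∧ 5 ≤ p ∧
    orderOf x = p ∧ x ∈ Subgroup.zpowers g ∧ g ∈ Subgroup.centralizer {x} := by
  obtain ⟨p, hp, h5, hd⟩ := hg
  refine ⟨g ^ (orderOf g / p), p, hp, h5, orderOf_pow_orderOf_div (orderOf_pos g).ne' hd,
    Subgroup.npow_mem_zpowers g _, Subgroup.mem_centralizer_singleton_iff.mpr ?_⟩
  exact ((Commute.refl g).pow_right _).eq

theorem mem_zpowers_of_torsion {x y : ↥G¹} {p : ℕ} (hp : p.Prime) (h5 : 5 ≤ p) (ho : orderOf x = p)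
    (hy : y ∈ Subgroup.centralizer {x}) (hyp : y ^ p = 1) : y ∈ Subgroup.zpowers x := by
  haveI := Fact.mk hp
  have hT := toral_of_prime hK hp h5 ho
  set C := Subgroup.centralizer {x}
  let W : Subgroup ↥C :=
    { carrier := {z | z ^ p = 1}
      one_mem' := one_pow p
      mul_mem' := fun {a b} ha hb => by
        have hc : Commute a b := Subtype.ext (hT.comm a a.2 b b.2)
        rw [Set.mem_setOf_eq, hc.mul_pow, ha, hb, one_mul]
      inv_mem' := fun {a} ha => by rw [Set.mem_setOf_eq, inv_pow, ha, inv_one] }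
  obtain ⟨k, hk⟩ := IsPGroup.iff_card.mp
    (show IsPGroup p ↥W from fun z => ⟨1, Subtype.ext (by rw [pow_one]; exact z.2)⟩)
  have hcyc : IsCyclic ↥W := by
    rcases hT.shape with ⟨hc, -⟩ | ⟨-, hodd⟩
    · infer_instance
    · exact hodd W (hk ▸ (hp.odd_of_ne_two (by omega)).pow)
  obtain ⟨w, hw⟩ := IsCyclic.exists_generator (α := ↥W)
  have hle : Nat.card ↥W ≤ p := by
    rw [← orderOf_eq_card_of_forall_mem_zpowers hw]
    exact orderOf_le_of_pow_eq_one hp.pos (Subtype.ext w.2)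
  have hxC : x ∈ C := Subgroup.mem_centralizer_singleton_iff.mpr rfl
  have hPW : Subgroup.zpowers x ≤ W.map C.subtype :=
    Subgroup.zpowers_le.mpr ⟨⟨x, hxC⟩, Subtype.ext (by
      rw [Subgroup.coe_pow, Subgroup.coe_one, ← ho, pow_orderOf_eq_one]), rfl⟩
  have e := Subgroup.eq_of_le_of_card_ge hPW (by
    rw [Subgroup.card_map_of_injective C.subtype_injective, Nat.card_zpowers, ho]; exact hle)
  rw [e]
  exact ⟨⟨y, hy⟩, Subtype.ext (by rw [Subgroup.coe_pow, Subgroup.coe_one]; exact hyp), rfl⟩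

theorem normalizer_cent_eq {x : ↥G¹} {p : ℕ} (hp : p.Prime) (h5 : 5 ≤ p) (ho : orderOf x = p) :
    Subgroup.normalizer (Subgroup.centralizer {x} : Set ↥G¹) =
      Subgroup.normalizer (Subgroup.zpowers x : Set ↥G¹) := by
  set C := Subgroup.centralizer {x}
  have hxC : x ∈ C := Subgroup.mem_centralizer_singleton_iff.mpr rfl
  refine le_antisymm (fun g hg => ?_) fun g hg => ?_
  · have hmem : ∀ g ∈ Subgroup.normalizer (C : Set ↥G¹), g * x * g⁻¹ ∈ Subgroup.zpowers x :=
      fun g hg => mem_zpowers_of_torsion hK hp h5 ho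
        ((Subgroup.mem_normalizer_iff.mp hg x).mp hxC)
        (by rw [conj_pow, ← ho, pow_orderOf_eq_one, mul_one, mul_inv_cancel])
    have hfwd : ∀ g ∈ Subgroup.normalizer (C : Set ↥G¹), ∀ z ∈ Subgroup.zpowers x,
        g * z * g⁻¹ ∈ Subgroup.zpowers x := by
      intro g hg z hz
      obtain ⟨n, rfl⟩ := Subgroup.mem_zpowers_iff.mp hz
      rw [← conj_zpow]
      exact zpow_mem (hmem g hg) n
    refine Subgroup.mem_normalizer_iff.mpr fun z => ⟨hfwd g hg z, fun hz => ?_⟩
    have := hfwd g⁻¹ (inv_mem hg) _ hz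
    rwa [inv_inv, show g⁻¹ * (g * z * g⁻¹) * g = z by group] at this
  · refine Subgroup.mem_normalizer_iff.mpr fun z => ?_
    have e : C = Subgroup.centralizer (Subgroup.zpowers x : Set ↥G¹) := by
      rw [Subgroup.zpowers_eq_closure, Subgroup.centralizer_closure]
    have hkey : ∀ g ∈ Subgroup.normalizer (Subgroup.zpowers x : Set ↥G¹), ∀ z ∈ C,
        g * z * g⁻¹ ∈ C := by
      intro g hg z hz
      rw [e, Subgroup.mem_centralizer_iff] at hz ⊢
      intro w hw
      have hw' : g⁻¹ * w * g ∈ Subgroup.zpowers x := by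
        have := (Subgroup.mem_normalizer_iff.mp (inv_mem hg) w).mp hw
        rwa [inv_inv] at this
      calc w * (g * z * g⁻¹) = g * ((g⁻¹ * w * g) * z) * g⁻¹ := by group
        _ = g * (z * (g⁻¹ * w * g)) * g⁻¹ := by rw [hz _ hw']
        _ = _ := by group
    refine ⟨hkey g hg z, fun hz => ?_⟩
    have := hkey g⁻¹ (inv_mem hg) _ hz
    rwa [inv_inv, show g⁻¹ * (g * z * g⁻¹) * g = z by group] at this

theorem index_normalizer_dvd {x : ↥G¹} {p : ℕ} (hp : p.Prime) (h5 : 5 ≤ p) (ho : orderOf x = p) :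
    (Subgroup.centralizer {x}).relIndex
      (Subgroup.normalizer (Subgroup.centralizer {x} : Set ↥G¹)) ∣ 6 := by
  rw [normalizer_cent_eq hK hp h5 ho]
  exact (toral_of_prime hK hp h5 ho).index_dvd

/-! ### The split torus -/

/-- The fixed torus in the twisted group. -/
noncomputable def splitT (K : Type*) [Field K] [CharP K 3] (m : ℕ) :
    Subgroup ↥(twistedG2 K (3 ^ m)) := (hT K m).range.subgroupOf (twistedG2 K (3 ^ m))

theorem mem_splitT {g : ↥G¹} : g ∈ splitT K m ↔ ∃ w, (g : GL chevG2.Idx K) = hT K m w :=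
  ⟨fun ⟨w, hw⟩ => ⟨w, hw.symm⟩, fun ⟨w, hw⟩ => ⟨w, hw.symm⟩⟩

theorem card_splitT : Nat.card ↥(splitT K m) = q₀ - 1 := by
  rw [splitT, Nat.card_congr (Subgroup.subgroupOfEquivOfLe ?_).toEquiv,
    ← Nat.card_congr (MonoidHom.ofInjective (hT_injective (K := K) (m := m))).toEquiv,
    Nat.card_units, Nat.card_eq_fintype_card, hK]
  rintro _ ⟨w, rfl⟩
  exact hT_mem_twisted hK w

theorem isCyclic_splitT : IsCyclic ↥(splitT K m) :=
  isCyclic_of_surjective (f := (⟨⟨fun w => ⟨⟨hT K m w, hT_mem_twisted hK w⟩, w, rfl⟩,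
      Subtype.ext (Subtype.ext (map_one _))⟩,
      fun a b => Subtype.ext (Subtype.ext (map_mul _ a b))⟩ : Kˣ →* ↥(splitT K m)))
    fun g => by
      obtain ⟨w, hw⟩ := (mem_splitT hK).mp g.2
      exact ⟨w, Subtype.ext (Subtype.ext hw.symm)⟩

theorem index_splitT : (splitT K m).index = q₀ ^ 3 * (q₀ ^ 3 + 1) := by
  have e := (splitT K m).card_mul_index
  rw [card_splitT hK, card_twisted hK] at e
  have : 1 < q₀ := Nat.one_lt_pow (by omega) (by norm_num)
  refine Nat.eq_of_mul_eq_mul_left (show 0 < q₀ - 1 by omega) ?_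
  rw [e]
  ring

theorem split_case (hm : 1 ≤ m) {x : ↥G¹} {p : ℕ} (hp : p.Prime) (h5 : 5 ≤ p) (ho : orderOf x = p)
    (hpd : p ∣ q₀ - 1) : ∃ c : ↥G¹, c * x * c⁻¹ ∈ splitT K m ∧
      Subgroup.centralizer {c * x * c⁻¹} = splitT K m := by
  haveI := Fact.mk hp
  have hP := params hm
  have hnd : ¬ p ∣ (splitT K m).index := by
    rw [index_splitT hK]
    intro hd
    rcases hp.dvd_mul.mp hd with h | h
    · have h3 := hp.dvd_of_dvd_pow (hp.dvd_of_dvd_pow h)
      have := Nat.le_of_dvd (by norm_num) h3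
      omega
    · obtain ⟨n, hn⟩ : ∃ n, q₀ = n + 1 := ⟨q₀ - 1, by have := hP.le; omega⟩
      rw [hn, Nat.add_sub_cancel] at hpd
      rw [hn, show (n + 1) ^ 3 + 1 = n * (n ^ 2 + 3 * n + 3) + 2 by ring,
        Nat.dvd_add_right (dvd_mul_of_dvd_left hpd _)] at h
      have := Nat.le_of_dvd (by norm_num) h
      omega
  obtain ⟨P₀⟩ := (inferInstance : Nonempty (Sylow p ↥(splitT K m)))
  have hcard : Nat.card ↥((P₀ : Subgroup ↥(splitT K m)).map (splitT K m).subtype) =
      p ^ (Nat.card ↥G¹).factorization p := by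
    rw [Subgroup.card_map_of_injective (splitT K m).subtype_injective, P₀.card_eq_multiplicity]
    congr 1
    rw [← (splitT K m).card_mul_index, Nat.factorization_mul Nat.card_pos.ne'
      Subgroup.index_ne_zero_of_finite, Finsupp.add_apply,
      Nat.factorization_eq_zero_of_not_dvd hnd, add_zero]
  obtain ⟨P₁, hP₁⟩ := (IsPGroup.of_card (n := 1) (show Nat.card ↥(Subgroup.zpowers x) = p ^ 1 by
    rw [Nat.card_zpowers, ho, pow_one])).exists_le_sylow
  obtain ⟨c, hc⟩ := MulAction.exists_smul_eq ↥G¹ P₁ (Sylow.ofCard _ hcard)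
  have hmem : c * x * c⁻¹ ∈ splitT K m := by
    have : c * x * c⁻¹ ∈ ((Sylow.ofCard _ hcard : Sylow p ↥G¹) : Subgroup ↥G¹) := by
      rw [← hc]
      exact ⟨x, hP₁ (Subgroup.mem_zpowers x), rfl⟩
    exact Subgroup.map_subtype_le _ this
  refine ⟨c, hmem, ?_⟩
  set y := c * x * c⁻¹
  have hoy : orderOf y = p := by rw [orderOf_conj_eq, ho]
  have hle : splitT K m ≤ Subgroup.centralizer {y} := fun z hz => by
    obtain ⟨w, hw⟩ := (mem_splitT hK).mp hz
    obtain ⟨v, hv⟩ := (mem_splitT hK).mp hmem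
    exact Subgroup.mem_centralizer_singleton_iff.mpr (Subtype.ext (by
      show (z : GL chevG2.Idx K) * (y : GL chevG2.Idx K) = (y : GL chevG2.Idx K) * (z : GL chevG2.Idx K)
      rw [hw, show (y : GL chevG2.Idx K) = hT K m v from hv, ← map_mul, ← map_mul, mul_comm]))
  refine (Subgroup.eq_of_le_of_card_ge hle ?_).symm
  have hd := Subgroup.card_dvd_of_le hle
  rw [card_splitT hK] at hd ⊢
  have hy : y ∈ Subgroup.centralizer {y} := Subgroup.mem_centralizer_singleton_iff.mpr rfl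
  have hpc : p ∣ Nat.card ↥(Subgroup.centralizer {y}) := hoy ▸ Subgroup.orderOf_dvd_natCard _ hy
  obtain ⟨h1, h2, h3, -, -, -⟩ := hP.disjoint hp h5
  have key : ∀ {N : ℕ}, Nat.card ↥(Subgroup.centralizer {y}) ∣ N → ¬ (p ∣ q₀ - 1 ∧ p ∣ N) →
      False := fun hN hne => hne ⟨hpd, hpc.trans hN⟩
  rcases (toral_of_prime hK hp h5 hoy).shape with ⟨-, h | h | h | h⟩ | ⟨h, -⟩
  · exact Nat.le_of_dvd (by have := hP.le; omega) h
  · exact (key h h1).elim
  · exact (key h h3).elim
  · exact (key h h2).elim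
  · exact (key h h1).elim

theorem nE_conj_splitT {g : ↥G¹} (hg : g ∈ splitT K m) : nE * g * nE ∈ splitT K m := by
  obtain ⟨w, hw⟩ := (mem_splitT hK).mp hg
  have hf : n0 K * hT K m w * n0 K ∈ fixSub K m :=
    mul_mem (mul_mem (n0_mem (Q_of_card hK)) (hT_mem_fixSub (Q_of_card hK) w)) (n0_mem (Q_of_card hK))
  obtain ⟨u, hu⟩ := mem_diag_fix (n0_conj_hT_mem (m := m) w) hf
  refine (mem_splitT hK).mpr ⟨u, ?_⟩
  show n0 K * (g : GL chevG2.Idx K) * n0 K = _
  rw [hw, hu]

/-- The normaliser of the split torus. -/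
theorem relIndex_splitT {x : ↥G¹} {p : ℕ} (hp : p.Prime) (h5 : 5 ≤ p) (ho : orderOf x = p)
    (hx : x ∈ splitT K m) :
    (splitT K m).relIndex (Subgroup.normalizer (splitT K m : Set ↥G¹)) = 2 := by
  set T := splitT K m
  set N := Subgroup.normalizer (T : Set ↥G¹)
  have hn : (nE : ↥G¹) ∈ N := by
    have hinv : (nE : ↥G¹)⁻¹ = nE := inv_eq_of_mul_eq_one_right (Subtype.ext n0_mul_self)
    refine Subgroup.mem_normalizer_iff.mpr fun g => ⟨fun hg => hinv.symm ▸ nE_conj_splitT hK hg,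
      fun hg => ?_⟩
    rw [hinv] at hg
    have := nE_conj_splitT hK hg
    rwa [show (nE : ↥G¹) * (nE * g * nE) * nE = (nE * nE) * g * (nE * nE) by group,
      show (nE : ↥G¹) * nE = 1 from Subtype.ext n0_mul_self, one_mul, mul_one] at this
  have hnT : (nE : ↥G¹) ∉ T := fun h => by
    obtain ⟨w, hw⟩ := (mem_splitT hK).mp h
    exact n0_not_mem_borel (K := K)
      (show n0 K ∈ chevG2.borelSubgroup K from
        (show n0 K = hT K m w from hw) ▸ Subgroup.mem_sup_right (hT_mem_diagonal w))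
  obtain ⟨w, hw⟩ := (mem_splitT hK).mp hx
  have hw1 : w ≠ 1 ∧ w ≠ -1 := by
    have ho' : orderOf w = p := by
      rw [← orderOf_injective (hT K m) hT_injective w, ← hw, Subgroup.orderOf_coe, ho]
    refine ⟨fun e => ?_, fun e => ?_⟩
    · rw [e, orderOf_one] at ho'; omega
    · have hd : orderOf w ∣ 2 := orderOf_dvd_of_pow_eq_one (by rw [e, sq, neg_one_sq_units])
      rw [ho'] at hd
      have := Nat.le_of_dvd (by norm_num) hd
      omega
  -- the torus element fixes only the two base points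
  have hfix : ∀ (g : ↥G¹) (v : Kˣ), (g : GL chevG2.Idx K) = hT K m v → v ≠ 1 → v ≠ -1 →
      ∀ z : ↥G¹ ⧸ B¹, g • z = z → z = QuotientGroup.mk 1 ∨ z = QuotientGroup.mk nE := by
    intro g v hv hv1 hv2 z hz
    obtain ⟨a, rfl⟩ := QuotientGroup.mk_surjective z
    rcases bruhat_twisted hK a.2 with ⟨t, u, b, s, e⟩ | ⟨t, u, b, s, t', u', b', e⟩
    · left
      refine QuotientGroup.eq.mpr ?_
      rw [mul_one, Subgroup.mem_subgroupOf, Subgroup.mem_inf]
      exact ⟨inv_mem (e ▸ eU_hT_mem_borel t u b s), SetLike.coe_mem _⟩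
    · have hz' : (QuotientGroup.mk a : ↥G¹ ⧸ B¹) =
          QuotientGroup.mk (⟨eU K m t u b, eU_mem_twisted t u b⟩ * nE) := by
        refine QuotientGroup.eq.mpr ?_
        rw [Subgroup.mem_subgroupOf, Subgroup.mem_inf]
        refine ⟨?_, SetLike.coe_mem _⟩
        show (a : GL chevG2.Idx K)⁻¹ * (eU K m t u b * n0 K) ∈ _
        rw [e, show (eU K m t u b * hT K m s * n0 K * eU K m t' u' b')⁻¹ * (eU K m t u b * n0 K) =
          (eU K m t' u' b')⁻¹ * ((n0 K)⁻¹ * (hT K m s)⁻¹ * n0 K) by group, n0_inv, ← map_inv]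
        exact mul_mem (inv_mem (Subgroup.mem_sup_left (eU_pos t' u' b')))
          (Subgroup.mem_sup_right (n0_conj_hT_mem _))
      rw [hz'] at hz ⊢
      obtain ⟨rfl, rfl, hu⟩ := hT_commute_eU hK hv1
        ((smul_point_iff hK v t u b ⟨_, eU_mem_twisted t u b⟩ rfl g hv).1 hz)
      rcases hu with rfl | rfl
      · right
        rw [show (⟨eU K m (0 : K) 0 0, eU_mem_twisted 0 0 0⟩ : ↥G¹) = 1 from Subtype.ext eU_zero,
          one_mul]
      · exact absurd rfl hv2
  have hmem : ∀ g ∈ N, g ∈ T ∨ nE * g ∈ T := by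
    intro g hg
    have hgx : g⁻¹ * x * g ∈ T := by
      have := (Subgroup.mem_normalizer_iff.mp (inv_mem hg) x).mp hx
      rwa [inv_inv] at this
    obtain ⟨v, hv⟩ := (mem_splitT hK).mp hgx
    have hxfix : ∀ z : ↥G¹ ⧸ B¹, (g⁻¹ * x * g) • z = z → x • (g • z) = g • z := fun z hz => by
      rw [smul_smul, show x * g = g * (g⁻¹ * x * g) by group, mul_smul, hz]
    obtain ⟨h1, h2⟩ := (stab_two hK _).2 ⟨v, hv⟩
    have hne : g • (QuotientGroup.mk 1 : ↥G¹ ⧸ B¹) ≠ g • QuotientGroup.mk nE := fun h => by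
      have h' := smul_left_cancel g h
      have hd := QuotientGroup.eq.mp h'
      rw [inv_one, one_mul] at hd
      exact n0_not_mem_borel (K := K) hd.1
    have hn1 : (nE : ↥G¹) • (QuotientGroup.mk 1 : ↥G¹ ⧸ B¹) = QuotientGroup.mk nE := by
      rw [MulAction.Quotient.smul_mk, smul_eq_mul, mul_one]
    have hnn : (nE : ↥G¹) • (QuotientGroup.mk nE : ↥G¹ ⧸ B¹) = QuotientGroup.mk 1 := by
      rw [MulAction.Quotient.smul_mk, smul_eq_mul,
        show (nE : ↥G¹) * nE = 1 from Subtype.ext n0_mul_self]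
    rcases hfix x w hw hw1.1 hw1.2 _ (hxfix _ h1) with a1 | a1 <;>
      rcases hfix x w hw hw1.1 hw1.2 _ (hxfix _ h2) with a2 | a2
    · exact absurd (a1.trans a2.symm) hne
    · exact Or.inl ((mem_splitT hK).mpr ((stab_two hK g).1 ⟨a1, a2⟩))
    · exact Or.inr ((mem_splitT hK).mpr ((stab_two hK _).1
        ⟨by rw [mul_smul, a1, hnn], by rw [mul_smul, a2, hn1]⟩))
    · exact absurd (a1.trans a2.symm) hne
  rw [Subgroup.relIndex, Subgroup.index_eq_two_iff]
  refine ⟨⟨nE, hn⟩, fun b => ?_⟩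
  simp only [Subgroup.mem_subgroupOf, Subgroup.coe_mul]
  rcases hmem b b.2 with h | h
  · refine Or.inr ⟨h, fun h' => hnT ?_⟩
    have := mul_mem (inv_mem h) h'
    rwa [inv_mul_cancel_left] at this
  · have hb' : (b : ↥G¹) * nE ∈ T := by
      have := nE_conj_splitT hK h
      rwa [show (nE : ↥G¹) * (nE * (b : ↥G¹)) * nE = (nE * nE) * ((b : ↥G¹) * nE) by group,
        show (nE : ↥G¹) * nE = 1 from Subtype.ext n0_mul_self, one_mul] at this
    refine Or.inl ⟨hb', fun h' => hnT ?_⟩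
    have := mul_mem (inv_mem h') hb'
    rwa [inv_mul_cancel_left] at this

/-! ### The torus of order `q + 1` -/

omit hK [CharP K 3] in
/-- An element of SL₂ without a fixed line commutes with an element of square `-1`. -/
theorem exists_quarter {X : SL(2, K)} (hns : ¬ IsSquare (-1 : K))
    (hirr : ∀ l : K, l * l - (X.1 0 0 + X.1 1 1) * l + 1 ≠ 0) (h2 : (2 : K) ≠ 0) :
    ∃ Y : SL(2, K), Y * X = X * Y ∧ Y.1 * Y.1 = -1 := by
  set t := X.1 0 0 + X.1 1 1 with ht
  have hdet : X.1 0 0 * X.1 1 1 - X.1 0 1 * X.1 1 0 = 1 := (Matrix.det_fin_two X.1).symm.trans X.2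
  have hsq : IsSquare (4 - t ^ 2) := by
    by_contra hc
    obtain ⟨e, he⟩ : IsSquare (t ^ 2 - 4) := by
      have hmul : ∀ a b : K, ¬ IsSquare a → ¬ IsSquare b → IsSquare (a * b) := fun a b ha hb => by
        have h2' : ringChar K ≠ 2 := fun h => h2 (by
          have := ringChar.Nat.cast_ringChar (R := K)
          rw [h] at this; exact_mod_cast this)
        haveI := Classical.decEq K
        have ha0 : a ≠ 0 := fun h => ha ⟨0, by rw [h, mul_zero]⟩
        have hb0 : b ≠ 0 := fun h => hb ⟨0, by rw [h, mul_zero]⟩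
        exact (quadraticChar_one_iff_isSquare (mul_ne_zero ha0 hb0)).mp (by
          rw [map_mul, (quadraticChar_neg_one_iff_not_isSquare).mpr ha,
            (quadraticChar_neg_one_iff_not_isSquare).mpr hb]
          rfl)
      rw [show t ^ 2 - 4 = -1 * (4 - t ^ 2) by ring]
      exact hmul _ _ hns hc
    refine hirr ((t + e) / 2) ?_
    field_simp
    linear_combination (-1 : K) * he
  obtain ⟨δ, hδ⟩ := hsq
  have hδ0 : δ ≠ 0 := fun h => by
    refine hirr (t / 2) ?_
    field_simp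
    rw [h, mul_zero] at hδ
    linear_combination hδ
  refine ⟨⟨!![(2 * X.1 0 0 - t) / δ, 2 * X.1 0 1 / δ; 2 * X.1 1 0 / δ, (2 * X.1 1 1 - t) / δ], ?_⟩,
    ?_, ?_⟩
  · rw [Matrix.det_fin_two_of]
    field_simp
    rw [ht]
    linear_combination 4 * hdet + hδ
  · refine Subtype.ext ?_
    show !![(2 * X.1 0 0 - t) / δ, 2 * X.1 0 1 / δ; 2 * X.1 1 0 / δ, (2 * X.1 1 1 - t) / δ] * X.1 =
      X.1 * !![(2 * X.1 0 0 - t) / δ, 2 * X.1 0 1 / δ; 2 * X.1 1 0 / δ, (2 * X.1 1 1 - t) / δ]
    ext i j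
    fin_cases i <;> fin_cases j <;>
      simp [Matrix.mul_apply, Fin.sum_univ_two, ht] <;> field_simp <;> ring
  · ext i j
    fin_cases i <;> fin_cases j <;>
      simp [Matrix.mul_apply, Fin.sum_univ_two, ht] <;> field_simp <;>
      first
        | linear_combination (4 : K) * hdet + hδ
        | linear_combination (-4 : K) * hdet - hδ
        | ring

omit hK [CharP K 3] in
/-- An element of SL₂ with a fixed line has order dividing `2 · 3 · (q - 1)` up to sign. -/
theorem pow_of_eigenvalue [CharP K 3] {X : SL(2, K)} {l : K}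
    (hl : l * l - (X.1 0 0 + X.1 1 1) * l + 1 = 0) :
    X ^ (6 * (Fintype.card K - 1)) = 1 := by
  set N := Fintype.card K - 1
  set t := X.1 0 0 + X.1 1 1 with ht
  have hdet : X.1 0 0 * X.1 1 1 - X.1 0 1 * X.1 1 0 = 1 := (Matrix.det_fin_two X.1).symm.trans X.2
  have hl0 : l ≠ 0 := fun h => by simp [h] at hl
  set A := X.1 - l • (1 : Matrix (Fin 2) (Fin 2) K) with hA
  set B := X.1 - l⁻¹ • (1 : Matrix (Fin 2) (Fin 2) K) with hB
  have hsum : t = l + l⁻¹ := by field_simp; linear_combination -hl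
  have hAB : A * B = 0 := by
    ext i j
    fin_cases i <;> fin_cases j <;>
      simp [hA, hB, Matrix.mul_apply, Fin.sum_univ_two] <;> rw [ht] at hsum <;>
      first
        | linear_combination (X.1 0 0) * hsum - hdet + (mul_inv_cancel₀ hl0)
        | linear_combination (X.1 1 1) * hsum - hdet + (mul_inv_cancel₀ hl0)
        | linear_combination (X.1 0 1) * hsum
        | linear_combination (X.1 1 0) * hsum
  have hN : ∀ a : K, a ≠ 0 → a ^ N = 1 := fun a ha => FiniteField.pow_card_sub_one_eq_one a ha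
  refine Subtype.ext ?_
  rw [Matrix.SpecialLinearGroup.coe_pow, Matrix.SpecialLinearGroup.coe_one]
  by_cases hll : l = l⁻¹
  · have hA2 : A * A = 0 := by
      have e : B = A := by rw [hA, hB, ← hll]
      rwa [e] at hAB
    haveI : CharP (Matrix (Fin 2) (Fin 2) K) 3 := inferInstance
    have hcomm : Commute X.1 (l • (1 : Matrix (Fin 2) (Fin 2) K)) := (Commute.one_right _).smul_right l
    have h3 : X.1 ^ 3 = (l ^ 3) • (1 : Matrix (Fin 2) (Fin 2) K) := by
      have e := sub_pow_char_of_commute (p := 3) hcomm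
      rw [← hA, show A ^ 3 = 0 by rw [pow_succ, sq, hA2, zero_mul]] at e
      rw [smul_pow, one_pow] at e
      exact sub_eq_zero.mp e.symm
    rw [show 6 * N = 3 * (2 * N) by ring, pow_mul, h3, smul_pow, one_pow, ← pow_mul,
      show 3 * (2 * N) = N * 6 by ring, pow_mul, hN l hl0, one_pow, one_smul]
  · have key : X.1 ^ N = 1 := by
      have hne : l - l⁻¹ ≠ 0 := sub_ne_zero.mpr hll
      have e1 : ∀ n : ℕ, X.1 ^ n * B = l ^ n • B := by
        intro n
        induction n with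
        | zero => simp
        | succ n ih =>
          have hXB : X.1 * B = l • B := by
            rw [← sub_eq_zero, ← hAB, hA, sub_mul, smul_mul_assoc, one_mul]
          rw [pow_succ, mul_assoc, hXB, mul_smul_comm, ih, smul_smul, ← pow_succ']
      have hBA : B * A = 0 := by
        have hc : Commute A B :=
          (((Commute.refl X.1).sub_right ((Commute.one_right _).smul_right _)).sub_left
            (((Commute.one_left _).smul_left l).sub_right
              ((Commute.one_right _).smul_right _ |>.smul_left l)))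
        rw [← hc.eq, hAB]
      have e2 : ∀ n : ℕ, X.1 ^ n * A = l⁻¹ ^ n • A := by
        intro n
        induction n with
        | zero => simp
        | succ n ih =>
          have hXA : X.1 * A = l⁻¹ • A := by
            rw [← sub_eq_zero, ← hBA, hB, sub_mul, smul_mul_assoc, one_mul]
          rw [pow_succ, mul_assoc, hXA, mul_smul_comm, ih, smul_smul, ← pow_succ']
      have hone : (l - l⁻¹) • (1 : Matrix (Fin 2) (Fin 2) K) = B - A := by
        rw [hA, hB, sub_smul]; abel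
      have e3 : (l - l⁻¹) • (X.1 ^ N) = (l - l⁻¹) • (1 : Matrix (Fin 2) (Fin 2) K) := by
        rw [← mul_one (X.1 ^ N), ← mul_smul_comm, hone, mul_sub, e1, e2, hN l hl0,
          hN _ (inv_ne_zero hl0), one_smul, one_smul]
      exact smul_right_injective _ hne e3
    rw [mul_comm 6 N, pow_mul, key, one_pow]

/-- An element of prime order dividing `q + 1` centralises a group of order four. -/
theorem four_dvd_card (hm : 1 ≤ m) {x : ↥G¹} {p : ℕ} (hp : p.Prime) (h5 : 5 ≤ p)
    (ho : orderOf x = p) (hpd : p ∣ q₀ + 1) : 4 ∣ Nat.card ↥(Subgroup.centralizer {x}) := by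
  haveI := Fact.mk hp
  have hP := params hm
  set C1 : Subgroup ↥G¹ := Subgroup.centralizer {invE}
  have hidx : ¬ p ∣ C1.index := by
    have e := C1.card_mul_index
    rw [card_centralizer_invE hK, card_twisted hK] at e
    obtain ⟨n, hn⟩ : ∃ n, q₀ = n + 2 := ⟨q₀ - 2, by have := hP.le; omega⟩
    rw [hn] at e hpd
    rw [show (n + 2) ^ 2 - 1 = (n + 1) * (n + 3) by
        rw [show (n + 2) ^ 2 = (n + 1) * (n + 3) + 1 by ring, Nat.add_sub_cancel],
      show n + 2 - 1 = n + 1 from rfl] at e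
    have he : C1.index = (n + 2) ^ 2 * (n * (n + 2 + 1) + 3) :=
      Nat.eq_of_mul_eq_mul_left (show 0 < (n + 2) * ((n + 1) * (n + 3)) by positivity)
        (by rw [e]; ring)
    rw [he]
    intro hd
    rcases hp.dvd_mul.mp hd with h | h
    · have h1 := hp.dvd_of_dvd_pow h
      have := Nat.le_of_dvd (by norm_num) ((Nat.dvd_add_right h1).mp hpd)
      omega
    · have := Nat.le_of_dvd (by norm_num)
        ((Nat.dvd_add_right (dvd_mul_of_dvd_right hpd _)).mp h)
      omega
  obtain ⟨P₀⟩ := (inferInstance : Nonempty (Sylow p ↥C1))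
  have hcard : Nat.card ↥((P₀ : Subgroup ↥C1).map C1.subtype) =
      p ^ (Nat.card ↥G¹).factorization p := by
    rw [Subgroup.card_map_of_injective C1.subtype_injective, P₀.card_eq_multiplicity]
    congr 1
    rw [← C1.card_mul_index, Nat.factorization_mul Nat.card_pos.ne' Subgroup.index_ne_zero_of_finite,
      Finsupp.add_apply, Nat.factorization_eq_zero_of_not_dvd hidx, add_zero]
  obtain ⟨P₁, hP₁⟩ := (IsPGroup.of_card (n := 1) (show Nat.card ↥(Subgroup.zpowers x) = p ^ 1 by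
    rw [Nat.card_zpowers, ho, pow_one])).exists_le_sylow
  obtain ⟨c, hc⟩ := MulAction.exists_smul_eq ↥G¹ P₁ (Sylow.ofCard _ hcard)
  have hyC : c * x * c⁻¹ ∈ C1 := by
    have : c * x * c⁻¹ ∈ ((Sylow.ofCard _ hcard : Sylow p ↥G¹) : Subgroup ↥G¹) := by
      rw [← hc]
      exact ⟨x, hP₁ (Subgroup.mem_zpowers x), rfl⟩
    exact Subgroup.map_subtype_le _ this
  obtain ⟨e⟩ := centralizer_iso hK
  set y : ↥C1 := ⟨c * x * c⁻¹, hyC⟩ with hy
  have hoy : orderOf y = p := by rw [← Subgroup.orderOf_coe, hy, orderOf_conj_eq, ho]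
  have hy1 : (e y).1 = 1 := by
    have h2 : ∀ z : Multiplicative (ZMod 2), z ^ 2 = 1 := by decide
    have hp1 : (e y).1 ^ p = 1 := by
      rw [← Prod.pow_fst, ← map_pow, ← hoy, pow_orderOf_eq_one, map_one, Prod.fst_one]
    obtain ⟨k, hk⟩ := hp.odd_of_ne_two (show p ≠ 2 by omega)
    rwa [hk, pow_succ, pow_mul, h2, one_pow, one_mul] at hp1
  obtain ⟨X, hX⟩ := QuotientGroup.mk_surjective (e y).2
  have hX' : ∀ n : ℕ, X ^ n = 1 → p ∣ n := fun n hn => by
    rw [← hoy, orderOf_dvd_iff_pow_eq_one]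
    apply e.injective
    rw [map_pow, map_one]
    refine Prod.ext ?_ ?_
    · rw [Prod.pow_fst, hy1, one_pow, Prod.fst_one]
    · rw [Prod.pow_snd, ← hX, ← QuotientGroup.mk_pow, hn, Prod.snd_one]; rfl
  have h2 : (2 : K) ≠ 0 := fun h => one_ne_zero (α := K) (by
    linear_combination CharP.ofNat_eq_zero K 3 - h)
  have hirr : ∀ l : K, l * l - (X.1 0 0 + X.1 1 1) * l + 1 ≠ 0 := fun l hl => by
    have hd := hX' _ (pow_of_eigenvalue hl)
    rw [hK] at hd
    rcases hp.dvd_mul.mp hd with h | h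
    · rcases hp.dvd_mul.mp (show p ∣ 2 * 3 from h) with h' | h' <;>
        have := Nat.le_of_dvd (by norm_num) h' <;> omega
    · exact (hP.disjoint hp h5).1 ⟨h, hpd⟩
  obtain ⟨Y, hYX, hYY⟩ := exists_quarter (not_isSquare_neg_one hK) hirr h2
  set P2 : Type _ := Matrix.ProjectiveSpecialLinearGroup (Fin 2) K
  have hcen : Y * Y ∈ Subgroup.center SL(2, K) := by
    rw [Matrix.SpecialLinearGroup.mem_center_iff]
    refine ⟨-1, by simp, ?_⟩
    rw [Matrix.SpecialLinearGroup.coe_mul, hYY]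
    ext i j
    fin_cases i <;> fin_cases j <;> simp
  have hYne : (QuotientGroup.mk Y : P2) ≠ 1 := fun h => by
    obtain ⟨s, -, hs⟩ := Matrix.SpecialLinearGroup.mem_center_iff.mp ((QuotientGroup.eq_one_iff _).mp h)
    refine not_isSquare_neg_one hK ⟨s, ?_⟩
    have := congrFun (congrFun hYY 0) 0
    rw [← hs] at this
    simpa [Matrix.mul_apply, Fin.sum_univ_two] using this.symm
  set j : ↥C1 := e.symm (1, QuotientGroup.mk Y) with hj
  have hjy : Commute (j : ↥G¹) (c * x * c⁻¹) := by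
    have : Commute j y := e.injective (by
      rw [map_mul, map_mul, hj, MulEquiv.apply_symm_apply]
      refine Prod.ext (by simp [hy1]) ?_
      show (QuotientGroup.mk Y : P2) * (e y).2 = (e y).2 * QuotientGroup.mk Y
      rw [← hX, ← QuotientGroup.mk_mul, ← QuotientGroup.mk_mul, hYX])
    exact congrArg Subtype.val this.eq
  have hjj : (j : ↥G¹) * j = 1 := by
    have : j * j = 1 := e.injective (by
      rw [map_mul, hj, MulEquiv.apply_symm_apply, map_one]
      refine Prod.ext (by simp) ?_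
      show (QuotientGroup.mk Y : P2) * QuotientGroup.mk Y = 1
      rw [← QuotientGroup.mk_mul]
      exact (QuotientGroup.eq_one_iff _).mpr hcen)
    exact congrArg Subtype.val this
  have hj1 : (j : ↥G¹) ≠ 1 := fun h => hYne (by
    have : j = 1 := Subtype.ext h
    rw [hj, MulEquiv.map_eq_one_iff] at this
    exact congrArg Prod.snd this)
  have hji : (j : ↥G¹) ≠ invE := by
    intro h
    have hmem : j ∈ Subgroup.center ↥C1 := Subgroup.mem_center_iff.mpr fun z => Subtype.ext (by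
      rw [Subgroup.coe_mul, Subgroup.coe_mul, h]
      exact Subgroup.mem_centralizer_singleton_iff.mp z.2)
    have hYc : (QuotientGroup.mk Y : P2) ∈ Subgroup.center P2 := Subgroup.mem_center_iff.mpr fun z => by
      have := congrArg (fun w => (e w).2) (Subgroup.mem_center_iff.mp hmem (e.symm (1, z)))
      simpa [hj] using this
    have hu := (Subgroup.mem_center_iff.mp hYc (QuotientGroup.mk (upT 1)))
    rw [← QuotientGroup.mk_mul, ← QuotientGroup.mk_mul] at hu
    obtain ⟨s, -, hs⟩ := Matrix.SpecialLinearGroup.mem_center_iff.mp (QuotientGroup.eq.mp hu)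
    have e' : (Y * upT (1 : K)).1 = (upT (1 : K) * Y).1 * Matrix.scalar (Fin 2) s := by
      rw [hs, ← Matrix.SpecialLinearGroup.coe_mul, mul_inv_cancel_left]
    rw [Matrix.SpecialLinearGroup.coe_mul, Matrix.SpecialLinearGroup.coe_mul] at e'
    have e10 := congrFun (congrFun e' 1) 0
    have e00 := congrFun (congrFun e' 0) 0
    have a00 := congrFun (congrFun hYY 0) 0
    simp [upT, Matrix.mul_apply, Matrix.vecMul, dotProduct, Fin.sum_univ_two] at e10 e00 a00
    have hc0 : Y.1 1 0 = 0 := by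
      by_contra hc0
      have hs1 : s = 1 := mul_left_cancel₀ hc0 (by rw [mul_one]; exact e10.symm)
      rw [hs1, mul_one] at e00
      exact hc0 (add_left_cancel (a := Y.1 0 0) (by rw [add_zero]; exact e00.symm))
    refine not_isSquare_neg_one hK ⟨Y.1 0 0, ?_⟩
    rw [hc0, mul_zero, add_zero] at a00
    exact a00.symm
  have hcomm : (invE : ↥G¹) * (j : ↥G¹) = (j : ↥G¹) * invE := (Subgroup.mem_centralizer_singleton_iff.mp j.2).symm
  -- move back
  set i' := c⁻¹ * invE * c
  set j' := c⁻¹ * (j : ↥G¹) * c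
  have hconj : ∀ a : ↥G¹, Commute a (c * x * c⁻¹) → c⁻¹ * a * c ∈ Subgroup.centralizer {x} :=
    fun a ha => Subgroup.mem_centralizer_singleton_iff.mpr (by
      calc c⁻¹ * a * c * x = c⁻¹ * (a * (c * x * c⁻¹)) * c := by group
        _ = _ := by rw [ha.eq]; group)
  have hinj : Function.Injective (fun a : ↥G¹ => c⁻¹ * a * c) := fun a b h =>
    mul_left_cancel (mul_right_cancel h)
  have hmul : ∀ a b : ↥G¹, c⁻¹ * a * c * (c⁻¹ * b * c) = c⁻¹ * (a * b) * c := fun a b => by group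
  obtain ⟨V, hV4, hV⟩ := exists_four_subgroup
    (p := (⟨i', hconj _ (Subgroup.mem_centralizer_singleton_iff.mp hyC).symm⟩ :
      ↥(Subgroup.centralizer {x})))
    (q := ⟨j', hconj _ hjy⟩)
    (Subtype.ext (by show i' * i' = 1; rw [hmul, invE_mul_self]; group))
    (Subtype.ext (by show j' * j' = 1; rw [hmul, hjj]; group))
    (Subtype.ext (by show i' * j' = j' * i'; rw [hmul, hmul, hcomm]))
    (fun h => invE_ne_one hK (hinj (by
      show c⁻¹ * invE * c = c⁻¹ * 1 * c
      rw [show c⁻¹ * invE * c = i' from rfl, show i' = 1 from congrArg Subtype.val h]; group)))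
    (fun h => hj1 (hinj (by
      show c⁻¹ * (j : ↥G¹) * c = c⁻¹ * 1 * c
      rw [show c⁻¹ * (j : ↥G¹) * c = j' from rfl, show j' = 1 from congrArg Subtype.val h]; group)))
    (fun h => hji (hinj (congrArg Subtype.val h).symm))
  exact hV4 ▸ Subgroup.card_subgroup_dvd_card V

/-! ### The three types of centraliser -/

/-- The order data of a centraliser. -/
theorem torus_cases (hm : 1 ≤ m) {x : ↥G¹} {p : ℕ} (hp : p.Prime) (h5 : 5 ≤ p) (ho : orderOf x = p) :
    ∃ s d, Nat.card ↥(Subgroup.centralizer {x}) = s * d ∧ Nat.Coprime 6 d ∧ p ∣ d ∧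
      ((s = 2 ∧ d = (q₀ - 1) / 2 ∧ p ∣ q₀ - 1) ∨ (s = 4 ∧ d ∣ (q₀ + 1) / 4 ∧ p ∣ q₀ + 1) ∨
        (s = 1 ∧ d ∣ q₀ + 1 - r₀ ∧ p ∣ q₀ + 1 - r₀) ∨
        (s = 1 ∧ d ∣ q₀ + r₀ + 1 ∧ p ∣ q₀ + r₀ + 1)) := by
  have hP := params hm
  set C := Subgroup.centralizer {x}
  have hpc : p ∣ Nat.card ↥C :=
    ho ▸ Subgroup.orderOf_dvd_natCard _ (Subgroup.mem_centralizer_singleton_iff.mpr rfl)
  have hodd : ∀ {N : ℕ}, Nat.card ↥C ∣ N → Nat.Coprime 6 N → Nat.Coprime 6 (Nat.card ↥C) :=
    fun h1 h2 => Nat.Coprime.coprime_dvd_right h1 h2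
  have hsplit : p ∣ q₀ - 1 → ∃ s d, Nat.card ↥C = s * d ∧ Nat.Coprime 6 d ∧ p ∣ d ∧
      (s = 2 ∧ d = (q₀ - 1) / 2 ∧ p ∣ q₀ - 1) := fun hpd => by
    obtain ⟨c, -, hc⟩ := split_case hK hm hp h5 ho hpd
    have hcard : Nat.card ↥C = q₀ - 1 := by
      have e : (C).map (MulAut.conj c).toMonoidHom = splitT K m := by
        rw [← hc]
        ext z
        simp only [Subgroup.mem_map, MulEquiv.coe_toMonoidHom, MulAut.conj_apply, C,
          Subgroup.mem_centralizer_singleton_iff]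
        constructor
        · rintro ⟨a, ha, rfl⟩
          calc c * a * c⁻¹ * (c * x * c⁻¹) = c * (a * x) * c⁻¹ := by group
            _ = _ := by rw [ha]; group
        · intro hz
          refine ⟨c⁻¹ * z * c, ?_, by group⟩
          calc c⁻¹ * z * c * x = c⁻¹ * (z * (c * x * c⁻¹)) * c := by group
            _ = _ := by rw [hz]; group
      rw [← card_splitT hK, ← e, Subgroup.card_map_of_injective (MulAut.conj c).injective]
    have h2 := hP.mod8
    refine ⟨2, (q₀ - 1) / 2, by rw [hcard]; omega, hP.coprime_six_half, ?_, rfl, rfl, hpd⟩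
    rcases hp.dvd_mul.mp (show p ∣ 2 * ((q₀ - 1) / 2) by
      rwa [show 2 * ((q₀ - 1) / 2) = q₀ - 1 by omega]) with h | h
    · have := Nat.le_of_dvd (by norm_num) h; omega
    · exact h
  have hquarter : Nat.card ↥C ∣ q₀ + 1 → ∃ s d, Nat.card ↥C = s * d ∧ Nat.Coprime 6 d ∧ p ∣ d ∧
      (s = 4 ∧ d ∣ (q₀ + 1) / 4 ∧ p ∣ q₀ + 1) := fun hd => by
    obtain ⟨d, hd4⟩ := four_dvd_card hK hm hp h5 ho (hpc.trans hd)
    have h8 := hP.eight
    have hdd : d ∣ (q₀ + 1) / 4 := by
      rw [hd4] at hd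
      exact Nat.dvd_div_of_mul_dvd hd
    refine ⟨4, d, hd4, Nat.Coprime.coprime_dvd_right hdd hP.coprime_six_quarter, ?_, rfl, hdd,
      hpc.trans hd⟩
    rcases hp.dvd_mul.mp (hd4 ▸ hpc) with h | h
    · have := Nat.le_of_dvd (by norm_num) h; omega
    · exact h
  rcases (toral_of_prime hK hp h5 ho).shape with ⟨-, h | h | h | h⟩ | ⟨h, -⟩
  · obtain ⟨s, d, a, b, b', c'⟩ := hsplit (hpc.trans h)
    exact ⟨s, d, a, b, b', Or.inl c'⟩
  · obtain ⟨s, d, a, b, b', c'⟩ := hquarter h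
    exact ⟨s, d, a, b, b', Or.inr (Or.inl c')⟩
  · exact ⟨1, _, (one_mul _).symm, hodd h hP.coprime_six_b, hpc, Or.inr (Or.inr (Or.inr
      ⟨rfl, h, hpc.trans h⟩))⟩
  · exact ⟨1, _, (one_mul _).symm, hodd h hP.coprime_six_a, hpc, Or.inr (Or.inr (Or.inl
      ⟨rfl, h, hpc.trans h⟩))⟩
  · obtain ⟨s, d, a, b, b', c'⟩ := hquarter h
    exact ⟨s, d, a, b, b', Or.inr (Or.inl c')⟩

/-- The elements of a torus with no large prime in their order. -/
theorem small_iff {x g : ↥G¹} {p : ℕ} (hp : p.Prime) (h5 : 5 ≤ p) (ho : orderOf x = p) {s d : ℕ}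
    (hs : s = 1 ∨ s = 2 ∨ s = 4) (hcard : Nat.card ↥(Subgroup.centralizer {x}) = s * d)
    (hco : Nat.Coprime 6 d) (hg : g ∈ Subgroup.centralizer {x}) : ¬ IsBig g ↔ g ^ s = 1 := by
  have hgd : orderOf g ∣ s * d := hcard ▸ Subgroup.orderOf_dvd_natCard _ hg
  rw [← orderOf_dvd_iff_pow_eq_one]
  constructor
  · intro h
    refine Nat.Coprime.dvd_of_dvd_mul_right ?_ hgd
    refine Nat.coprime_of_dvd fun l hl hlg hld => h ⟨l, hl, ?_, hlg⟩
    by_contra hl5
    have := hl.two_le
    have hl6 : l ∣ 6 := by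
      rcases (show l = 2 ∨ l = 3 ∨ l = 4 by omega) with rfl | rfl | rfl
      · norm_num
      · norm_num
      · norm_num at hl
    exact hl.one_lt.ne' (Nat.dvd_one.mp (hco ▸ Nat.dvd_gcd hl6 hld))
  · rintro h ⟨l, hl, hl5, hlg⟩
    have hl4 : l ∣ 4 := (hlg.trans h).trans (by rcases hs with rfl | rfl | rfl <;> norm_num)
    have := Nat.le_of_dvd (by norm_num) hl4
    omega

theorem card_big_in_torus {x : ↥G¹} {p : ℕ} (hp : p.Prime) (h5 : 5 ≤ p) (ho : orderOf x = p)
    {s d : ℕ} (hs : s = 1 ∨ s = 2 ∨ s = 4)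
    (hcard : Nat.card ↥(Subgroup.centralizer {x}) = s * d) (hco : Nat.Coprime 6 d) :
    Nat.card {g : ↥G¹ | g ∈ Subgroup.centralizer {x} ∧ IsBig g} = s * d - s := by
  classical
  set C := Subgroup.centralizer {x}
  haveI hcomm : IsMulCommutative ↥C :=
    ⟨⟨fun a b => Subtype.ext ((toral_of_prime hK hp h5 ho).comm a a.2 b b.2)⟩⟩
  letI : CommGroup ↥C := { (inferInstance : Group ↥C) with mul_comm := hcomm.is_comm.comm }
  have hsd : Nat.Coprime s d := by
    rcases hs with rfl | rfl | rfl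
    · exact Nat.coprime_one_left d
    · exact hco.coprime_dvd_left (by norm_num)
    · exact (show Nat.Coprime 2 d from hco.coprime_dvd_left (by norm_num)).pow_left 2
  have hker := natCard_torsion hcard hsd
  let e : {g : ↥C // ¬ g ∈ (powMonoidHom s : ↥C →* ↥C).ker} ≃ {g : ↥G¹ | g ∈ C ∧ IsBig g} :=
    { toFun := fun g => ⟨g.1, g.1.2, by
        by_contra hb
        exact g.2 (Subtype.ext ((small_iff hK hp h5 ho hs hcard hco g.1.2).mp hb))⟩
      invFun := fun g => ⟨⟨g.1, g.2.1⟩, fun h =>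
        (small_iff hK hp h5 ho hs hcard hco g.2.1).mpr (congrArg Subtype.val h) g.2.2⟩ }
  rw [← Nat.card_congr e, Nat.card_eq_fintype_card, Fintype.card_subtype_compl,
    ← Nat.card_eq_fintype_card, ← Nat.card_eq_fintype_card, hcard]
  exact congrArg (s * d - ·) hker

/-- The elements conjugate into a given torus. -/
def InClass (x g : ↥G¹) : Prop :=
  ∃ c : ↥G¹, c * g * c⁻¹ ∈ Subgroup.centralizer {x} ∧ IsBig g

theorem card_inClass {x : ↥G¹} {p : ℕ} (hp : p.Prime) (h5 : 5 ≤ p) (ho : orderOf x = p) :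
    Nat.card {g : ↥G¹ // InClass x g} =
      (Subgroup.normalizer (Subgroup.centralizer {x} : Set ↥G¹)).index *
        Nat.card {g : ↥G¹ | g ∈ Subgroup.centralizer {x} ∧ IsBig g} := by
  set C := Subgroup.centralizer {x}
  refine natCard_pred_of_ti _ _ _ (fun n hn s hs => ⟨(Subgroup.mem_normalizer_iff.mp hn s).mp hs.1,
    (isBig_conj n s).mpr hs.2⟩) (fun g s hs h => ?_) fun g => ?_
  · obtain ⟨y, l, hl, hl5, hol, hyz, -⟩ := exists_root hs.2
    have hyC : y ∈ C := Subgroup.zpowers_le.mpr hs.1 hyz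
    have hyC' : g * y * g⁻¹ ∈ C := by
      obtain ⟨n, rfl⟩ := Subgroup.mem_zpowers_iff.mp hyz
      rw [← conj_zpow]
      exact zpow_mem h.1 n
    have e1 := cent_eq hK hp h5 ho hl hl5 hol hyC
    have e2 := cent_eq hK hp h5 ho hl hl5 (by rw [orderOf_conj_eq, hol]) hyC'
    refine Subgroup.mem_normalizer_iff.mpr fun z => ?_
    show z ∈ C ↔ g * z * g⁻¹ ∈ C
    conv_lhs => rw [show C = Subgroup.centralizer {x} from rfl, ← e1]
    conv_rhs => rw [show C = Subgroup.centralizer {x} from rfl, ← e2]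
    rw [Subgroup.mem_centralizer_singleton_iff, Subgroup.mem_centralizer_singleton_iff,
      show g * z * g⁻¹ * (g * y * g⁻¹) = g * (z * y) * g⁻¹ by group,
      show g * y * g⁻¹ * (g * z * g⁻¹) = g * (y * z) * g⁻¹ by group, mul_left_inj, mul_right_inj]
  · exact exists_congr fun c => ⟨fun h => ⟨h.1, (isBig_conj c g).mpr h.2⟩,
      fun h => ⟨h.1, (isBig_conj c g).mp h.2⟩⟩

end CfsgLib.Ree
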